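import Cfsg.Agent.UGT.C.BalTwo
import Cfsg.Agent.KFacts.AutLarge

/-!
# Local balance of groups with a large extraspecial subgroup, all of whose involutions are 2-central
-/

set_option autoImplicit false

namespace Cfsg.Agent.UGT.C.BalLarge

open Cfsg Cfsg.Agent.Co2Type.Quad Cfsg.Agent.LargeExtra.Base Cfsg.Agent.KFacts.AutLarge
  Cfsg.Agent.UGT.C.BalTwo

universe u

variable {K : Type u} [Group K] {Q : Subgroup K} {z : K}

/-- Fixed points of an involutory automorphism of an extraspecial group of order at least `2 ^ 7`. -/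
theorem exists_fixed [Finite K] (h : Large Q z) (hcard : 128 ≤ Nat.card Q) {t : MulAut K} (htz : t z = z)
    (htQ : ∀ x ∈ Q, t x ∈ Q) (htt : t * t = 1) : ∃ a ∈ Q, a * a = 1 ∧ a ≠ 1 ∧ a ≠ z ∧ t a = a := by
  classical
  have := Fintype.ofFinite K
  by_contra hcon
  push Not at hcon
  have hcon' : ∀ a ∈ Q, t a = a → a ≠ 1 → a ≠ z → a * a = z := by
    intro a ha hta ha1 haz
    rcases h.sq a ha with h1 | h1
    · exact absurd hta (hcon a ha h1 ha1 haz)
    · exact h1
  have htt' : ∀ x, t (t x) = x := fun x => congrArg (fun f : MulAut K => f x) htt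
  let sQ : Finset K := Finset.univ.filter (· ∈ Q)
  let sR : Finset K := Finset.univ.filter fun x => x ∈ Q ∧ t x = x
  let sE : Finset K := Finset.univ.filter fun x => x ∈ Q ∧ t x = x * z
  have hsQ : sQ.card = Nat.card Q := by
    rw [Nat.card_eq_fintype_card, Fintype.card_subtype]
  have hmR : ∀ x, x ∈ sR ↔ x ∈ Q ∧ t x = x := fun x => by simp [sR]
  have hmE : ∀ x, x ∈ sE ↔ x ∈ Q ∧ t x = x * z := fun x => by simp [sE]
  have hmQ : ∀ x, x ∈ sQ ↔ x ∈ Q := fun x => by simp [sQ]
  -- `|E| ≤ |R|`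
  have hER : sE.card ≤ sR.card := by
    rcases sE.eq_empty_or_nonempty with h0 | ⟨y, hy⟩
    · rw [h0]; simp
    · refine Finset.card_le_card_of_injOn (fun x => x * y⁻¹) ?_ (fun a _ b _ hab => mul_right_cancel hab)
      intro x hx
      obtain ⟨hyQ, hty⟩ := (hmE y).1 hy
      obtain ⟨hxQ, htx⟩ := (hmE x).1 hx
      refine (hmR _).2 ⟨Q.mul_mem hxQ (Q.inv_mem hyQ), ?_⟩
      rw [map_mul, map_inv, htx, hty, mul_inv_rev]
      group
  -- the commutator map
  let f : K → K := fun x => x⁻¹ * t x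
  have hfib : ∀ b ∈ sQ.image f, (sQ.filter fun x => f x = b).card ≤ sR.card := by
    intro b hb
    obtain ⟨y, hy, rfl⟩ := Finset.mem_image.1 hb
    refine Finset.card_le_card_of_injOn (fun x => x * y⁻¹) ?_ (fun a _ b _ hab => mul_right_cancel hab)
    intro x hx
    obtain ⟨hx1, hx2⟩ := Finset.mem_filter.1 hx
    refine (hmR _).2 ⟨Q.mul_mem ((hmQ x).1 hx1) (Q.inv_mem ((hmQ y).1 hy)), ?_⟩
    have h1 : x⁻¹ * t x = y⁻¹ * t y := hx2
    have h2 : t x = x * y⁻¹ * t y := by rw [mul_assoc, ← h1]; group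
    rw [map_mul, map_inv, h2]; group
  have h1 := Finset.card_le_mul_card_image sQ sR.card hfib
  have h2 : sQ.image f ⊆ {1, z} ∪ sE := by
    intro y hy
    obtain ⟨x, hx, rfl⟩ := Finset.mem_image.1 hy
    have hxQ := (hmQ x).1 hx
    have hyQ : f x ∈ Q := Q.mul_mem (Q.inv_mem hxQ) (htQ x hxQ)
    have hty : t (f x) = (f x)⁻¹ := by
      change t (x⁻¹ * t x) = (x⁻¹ * t x)⁻¹
      rw [map_mul, map_inv, htt']; group
    simp only [Finset.mem_union, Finset.mem_insert, Finset.mem_singleton]
    rcases h.sq _ hyQ with h3 | h3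
    · left
      have h4 : t (f x) = f x := by
        rw [hty]; exact inv_eq_of_mul_eq_one_right h3
      by_contra h5
      push Not at h5
      exact hcon _ hyQ h3 h5.1 h5.2 h4
    · right
      refine (hmE _).2 ⟨hyQ, ?_⟩
      rw [hty]
      apply inv_eq_of_mul_eq_one_right
      rw [← mul_assoc, h3, h.z_sq]
  have h3 : sR.card ≥ 9 := by
    by_contra h4
    have h5 : (sQ.image f).card ≤ 2 + sR.card := by
      refine (Finset.card_le_card h2).trans ((Finset.card_union_le _ _).trans ?_)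
      refine Nat.add_le_add ((Finset.card_insert_le _ _).trans ?_) hER
      simp
    have h6 : 128 ≤ sR.card * (2 + sR.card) := (hcard.trans (hsQ ▸ h1)).trans (Nat.mul_le_mul_left _ h5)
    have h7 : sR.card ≤ 8 := by omega
    have h8 : sR.card * (2 + sR.card) ≤ 8 * 10 := Nat.mul_le_mul h7 (by omega)
    omega
  -- pick three elements
  have pick : ∀ l : Finset K, l.card ≤ 8 → ∃ x ∈ sR, x ∉ l := by
    intro l hl
    by_contra h4
    push Not at h4
    have := Finset.card_le_card (show sR ⊆ l from h4)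
    omega
  have hzz := h.z_sq
  obtain ⟨x, hx, hxl⟩ := pick {1, z} ((Finset.card_insert_le _ _).trans (by simp))
  obtain ⟨hxQ, htx⟩ := (hmR x).1 hx
  simp only [Finset.mem_insert, Finset.mem_singleton, not_or] at hxl
  have hx2 := hcon' x hxQ htx hxl.1 hxl.2
  obtain ⟨y, hy, hyl⟩ := pick {1, z, x, x * z} (by
    refine (Finset.card_insert_le _ _).trans ?_
    refine (Nat.add_le_add_right (Finset.card_insert_le _ _) _).trans ?_
    refine (Nat.add_le_add_right (Nat.add_le_add_right (Finset.card_insert_le _ _) _) _).trans ?_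
    simp)
  obtain ⟨hyQ, hty⟩ := (hmR y).1 hy
  simp only [Finset.mem_insert, Finset.mem_singleton, not_or] at hyl
  have hy2 := hcon' y hyQ hty hyl.1 hyl.2.1
  have noncomm : ∀ x y : K, x ∈ Q → y ∈ Q → t x = x → t y = y → x * x = z → y * y = z → y ≠ x → y ≠ x * z →
      x * y = y * x * z := by
    intro x y hx hy htx hty hx2 hy2 hne1 hne2
    rcases h.comm x hx y hy with h4 | h4
    · exfalso
      have hxz := h.comm_z x hx
      have hinv : x⁻¹ = x * z := by
        apply inv_eq_of_mul_eq_one_right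
        rw [← mul_assoc, hx2, hzz]
      have h5 : (x * y) * (x * y) = 1 := by
        calc (x * y) * (x * y) = x * (y * x) * y := by group
          _ = x * (x * y) * y := by rw [h4]
          _ = (x * x) * (y * y) := by group
          _ = 1 := by rw [hx2, hy2, hzz]
      have h6 : t (x * y) = x * y := by rw [map_mul, htx, hty]
      have h7 : x * y = 1 ∨ x * y = z := by
        by_contra h8
        push Not at h8
        exact hcon _ (Q.mul_mem hx hy) h5 h8.1 h8.2 h6
      rcases h7 with h7 | h7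
      · apply hne2
        rw [← hinv]
        exact (inv_eq_of_mul_eq_one_right h7).symm
      · apply hne1
        calc y = x⁻¹ * (x * y) := by group
          _ = x * z * z := by rw [h7, hinv]
          _ = x := by rw [mul_assoc, hzz, mul_one]
    · exact h4
  have hxy := noncomm x y hxQ hyQ htx hty hx2 hy2 hyl.2.2.1 hyl.2.2.2
  obtain ⟨w, hw, hwl⟩ := pick ({1, z, x, x * z} ∪ {y, y * z, x * y, x * y * z}) (by
    refine (Finset.card_union_le _ _).trans ?_
    refine Nat.add_le_add (b := 4) (d := 4) ?_ ?_ <;>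
    · refine (Finset.card_insert_le _ _).trans ?_
      refine (Nat.add_le_add_right (Finset.card_insert_le _ _) _).trans ?_
      refine (Nat.add_le_add_right (Nat.add_le_add_right (Finset.card_insert_le _ _) _) _).trans ?_
      simp)
  obtain ⟨hwQ, htw⟩ := (hmR w).1 hw
  simp only [Finset.mem_union, Finset.mem_insert, Finset.mem_singleton, not_or] at hwl
  obtain ⟨⟨hw1, hw2', hw3, hw4⟩, hw5, hw6, hw7, hw8⟩ := hwl
  have hw2 := hcon' w hwQ htw hw1 hw2'
  have hxw := noncomm x w hxQ hwQ htx htw hx2 hw2 hw3 hw4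
  have hyw := noncomm y w hyQ hwQ hty htw hy2 hw2 hw5 hw6
  have hxz := h.comm_z x hxQ
  have hyz := h.comm_z y hyQ
  have hwz := h.comm_z w hwQ
  -- `(x y)² = z`
  have hp2 : (x * y) * (x * y) = z := by
    calc (x * y) * (x * y) = (x * y) * (y * x * z) := by rw [hxy]
      _ = x * (y * y) * x * z := by group
      _ = x * (z * x) * z := by rw [hy2]; group
      _ = x * (x * z) * z := by rw [hxz]
      _ = (x * x) * (z * z) := by group
      _ = z := by rw [hx2, hzz, mul_one]
  have hcomm : (x * y) * w = w * (x * y) := by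
    calc (x * y) * w = x * (y * w) := by group
      _ = x * (w * y * z) := by rw [hyw]
      _ = (x * w) * y * z := by group
      _ = (w * x * z) * y * z := by rw [hxw]
      _ = w * x * (z * y) * z := by group
      _ = w * x * (y * z) * z := by rw [hyz]
      _ = w * (x * y) * (z * z) := by group
      _ = w * (x * y) := by rw [hzz, mul_one]
  have hsq : (x * y * w) * (x * y * w) = 1 := by
    calc (x * y * w) * (x * y * w) = (x * y) * (w * (x * y)) * w := by group
      _ = (x * y) * ((x * y) * w) * w := by rw [hcomm]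
      _ = ((x * y) * (x * y)) * (w * w) := by group
      _ = 1 := by rw [hp2, hw2, hzz]
  have hinv : (x * y)⁻¹ = x * y * z := by
    apply inv_eq_of_mul_eq_one_right
    rw [← mul_assoc, hp2, hzz]
  have h4 : x * y * w = 1 ∨ x * y * w = z := by
    by_contra h8
    push Not at h8
    exact hcon _ (Q.mul_mem (Q.mul_mem hxQ hyQ) hwQ) hsq h8.1 h8.2 (by rw [map_mul, map_mul, htx, hty, htw])
  rcases h4 with h4 | h4
  · apply hw8
    rw [← hinv]
    exact (inv_eq_of_mul_eq_one_right h4).symm
  · apply hw7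
    calc w = (x * y)⁻¹ * (x * y * w) := by group
      _ = x * y * z * z := by rw [h4, hinv]
      _ = x * y := by rw [mul_assoc, hzz, mul_one]

/-- `z` satisfies `Chr`. -/
theorem chr [Finite K] (h : Large Q z) (hirr : Irr Q z) (hcard : 128 ≤ Nat.card Q)
    (hperf : commutator (Subgroup.centralizer ({z} : Set K)) = ⊤) {n₀ : K} (hin : n₀ * z * n₀⁻¹ ∈ Q)
    (hnz : n₀ * z * n₀⁻¹ ≠ z) (hgen : Subgroup.closure ({c : K | c * z = z * c} ∪ {n₀}) = ⊤) : Chr K z := by
  have hne : ∃ x ∈ Q, x ≠ 1 ∧ x ≠ z := by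
    obtain ⟨a, ha, -, ha1, haz, -⟩ := exists_fixed h hcard (t := 1) rfl (fun x hx => hx) (one_mul 1)
    exact ⟨a, ha, ha1, haz⟩
  refine ⟨Q, isPGroup h, fun q hq => h.comm_z q hq, fun α hα q hq => map_mem h hirr hne hα hq, ?_⟩
  intro α hα hodd
  rcases eq_one_or_conj h hperf hin hnz hgen α hα with h1 | h1
  · exact h1
  · have h2 : orderOf α ∣ 2 := by
      apply orderOf_dvd_of_pow_eq_one
      rw [h1, ← map_pow, pow_two, h.z_sq, map_one]
    have h3 : orderOf α = 1 := Nat.eq_one_of_dvd_coprimes (Nat.coprime_two_right.2 hodd) dvd_rfl h2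
    exact orderOf_eq_one_iff.1 h3

/-- An involutory map on a set of odd cardinality has a fixed point. -/
theorem exists_fixedPoint {α : Type*} [Finite α] (hodd : Odd (Nat.card α)) (f : α → α) (hf : ∀ a, f (f a) = a) :
    ∃ a, f a = a := by
  classical
  have := Fintype.ofFinite α
  have hfact : Fact (Nat.Prime 2) := ⟨Nat.prime_two⟩
  by_contra hcon
  push Not at hcon
  let g : Function.End α := f
  have h1 : Fintype.card α ≡ Fintype.card (Function.fixedPoints g) [MOD 2] :=
    Equiv.Perm.card_fixedPoints_modEq (f := g) (p := 2) (n := 1) (by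
      rw [pow_one, pow_two]
      exact funext fun a => hf a)
  have h2 : Fintype.card (Function.fixedPoints g) = 0 := by
    rw [Fintype.card_eq_zero_iff]
    exact ⟨fun a => hcon a.1 a.2⟩
  rw [h2, ← Nat.card_eq_fintype_card] at h1
  rw [Nat.odd_iff] at hodd
  unfold Nat.ModEq at h1
  omega

/-- **Main theorem.** -/
theorem locallyBalanced [Finite K] (hinj : Function.Injective (MulAut.conj : K →* MulAut K)) (h : Large Q z)
    (hirr : Irr Q z) (hcard : 128 ≤ Nat.card Q)
    (hperf : commutator (Subgroup.centralizer ({z} : Set K)) = ⊤)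
    (hodd : Odd (Subgroup.centralizer ({z} : Set K)).index) {n₀ : K} (hin : n₀ * z * n₀⁻¹ ∈ Q)
    (hnz : n₀ * z * n₀⁻¹ ≠ z) (hgen : Subgroup.closure ({c : K | c * z = z * c} ∪ {n₀}) = ⊤)
    (hconj : ∀ a ∈ Q, a * a = 1 → a ≠ 1 → ∃ k : K, k * z * k⁻¹ = a) : IsLocallyBalanced K := by
  intro H hH t ht
  have hchr := chr h hirr hcard hperf hin hnz hgen
  have hne : ∃ x ∈ Q, x ≠ 1 ∧ x ≠ z := by
    obtain ⟨a, ha, -, ha1, haz, -⟩ := exists_fixed h hcard (t := 1) rfl (fun x hx => hx) (one_mul 1)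
    exact ⟨a, ha, ha1, haz⟩
  have htt : (t : MulAut K) * t = 1 := by
    have h1 : t * t = 1 := by rw [← pow_two, ← ht]; exact pow_orderOf_eq_one t
    exact congrArg Subtype.val h1
  have htt' : ∀ x, (t : MulAut K) ((t : MulAut K) x) = x := fun x => congrArg (fun f : MulAut K => f x) htt
  -- a fixed conjugate of `z`
  obtain ⟨k, hk⟩ : ∃ k : K, (t : MulAut K) (k * z * k⁻¹) = k * z * k⁻¹ := by
    let Ω : Set K := {y | ∃ k : K, k * z * k⁻¹ = y}
    have hΩ : Nat.card Ω = (Subgroup.centralizer ({z} : Set K)).index := by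
      rw [Subgroup.index_eq_card]
      symm
      refine Nat.card_congr (Equiv.ofBijective (Quotient.lift (fun k : K => (⟨k * z * k⁻¹, k, rfl⟩ : Ω)) ?_) ⟨?_, ?_⟩)
      · intro a b hab
        rw [← Quotient.eq_iff_equiv] at hab
        have h1 := QuotientGroup.eq.1 hab
        rw [Subgroup.mem_centralizer_singleton_iff] at h1
        apply Subtype.ext
        change a * z * a⁻¹ = b * z * b⁻¹
        calc a * z * a⁻¹ = a * (z * (a⁻¹ * b)) * b⁻¹ := by group
          _ = a * ((a⁻¹ * b) * z) * b⁻¹ := by rw [h1]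
          _ = b * z * b⁻¹ := by group
      · intro a b hab
        induction a using QuotientGroup.induction_on with
        | H a =>
        induction b using QuotientGroup.induction_on with
        | H b =>
        have h1 : a * z * a⁻¹ = b * z * b⁻¹ := congrArg Subtype.val hab
        apply QuotientGroup.eq.2
        rw [Subgroup.mem_centralizer_singleton_iff]
        calc a⁻¹ * b * z = a⁻¹ * (b * z * b⁻¹) * b := by group
          _ = a⁻¹ * (a * z * a⁻¹) * b := by rw [h1]
          _ = z * (a⁻¹ * b) := by group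
      · rintro ⟨y, k, rfl⟩
        exact ⟨QuotientGroup.mk k, rfl⟩
    have hmap : ∀ y : Ω, (t : MulAut K) y ∈ Ω := by
      rintro ⟨y, k, rfl⟩
      obtain ⟨m, hm⟩ := exists_conj_z h hodd (t : MulAut K)
      refine ⟨(t : MulAut K) k * m, ?_⟩
      change _ = (t : MulAut K) (k * z * k⁻¹)
      rw [map_mul, map_mul, map_inv, hm]; group
    obtain ⟨⟨y, k, rfl⟩, hy⟩ := exists_fixedPoint (α := Ω) (hΩ ▸ hodd) (fun y => ⟨(t : MulAut K) y, hmap y⟩)
      (fun y => Subtype.ext (htt' y))
    exact ⟨k, congrArg Subtype.val hy⟩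
  -- the conjugate automorphism fixing `z`
  let s : MulAut K := (MulAut.conj k)⁻¹ * (t : MulAut K) * MulAut.conj k
  have hs : ∀ x, s x = k⁻¹ * (t : MulAut K) (k * x * k⁻¹) * k := by
    intro x
    change (MulAut.conj k)⁻¹ ((t : MulAut K) (k * x * k⁻¹)) = _
    rw [← map_inv, MulAut.conj_apply, inv_inv]
  have hsz : s z = z := by
    rw [hs, hk]; group
  have hss : s * s = 1 := by
    calc s * s = (MulAut.conj k)⁻¹ * ((t : MulAut K) * t) * MulAut.conj k := by
          simp only [s]; group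
      _ = 1 := by rw [htt]; group
  obtain ⟨a, haQ, ha2, ha1, haz, hsa⟩ := exists_fixed h hcard hsz (fun x hx => map_mem h hirr hne hsz hx) hss
  have hta : (t : MulAut K) (k * a * k⁻¹) = k * a * k⁻¹ := by
    have h1 := hs a
    rw [hsa] at h1
    calc (t : MulAut K) (k * a * k⁻¹) = k * (k⁻¹ * (t : MulAut K) (k * a * k⁻¹) * k) * k⁻¹ := by group
      _ = k * a * k⁻¹ := by rw [← h1]
  have hchr' : ∀ b : K, (∃ m : K, m * z * m⁻¹ = b) → Chr K b := by
    rintro _ ⟨m, rfl⟩
    exact hchr.map (MulAut.conj m)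
  have hza : z * a = a * z := (h.comm_z a haQ).symm
  have hconj' : ∀ b ∈ Q, b * b = 1 → b ≠ 1 → ∃ m : K, m * z * m⁻¹ = k * b * k⁻¹ := by
    intro b hb hb2 hb1
    obtain ⟨m, hm⟩ := hconj b hb hb2 hb1
    refine ⟨k * m, ?_⟩
    rw [← hm]; group
  refine core_eq_bot hinj hH ht (v := k * z * k⁻¹) (w := k * a * k⁻¹) ?_ ?_ ?_ hk hta ?_ ?_ ?_
  · calc k * z * k⁻¹ * (k * z * k⁻¹) = k * (z * z) * k⁻¹ := by group
      _ = 1 := by rw [h.z_sq]; group
  · calc k * a * k⁻¹ * (k * a * k⁻¹) = k * (a * a) * k⁻¹ := by group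
      _ = 1 := by rw [ha2]; group
  · calc k * z * k⁻¹ * (k * a * k⁻¹) = k * (z * a) * k⁻¹ := by group
      _ = k * a * k⁻¹ * (k * z * k⁻¹) := by rw [hza]; group
  · exact hchr' _ ⟨k, rfl⟩
  · exact hchr' _ (hconj' a haQ ha2 ha1)
  · have h1 : k * z * k⁻¹ * (k * a * k⁻¹) = k * (z * a) * k⁻¹ := by group
    rw [h1]
    refine hchr' _ (hconj' _ (Q.mul_mem h.z_mem haQ) ?_ ?_)
    · calc z * a * (z * a) = z * (a * z) * a := by group
        _ = (z * z) * (a * a) := by rw [← hza]; group
        _ = 1 := by rw [h.z_sq, ha2, one_mul]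
    · intro h2
      apply haz
      have h3 := inv_eq_of_mul_eq_one_right h2
      rw [← h3]
      exact inv_eq_of_mul_eq_one_right h.z_sq

end Cfsg.Agent.UGT.C.BalLarge
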