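import Cfsg.Agent.UGT.C.BalONOut
import Cfsg.Agent.UGT.C.BalLarge
import Cfsg.Agent.UGT.EndBase
import Cfsg.Agent.Lib.KleinGen
import Cfsg.Agent.S1699

/-!
# The O'Nan group is locally balanced (helper88)

`locallyBalanced : IsLocallyBalanced Spor.ON`. Every involution of `Aut(ON)` is conjugate to one fixing the elements of
`A = ⟨f, a, s₃⟩` (elementary abelian of order 8), and the centraliser of every subgroup of index 2 of `A` is a 2-group.
-/

set_option autoImplicit false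
set_option maxRecDepth 100000
set_option Elab.async false

namespace Cfsg.Agent.UGT.C.BalON

open Cfsg Subgroup
open Cfsg.Spor (ON)
open Cfsg.Spor.ON (Gen)
open Cfsg.Agent.SporadicB.ONHom Cfsg.Agent.SporadicB.ON45Data Cfsg.Agent.SporadicB.ON45Word
  Cfsg.Agent.ONType.TupRow Cfsg.Agent.ONType.SecondTuple Cfsg.Agent.ONType.TupleClass
  Cfsg.Agent.HN.PC Cfsg.Agent.Schreier.ONRel Cfsg.Agent.UGT.C.PcTab Cfsg.Agent.UGT.C.BalONTab
  Cfsg.Agent.UGT.C.BalONInv Cfsg.Agent.UGT.C.BalONOut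
open Cfsg.Agent.ONType.TupT0 (T0)
open scoped Pointwise

/-- equality of words, by matrices -/
noncomputable def eqW (v w : List Gen) : Bool := eqM (mats v) (mats w)

theorem eqW_spec (hs : IsSimpleGroup ON) {v w : List Gen} (h : eqW v w = true) : (v.map on).prod = (w.map on).prod :=
  eq_of_eqM hs (LW.word v) (LW.word w) h

/-! ### The outer automorphism -/

/-- the images of the generators under the second tuple -/
def sgw : Gen → List Gen
  | .a => [.a]
  | .b => [.b]
  | .c => [.c]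
  | .d => [.g, .d, .g, .g, .g]
  | .e => [.g, .e, .g, .g, .g]
  | .f => [.f]
  | .g => [.c, .g, .c, .d, .g, .d, .g]

theorem sgw_eq (x : Gen) : fam a2 b2 c2 d2 e2 f2 g2 x = ((sgw x).map on).prod := by
  cases x
  · rfl
  · show a2 = _; simp [sgw, a2]
  · show b2 = _; simp [sgw, b2]
  · show c2 = _; simp [sgw, c2]
  · rfl
  · rfl
  · show f2 = _; simp [sgw, f2]

section

variable (hON : IsON ON)

/-- the automorphism of the second tuple -/
noncomputable def sg : MulAut ON := (exists_aut hON).choose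

theorem sg_on (x : Gen) : sg hON (on x) = fam a2 b2 c2 d2 e2 f2 g2 x := (exists_aut hON).choose_spec x

theorem sg_word (l : List Gen) : sg hON ((l.map on).prod) = ((l.flatMap sgw).map on).prod := by
  induction l with
  | nil => simp
  | cons x l ih =>
    rw [List.map_cons, List.prod_cons, map_mul, ih, sg_on, sgw_eq, List.flatMap_cons, List.map_append,
      List.prod_append]

/-- the outer automorphism normalising `T` -/
noncomputable def bt : MulAut ON := MulAut.conj (on .d) * sg hON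

/-- the word of the image of a word -/
def btw (l : List Gen) : List Gen := .d :: (l.flatMap sgw ++ [.d])

include hON in
theorem d_inv : (on .d)⁻¹ = on .d := inv_eq_of_mul_eq_one_left (rels_on hON.1).dd

theorem bt_word (l : List Gen) : bt hON ((l.map on).prod) = ((btw l).map on).prod := by
  show on .d * sg hON ((l.map on).prod) * (on .d)⁻¹ = _
  rw [sg_word, d_inv hON]
  unfold btw
  rw [List.map_cons, List.prod_cons, List.map_append, List.prod_append]
  simp [mul_assoc]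

/-- check of the codes of the images -/
theorem bt_ok : ∀ i < 9, eqW (btw (sw i)) (cat (bl (BG i))) = true := by decide +kernel

theorem bt_s {i : ℕ} (hi : i < 9) : bt hON (s i) = E (BG i) := by
  show bt hON (((sw i).map on).prod) = _
  rw [bt_word, eqW_spec hON.1 (bt_ok i hi), E_eq]

theorem bt_E (x : ℕ) : bt hON (E x) = E (be x) :=
  (hk_spec (rels hON.1) rules (bt hON).toMonoidHom (fun _ hi => bt_s hON hi) x 9 le_rfl).2

include hON in
theorem be_lt (x : ℕ) : be x < 512 :=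
  (hk_spec (rels hON.1) rules (bt hON).toMonoidHom (fun _ hi => bt_s hON hi) x 9 le_rfl).1

theorem bt_mem {t : ON} (ht : t ∈ T) : bt hON t ∈ T := by
  obtain ⟨x, -, rfl⟩ := exists_E hON.1 ht
  rw [bt_E]; exact E_mem _

/-- check of the order of the outer automorphism -/
theorem btbt_ok : ([.g, .a, .b, .c, .d, .e, .f] : List Gen).all (fun x => eqW (btw (btw [x])) [x]) = true := by
  decide +kernel

theorem bt_bt_on (x : Gen) : bt hON (bt hON (on x)) = on x := by
  have h : ∀ x : Gen, on x = (([x] : List Gen).map on).prod := fun x => by simp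
  conv_lhs => rw [h x]
  rw [bt_word, bt_word, eqW_spec hON.1 (List.all_eq_true.1 btbt_ok x (by cases x <;> simp)), ← h]

theorem bt_bt : bt hON * bt hON = 1 := aut_ext fun x => bt_bt_on hON x

theorem bt_bt' (x : ON) : bt hON (bt hON x) = x := by
  show (bt hON * bt hON) x = x
  rw [bt_bt]; rfl

theorem out' (α : MulAut ON) : ∃ x : ON, α = MulAut.conj x ∨ α = MulAut.conj x * bt hON := by
  obtain ⟨x, h | h⟩ := out hON (sg hON) (sg_on hON) α
  · exact ⟨x, Or.inl h⟩
  · refine ⟨x * on .d, Or.inr ?_⟩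
    have : (on .d) * (on .d) = 1 := (rels_on hON.1).dd
    rw [h]
    unfold bt
    rw [← mul_assoc, conj_conj, mul_assoc, this, mul_one]

/-! ### The centre, the normaliser of `T` -/

include hON in
theorem center_eq_bot : center ON = ⊥ := by
  have := hON.1
  rcases this.eq_bot_or_eq_top_of_normal (center ON) inferInstance with h | h
  · exact h
  · exfalso
    obtain ⟨y, hy⟩ := conj_f hON (rels_on hON.1).aa on_a_ne_one
    apply af_ne
    have h1 : on .a ∈ center ON := by rw [h]; trivial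
    rw [← hy, mem_center_iff.1 h1 y, mul_inv_cancel_right]

theorem f_mul_a_ne : on .f * on .a ≠ on .f := by
  intro h
  exact on_a_ne_one (mul_eq_left.1 h)

theorem comm_one : ∀ x < 512, mu x 1 = mu 1 x := by decide +kernel
theorem comm_two : ∀ x < 64, mu x 2 = mu 2 x := by decide +kernel

include hON in
theorem f_comm {t : ON} (ht : t ∈ T) : t * on .f = on .f * t := by
  obtain ⟨x, hx, rfl⟩ := exists_E hON.1 ht
  rw [← E_one, E_mul hON.1 hx, E_mul hON.1 (by norm_num), comm_one x hx]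

include hON in
theorem a_comm {t : ON} (ht : t ∈ Pc s 6) : t * on .a = on .a * t := by
  obtain ⟨x, hx, h⟩ := exists_code (rels hON.1) 6 (by norm_num) t ht
  have hx' : x < 64 := hx
  have h1 : t = E x := by rw [h]; exact (ev_le s hx 9 (by norm_num)).symm
  rw [h1, ← E_two, E_mul hON.1 (by omega), E_mul hON.1 (by norm_num), comm_two x hx']

theorem f_mem_T : on .f ∈ T := by rw [← E_one]; exact E_mem _
theorem a_mem_T : on .a ∈ T := by rw [← E_two]; exact E_mem _

include hON in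
/-- `C(f) ∩ C(a)` is a 2-group -/
theorem pow_of_comm {x : ON} (hf : x * on .f = on .f * x) (ha : x * on .a = on .a * x) : x ^ 256 = 1 := by
  have H := cen hON
  have h1 : x ∈ T0 := Cfsg.Agent.ONType.TupK.mem_T0 H.simple ((H.mem x).2 hf) ha
  have h2 : (⟨x, h1⟩ : T0) ^ Nat.card T0 = 1 := pow_card_eq_one'
  rw [Cfsg.Agent.ONType.TupS.card_T0 H.simple H.card] at h2
  exact congrArg Subtype.val h2

include hON in
/-- the normaliser of `T` -/
theorem norm_T {u : ON} (hu : ∀ t ∈ T, u * t * u⁻¹ ∈ T) : u ∈ T := by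
  have hs := hON.1
  have hfin := Cfsg.Agent.ONType.RepCent.finite_of_isON hON
  obtain ⟨P, hP⟩ := Cfsg.Agent.Schreier.ONTr.exists_sylow hON
  have hmap : T.map (MulAut.conj u).toMonoidHom = T := by
    apply Subgroup.eq_of_le_of_card_ge
    · rintro _ ⟨t, ht, rfl⟩
      exact hu t ht
    · rw [Subgroup.card_map_of_injective (MulAut.conj u).injective]
  have hpre : ∀ t ∈ T, ∃ t' ∈ T, u * t' * u⁻¹ = t := by
    intro t ht
    rw [← hmap] at ht
    exact ht
  have h6 : ∀ t ∈ Pc s 6, ∃ t' ∈ Pc s 6, u * t' * u⁻¹ = t := by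
    intro t ht
    rw [← Cfsg.Agent.Schreier.ONTr.commutator_eq hs] at ht ⊢
    have h : (⁅Cfsg.Agent.Schreier.ONTr.T, Cfsg.Agent.Schreier.ONTr.T⁆).map (MulAut.conj u).toMonoidHom =
        ⁅Cfsg.Agent.Schreier.ONTr.T, Cfsg.Agent.Schreier.ONTr.T⁆ := by
      rw [Subgroup.map_commutator]
      have hmap' : (Cfsg.Agent.Schreier.ONTr.T).map (MulAut.conj u).toMonoidHom = Cfsg.Agent.Schreier.ONTr.T := hmap
      rw [hmap']
    rw [← h] at ht
    exact ht
  -- `f`
  have hf1 : on .f ≠ 1 := by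
    intro h
    obtain ⟨y, hy⟩ := conj_f hON (rels_on hs).aa on_a_ne_one
    rw [h] at hy
    exact on_a_ne_one (conj_eq_one_iff.1 hy)
  have hf : u * on .f * u⁻¹ = on .f := by
    rcases center_T hs (hu _ f_mem_T) (fun t ht => by
      obtain ⟨t', ht', rfl⟩ := hpre t ht
      have := f_comm hON ht'
      calc u * on .f * u⁻¹ * (u * t' * u⁻¹) = u * (on .f * t') * u⁻¹ := by group
        _ = u * t' * u⁻¹ * (u * on .f * u⁻¹) := by rw [← this]; group) with h | h
    · exact absurd (conj_eq_one_iff.1 h) hf1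
    · exact h
  have haa : on .a * on .a = 1 := (rels_on hs).aa
  have hff : on .f * on .f = 1 := (rels_on hs).ff
  have ha : u * on .a * u⁻¹ = on .a ∨ u * on .a * u⁻¹ = on .f * on .a := by
    rcases cent_comm hs (hu _ a_mem_T) (by
      calc u * on .a * u⁻¹ * (u * on .a * u⁻¹) = u * (on .a * on .a) * u⁻¹ := by group
        _ = 1 := by rw [haa]; group) (fun t ht => by
      obtain ⟨t', ht', rfl⟩ := h6 t ht
      have := a_comm hON ht'
      calc u * on .a * u⁻¹ * (u * t' * u⁻¹) = u * (on .a * t') * u⁻¹ := by group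
        _ = u * t' * u⁻¹ * (u * on .a * u⁻¹) := by rw [← this]; group) with h | h | h | h
    · exact absurd (conj_eq_one_iff.1 h) on_a_ne_one
    · exfalso
      apply af_ne
      rw [← hf] at h
      exact mul_left_cancel (mul_right_cancel h)
    · exact Or.inl h
    · exact Or.inr h
  have h2a : (u * u) * on .a * (u * u)⁻¹ = on .a := by
    have e : (u * u) * on .a * (u * u)⁻¹ = u * (u * on .a * u⁻¹) * u⁻¹ := by group
    rw [e]
    rcases ha with h | h
    · rw [h, h]
    · rw [h]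
      calc u * (on .f * on .a) * u⁻¹ = (u * on .f * u⁻¹) * (u * on .a * u⁻¹) := by group
        _ = on .f * (on .f * on .a) := by rw [hf, h]
        _ = on .a := by rw [← mul_assoc, hff, one_mul]
  have h2f : (u * u) * on .f * (u * u)⁻¹ = on .f := by
    have e : (u * u) * on .f * (u * u)⁻¹ = u * (u * on .f * u⁻¹) * u⁻¹ := by group
    rw [e, hf, hf]
  have h3 := pow_of_comm hON (mul_inv_eq_iff_eq_mul.1 h2f) (mul_inv_eq_iff_eq_mul.1 h2a)
  have h4 : u ^ 2 ^ 9 = 1 := by
    rw [show (2 : ℕ) ^ 9 = 2 * 256 by norm_num, pow_mul, pow_two, h3]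
  have hfact : Fact (Nat.Prime 2) := ⟨Nat.prime_two⟩
  have hz : IsPGroup 2 (Subgroup.zpowers u) := by
    apply IsPGroup.of_card_dvd_pow (n := 9)
    rw [Nat.card_zpowers]
    exact orderOf_dvd_of_pow_eq_one h4
  have hun : u ∈ normalizer ((P : Subgroup ON) : Set ON) := by
    rw [hP, Subgroup.mem_normalizer_iff]
    intro t
    refine ⟨fun ht => hu t ht, fun ht => ?_⟩
    obtain ⟨t', ht', h⟩ := hpre _ ht
    have : t' = t := mul_left_cancel (mul_right_cancel h)
    rwa [← this]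
  have h5 : u ∈ Subgroup.zpowers u ⊓ normalizer (P : Set ON) := ⟨Subgroup.mem_zpowers u, hun⟩
  rw [hz.inf_normalizer_sylow P, hP] at h5
  exact h5.2

/-! ### The subgroups of index 2 of `A` -/

/-- `word`, codes of elements conjugate to `f` and `a` by the word -/
def hyps : List (List Gen × ℕ × ℕ) := [
  ([], 1, 2),
  ([.b, .c, .d, .g, .g, .g, .b, .a, .c, .d, .b, .c, .g, .g, .g, .b], 1, 8),
  ([.b, .g, .c, .b, .a, .d, .c, .b, .g, .d, .c, .b], 1, 10),
  ([.e, .d, .c, .d, .e, .g, .g, .g, .e, .g, .d, .c, .d, .e], 8, 2),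
  ([.e, .d, .c, .d, .g, .g, .g, .e, .g, .e, .d, .c, .d, .e], 9, 2),
  ([.b, .c, .d, .c, .b, .g, .g, .g, .b, .c, .d, .c, .e, .d, .f, .e, .g, .b, .c, .d, .g, .e, .f, .c, .d, .e], 3, 8),
  ([.e, .d, .c, .g, .g, .g, .e, .d, .c, .b, .f, .e, .d, .g, .g, .g, .e, .c, .d, .c, .b, .g, .b, .c, .d, .c, .b],
    10, 9)]

theorem hyps_ok : hyps.all (fun e => eqW (e.1 ++ cat (bl e.2.1)) (.f :: e.1) &&
    eqW (e.1 ++ cat (bl e.2.2)) (.a :: e.1)) = true := by decide +kernel

include hON in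
theorem hyp {l : List Gen} {p q : ℕ} (he : (l, p, q) ∈ hyps) {x : ON} (h1 : x * E p = E p * x)
    (h2 : x * E q = E q * x) (hx : Odd (orderOf x)) : x = 1 := by
  have h := List.all_eq_true.1 hyps_ok _ he
  rw [Bool.and_eq_true] at h
  have e1 := eqW_spec hON.1 h.1
  have e2 := eqW_spec hON.1 h.2
  rw [List.map_append, List.prod_append, E_eq, List.map_cons, List.prod_cons] at e1 e2
  set w := (l.map on).prod with hw
  have k1 : w * x * w⁻¹ * on .f = on .f * (w * x * w⁻¹) := by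
    have e : on .f = w * E p * w⁻¹ := by rw [e1]; group
    rw [e]
    calc w * x * w⁻¹ * (w * E p * w⁻¹) = w * (x * E p) * w⁻¹ := by group
      _ = w * E p * w⁻¹ * (w * x * w⁻¹) := by rw [h1]; group
  have k2 : w * x * w⁻¹ * on .a = on .a * (w * x * w⁻¹) := by
    have e : on .a = w * E q * w⁻¹ := by rw [e2]; group
    rw [e]
    calc w * x * w⁻¹ * (w * E q * w⁻¹) = w * (x * E q) * w⁻¹ := by group
      _ = w * E q * w⁻¹ * (w * x * w⁻¹) := by rw [h2]; group
  have k3 := pow_of_comm hON k1 k2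
  rw [conj_pow, conj_eq_one_iff] at k3
  have k4 : orderOf x ∣ 2 ^ 8 := orderOf_dvd_of_pow_eq_one k3
  have k5 : orderOf x = 1 :=
    Nat.eq_one_of_dvd_coprimes (Nat.Coprime.pow_right 8 hx.coprime_two_right) dvd_rfl k4
  exact orderOf_eq_one_iff.1 k5

end

/-- a subgroup of odd order normalised by an elementary abelian group of order 8, from the subgroups of index 2 -/
theorem triple {G : Type*} [Group G] (Y : Subgroup G) (hodd : Odd (Nat.card Y)) {p q r : G} (pp : p * p = 1)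
    (qq : q * q = 1) (rr : r * r = 1) (pq : p * q = q * p) (pr : p * r = r * p) (qr : q * r = r * q)
    (hp : ∀ h ∈ Y, p * h * p⁻¹ ∈ Y) (hq : ∀ h ∈ Y, q * h * q⁻¹ ∈ Y) (hr : ∀ h ∈ Y, r * h * r⁻¹ ∈ Y)
    (V1 : ∀ x ∈ Y, x * p = p * x → x * q = q * x → x = 1) (V2 : ∀ x ∈ Y, x * p = p * x → x * r = r * x → x = 1)
    (V3 : ∀ x ∈ Y, x * p = p * x → x * (q * r) = (q * r) * x → x = 1)
    (V4 : ∀ x ∈ Y, x * q = q * x → x * r = r * x → x = 1)
    (V5 : ∀ x ∈ Y, x * q = q * x → x * (p * r) = (p * r) * x → x = 1)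
    (V6 : ∀ x ∈ Y, x * (p * q) = (p * q) * x → x * r = r * x → x = 1)
    (V7 : ∀ x ∈ Y, x * (p * q) = (p * q) * x → x * (p * r) = (p * r) * x → x = 1) : Y = ⊥ := by
  have sub : ∀ {c : G}, Odd (Nat.card (Y ⊓ centralizer {c} : Subgroup G)) := fun {c} =>
    hodd.of_dvd_nat (Subgroup.card_dvd_of_le inf_le_left)
  have stab : ∀ {c z : G}, (∀ h ∈ Y, z * h * z⁻¹ ∈ Y) → z * c = c * z → ∀ h ∈ Y ⊓ centralizer {c},
      z * h * z⁻¹ ∈ Y ⊓ centralizer {c} := by
    rintro c z hz hc h ⟨h1, h2⟩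
    refine ⟨hz h h1, ?_⟩
    have h2 := mem_centralizer_singleton_iff.1 h2
    have e1 : z⁻¹ * c = c * z⁻¹ := by
      rw [inv_mul_eq_iff_eq_mul, ← mul_assoc, hc, mul_assoc, mul_inv_cancel, mul_one]
    apply mem_centralizer_singleton_iff.2
    calc z * h * z⁻¹ * c = z * h * (z⁻¹ * c) := by group
      _ = z * (h * c) * z⁻¹ := by rw [e1]; group
      _ = (z * c) * h * z⁻¹ := by rw [h2]; group
      _ = c * (z * h * z⁻¹) := by rw [hc]; group
  have cm : ∀ {c x : G}, x ∈ centralizer ({c} : Set G) → x * c = c * x := fun h =>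
    mem_centralizer_singleton_iff.1 h
  have pqq : q * (p * q) = (p * q) * q := by rw [← mul_assoc, ← pq]
  have ppq : p * (p * q) = (p * q) * p := by rw [mul_assoc, ← pq]
  have rpq : r * (p * q) = (p * q) * r := by rw [← mul_assoc, ← pr, mul_assoc, ← qr, mul_assoc]
  rw [eq_bot_iff]
  refine Lib.KleinGen.le_of_klein Y ⊥ hodd p q pp qq pq hp hq ?_ ?_ ?_
  · refine Lib.KleinGen.le_of_klein _ ⊥ sub q r qq rr qr (stab hq pq.symm) (stab hr pr.symm) ?_ ?_ ?_
    · rintro x ⟨⟨h1, h2⟩, h3⟩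
      exact V1 x h1 (cm h2) (cm h3)
    · rintro x ⟨⟨h1, h2⟩, h3⟩
      exact V2 x h1 (cm h2) (cm h3)
    · rintro x ⟨⟨h1, h2⟩, h3⟩
      exact V3 x h1 (cm h2) (cm h3)
  · refine Lib.KleinGen.le_of_klein _ ⊥ sub p r pp rr pr (stab hp pq) (stab hr qr.symm) ?_ ?_ ?_
    · rintro x ⟨⟨h1, h2⟩, h3⟩
      exact V1 x h1 (cm h3) (cm h2)
    · rintro x ⟨⟨h1, h2⟩, h3⟩
      exact V4 x h1 (cm h2) (cm h3)
    · rintro x ⟨⟨h1, h2⟩, h3⟩
      exact V5 x h1 (cm h2) (cm h3)
  · refine Lib.KleinGen.le_of_klein _ ⊥ sub p r pp rr pr (stab hp ppq) (stab hr rpq) ?_ ?_ ?_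
    · rintro x ⟨⟨h1, h2⟩, h3⟩
      refine V1 x h1 (cm h3) ?_
      have e : q = p * (p * q) := by rw [← mul_assoc, pp, one_mul]
      rw [e]
      calc x * (p * (p * q)) = (x * p) * (p * q) := by group
        _ = p * (x * (p * q)) := by rw [cm h3]; group
        _ = p * (p * q) * x := by rw [cm h2]; group
    · rintro x ⟨⟨h1, h2⟩, h3⟩
      exact V6 x h1 (cm h2) (cm h3)
    · rintro x ⟨⟨h1, h2⟩, h3⟩
      exact V7 x h1 (cm h2) (cm h3)

section

variable (hON : IsON ON)

/-! ### The fixed elementary abelian group -/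

include hON in
theorem conj_inj : Function.Injective (MulAut.conj : ON →* MulAut ON) :=
  EndBase.conj_inj (center_eq_bot hON)

include hON in
theorem E_two_pow_lt {i : ℕ} (hi : i < 9) : 2 ^ i < 512 := by
  have : (2 : ℕ) ^ i < 2 ^ 9 := Nat.pow_lt_pow_right (by norm_num) hi
  omega

theorem be_A : be 1 = 1 ∧ be 2 = 2 ∧ be 8 = 8 := by
  refine ⟨?_, ?_, ?_⟩ <;> decide +kernel

include hON in
theorem exists_fix {σ : MulAut ON} (hσ : orderOf σ = 2) :
    ∃ y : ON, ∀ c, c = 1 ∨ c = 2 ∨ c = 8 → σ (y⁻¹ * E c * y) = y⁻¹ * E c * y := by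
  have hfin := Cfsg.Agent.ONType.RepCent.finite_of_isON hON
  have hs := hON.1
  have hσσ : σ * σ = 1 := by rw [← pow_two, ← hσ, pow_orderOf_eq_one]
  have hσ1 : σ ≠ 1 := by rintro rfl; rw [orderOf_one] at hσ; omega
  obtain ⟨x, hx | hx⟩ := out' hON σ
  · -- inner
    have h1 : x * x = 1 := by
      apply conj_inj hON
      rw [map_mul, map_one, ← hx, hσσ]
    have h2 : x ≠ 1 := by
      rintro rfl
      exact hσ1 (by rw [hx, map_one])
    obtain ⟨y, hy⟩ := conj_f hON h1 h2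
    refine ⟨y, fun c _ => ?_⟩
    have h3 := f_comm hON (E_mem c)
    rw [hx]
    show x * (y⁻¹ * E c * y) * x⁻¹ = _
    have hx' : x = y⁻¹ * on .f * y := by rw [← hy]; group
    rw [hx']
    calc y⁻¹ * on .f * y * (y⁻¹ * E c * y) * (y⁻¹ * on .f * y)⁻¹ = y⁻¹ * (on .f * E c) * (on .f)⁻¹ * y := by group
      _ = y⁻¹ * E c * y := by rw [← h3]; group
  · -- outer
    obtain ⟨P, hP⟩ := Cfsg.Agent.Schreier.ONTr.exists_sylow hON
    have hfact : Fact (Nat.Prime 2) := ⟨Nat.prime_two⟩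
    have hoddS : Odd (Nat.card (Sylow 2 ON)) := by
      have h := card_sylow_modEq_one 2 ON
      rw [Nat.odd_iff]
      exact h
    obtain ⟨Q, hQ⟩ := BalLarge.exists_fixedPoint hoddS (fun Q : Sylow 2 ON => σ • Q) (fun Q => by
      show σ • (σ • Q) = Q
      rw [← mul_smul, hσσ, one_smul])
    obtain ⟨y, hy⟩ := MulAction.exists_smul_eq ON Q P
    have hmem : ∀ z, z ∈ (Q : Set ON) ↔ y * z * y⁻¹ ∈ T := by
      intro z
      have e1 : y * z * y⁻¹ ∈ T ↔ y * z * y⁻¹ ∈ (P : Set ON) := by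
        rw [← Sylow.coe_coe, hP]; exact SetLike.mem_coe.symm
      rw [e1, ← hy, Sylow.coe_smul]
      constructor
      · intro hz
        exact ⟨z, hz, rfl⟩
      · rintro ⟨z', hz', h⟩
        have h' : y * z' * y⁻¹ = y * z * y⁻¹ := h
        have : z' = z := mul_left_cancel (mul_right_cancel h')
        rwa [← this]
    have hσQ : ∀ z ∈ (Q : Set ON), σ z ∈ (Q : Set ON) := by
      intro z hz
      have h : ((σ • Q : Sylow 2 ON) : Subgroup ON) = σ • (Q : Subgroup ON) := Sylow.pointwise_smul_def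
      have h' : σ • Q = Q := hQ
      rw [h'] at h
      rw [← Sylow.coe_coe, h]
      exact ⟨z, hz, rfl⟩
    obtain ⟨u, hu⟩ : ∃ u, u = y * x * bt hON y⁻¹ := ⟨_, rfl⟩
    have key : ∀ z, y * σ (y⁻¹ * z * y) * y⁻¹ = u * bt hON z * u⁻¹ := by
      intro z
      rw [hx]
      show y * (x * bt hON (y⁻¹ * z * y) * x⁻¹) * y⁻¹ = _
      rw [hu]
      simp only [map_mul, map_inv]
      group
    have huT : u ∈ T := by
      apply norm_T hON
      intro t ht
      have h1 := key (bt hON t)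
      rw [bt_bt'] at h1
      rw [← h1, ← hmem]
      apply hσQ
      rw [hmem]
      have e : y * (y⁻¹ * bt hON t * y) * y⁻¹ = bt hON t := by group
      rw [e]
      exact bt_mem hON ht
    have huu : u * bt hON u = 1 := by
      apply conj_inj hON
      rw [map_one]
      ext z
      show u * bt hON u * z * (u * bt hON u)⁻¹ = z
      have h1 : ∀ z, σ (σ z) = z := fun z => by
        show (σ * σ) z = z
        rw [hσσ]; rfl
      have h2 := key (y * σ (y⁻¹ * z * y) * y⁻¹)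
      have e1 : y⁻¹ * (y * σ (y⁻¹ * z * y) * y⁻¹) * y = σ (y⁻¹ * z * y) := by group
      rw [e1, h1, key z, map_mul, map_mul, bt_bt', map_inv] at h2
      calc u * bt hON u * z * (u * bt hON u)⁻¹ = u * (bt hON u * z * (bt hON u)⁻¹) * u⁻¹ := by group
        _ = y * (y⁻¹ * z * y) * y⁻¹ := h2.symm
        _ = z := by group
    obtain ⟨n, hn, rfl⟩ := exists_E hs huT
    rw [bt_E, E_mul hs hn, ← E_zero] at huu
    have h3 := E_inj hs (mu_lt hs hn _) (by norm_num) huu
    obtain ⟨c1, c2, c3⟩ := outer_ok n hn h3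
    obtain ⟨b1, b2, b3⟩ := be_A
    refine ⟨y, fun c hc => ?_⟩
    have h4 : E n * E c = E c * E n := by
      rcases hc with rfl | rfl | rfl
      · rw [E_mul hs hn, E_mul hs (by norm_num), c1]
      · rw [E_mul hs hn, E_mul hs (by norm_num), c2]
      · rw [E_mul hs hn, E_mul hs (by norm_num), c3]
    have h5 : bt hON (E c) = E c := by
      rw [bt_E]
      rcases hc with rfl | rfl | rfl
      · rw [b1]
      · rw [b2]
      · rw [b3]
    have h6 := key (E c)
    rw [h5, h4, mul_inv_cancel_right] at h6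
    calc σ (y⁻¹ * E c * y) = y⁻¹ * (y * σ (y⁻¹ * E c * y) * y⁻¹) * y := by group
      _ = _ := by rw [h6]

theorem mu_A : mu 1 1 = 0 ∧ mu 2 2 = 0 ∧ mu 8 8 = 0 ∧ mu 1 2 = 3 ∧ mu 2 1 = 3 ∧ mu 1 8 = 9 ∧ mu 8 1 = 9 ∧
    mu 2 8 = 10 ∧ mu 8 2 = 10 := by
  refine ⟨?_, ?_, ?_, ?_, ?_, ?_, ?_, ?_, ?_⟩ <;> decide +kernel

include hON in
/-- `O(C(σ)) = 1` -/
theorem noOdd {σ : MulAut ON} (hσ : orderOf σ = 2) : EndBase.NoOdd σ := by
  intro Y hodd _ hn
  have hs := hON.1
  obtain ⟨y, hy⟩ := exists_fix hON hσ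
  obtain ⟨m11, m22, m88, m12, m21, m18, m81, m28, m82⟩ := mu_A
  have E11 : E 1 * E 1 = 1 := by rw [E_mul hs (by norm_num), m11, E_zero]
  have E22 : E 2 * E 2 = 1 := by rw [E_mul hs (by norm_num), m22, E_zero]
  have E88 : E 8 * E 8 = 1 := by rw [E_mul hs (by norm_num), m88, E_zero]
  have E12 : E 1 * E 2 = E 3 := by rw [E_mul hs (by norm_num), m12]
  have E21 : E 2 * E 1 = E 3 := by rw [E_mul hs (by norm_num), m21]
  have E18 : E 1 * E 8 = E 9 := by rw [E_mul hs (by norm_num), m18]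
  have E81 : E 8 * E 1 = E 9 := by rw [E_mul hs (by norm_num), m81]
  have E28 : E 2 * E 8 = E 10 := by rw [E_mul hs (by norm_num), m28]
  have E82 : E 8 * E 2 = E 10 := by rw [E_mul hs (by norm_num), m82]
  have cj : ∀ u v w : ON, u * v = w → (y⁻¹ * u * y) * (y⁻¹ * v * y) = y⁻¹ * w * y := by
    rintro u v _ rfl
    group
  have c1 : ∀ u v : ON, u * v = 1 → (y⁻¹ * u * y) * (y⁻¹ * v * y) = 1 := by
    intro u v h
    rw [cj u v 1 h]; group
  have oddx : ∀ x ∈ Y, Odd (orderOf (y * x * y⁻¹)) := by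
    intro x hx
    have h1 : orderOf (y * x * y⁻¹) = orderOf x := by
      have := orderOf_injective (MulAut.conj y).toMonoidHom (MulAut.conj y).injective x
      exact this
    rw [h1]
    apply hodd.of_dvd_nat
    have := orderOf_dvd_natCard (⟨x, hx⟩ : Y)
    rwa [Subgroup.orderOf_mk] at this
  have back : ∀ x c : ON, x * (y⁻¹ * c * y) = (y⁻¹ * c * y) * x → (y * x * y⁻¹) * c = c * (y * x * y⁻¹) := by
    intro x c h
    calc (y * x * y⁻¹) * c = y * (x * (y⁻¹ * c * y)) * y⁻¹ := by group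
      _ = c * (y * x * y⁻¹) := by rw [h]; group
  have fin : ∀ x, y * x * y⁻¹ = 1 → x = 1 := fun x h => conj_eq_one_iff.1 h
  refine triple Y hodd (p := y⁻¹ * E 1 * y) (q := y⁻¹ * E 2 * y) (r := y⁻¹ * E 8 * y) (c1 _ _ E11) (c1 _ _ E22)
    (c1 _ _ E88) ((cj _ _ _ E12).trans (cj _ _ _ E21).symm) ((cj _ _ _ E18).trans (cj _ _ _ E81).symm)
    ((cj _ _ _ E28).trans (cj _ _ _ E82).symm) (hn _ (hy 1 (by simp))) (hn _ (hy 2 (by simp)))
    (hn _ (hy 8 (by simp))) ?_ ?_ ?_ ?_ ?_ ?_ ?_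
  · intro x hx h1 h2
    exact fin x (hyp hON (List.mem_of_getElem? (i := 0) rfl : _ ∈ hyps) (back _ _ h1) (back _ _ h2) (oddx x hx))
  · intro x hx h1 h2
    exact fin x (hyp hON (List.mem_of_getElem? (i := 1) rfl : _ ∈ hyps) (back _ _ h1) (back _ _ h2) (oddx x hx))
  · intro x hx h1 h2
    rw [cj _ _ _ E28] at h2
    exact fin x (hyp hON (List.mem_of_getElem? (i := 2) rfl : _ ∈ hyps) (back _ _ h1) (back _ _ h2) (oddx x hx))
  · intro x hx h1 h2
    exact fin x (hyp hON (List.mem_of_getElem? (i := 3) rfl : _ ∈ hyps) (back _ _ h2) (back _ _ h1) (oddx x hx))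
  · intro x hx h1 h2
    rw [cj _ _ _ E18] at h2
    exact fin x (hyp hON (List.mem_of_getElem? (i := 4) rfl : _ ∈ hyps) (back _ _ h2) (back _ _ h1) (oddx x hx))
  · intro x hx h1 h2
    rw [cj _ _ _ E12] at h1
    exact fin x (hyp hON (List.mem_of_getElem? (i := 5) rfl : _ ∈ hyps) (back _ _ h1) (back _ _ h2) (oddx x hx))
  · intro x hx h1 h2
    rw [cj _ _ _ E12] at h1
    rw [cj _ _ _ E18] at h2
    have b1 := back _ _ h1
    have b2 := back _ _ h2
    have e : E 10 = E 3 * E 9 := by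
      rw [← E21, ← E18, ← E28]
      calc E 2 * E 8 = E 2 * (E 1 * E 1) * E 8 := by rw [E11, mul_one]
        _ = _ := by group
    have b3 : (y * x * y⁻¹) * E 10 = E 10 * (y * x * y⁻¹) := by
      rw [e]
      calc (y * x * y⁻¹) * (E 3 * E 9) = ((y * x * y⁻¹) * E 3) * E 9 := (mul_assoc _ _ _).symm
        _ = E 3 * ((y * x * y⁻¹) * E 9) := by rw [b1, mul_assoc]
        _ = (E 3 * E 9) * (y * x * y⁻¹) := by rw [b2, ← mul_assoc]
    exact fin x (hyp hON (List.mem_of_getElem? (i := 6) rfl : _ ∈ hyps) b3 b2 (oddx x hx))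

end

/-- **The O'Nan group is locally balanced.** -/
theorem locallyBalanced : IsLocallyBalanced ON := by
  have hON : IsON ON := Cfsg.Agent.S1699.result
  have hfin := Cfsg.Agent.ONType.RepCent.finite_of_isON hON
  refine EndBase.AutCoreFree.locallyBalanced (EndBase.autCoreFree_of_pow 1 ?_ (fun σ hσ => noOdd hON hσ))
    (center_eq_bot hON)
  intro φ
  rw [pow_one, pow_two]
  obtain ⟨x, h | h⟩ := out' hON φ
  · exact ⟨x * x, by rw [map_mul, h]⟩
  · refine ⟨x * bt hON x, ?_⟩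
    rw [h, map_mul]
    have e : MulAut.conj (bt hON x) = bt hON * MulAut.conj x * bt hON := by
      have h1 := EndBase.conj_app (bt hON) x
      have h2 : (bt hON)⁻¹ = bt hON := inv_eq_of_mul_eq_one_left (bt_bt hON)
      rwa [h2] at h1
    rw [e]
    simp only [mul_assoc]

end Cfsg.Agent.UGT.C.BalON
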