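import Cfsg.Agent.ONType.RepCent
import Cfsg.Agent.ONType.TupleClass
import Cfsg.Agent.SporRec.ONIndexUpper
import Cfsg.Agent.Lib.PermNetFix

/-!
# The presented O'Nan group: the order of the centraliser of `f` (helper88)

`card_centralizer : |C(f)| = 161280`. `C(f)` acts on the fixed points of `f` (360 points); the stabiliser of a point is
`C_H(f)`, `H = ⟨a, …, f⟩`; `f` has more than `2793` conjugates under `H`.
-/

set_option autoImplicit false
set_option maxRecDepth 100000
set_option Elab.async false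

namespace Cfsg.Agent.UGT.C.BalONCard

open Cfsg.Agent.Lib.PermNet Cfsg.Agent.Lib.PermNetOrbit Cfsg.Agent.Lib.PermNetFix
  Cfsg.Agent.Fischer.Fi24RepLib Cfsg.Agent.ONType.RepDef Cfsg.Agent.ONType.Rep Cfsg.Agent.ONType.RepOrb
open Cfsg.Spor (ON)
open Cfsg.Spor.ON (Gen)
open Cfsg.Agent.SporadicB.ON45Word (on)
open Cfsg.Agent.ONType.RepCent (s4 C5)

/-! ### Two counting lemmas -/

theorem conj_count {G : Type*} [Group G] [Finite G] (H C : Subgroup G) (f : G)
    (hC : ∀ x ∈ C, x * f = f * x) :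
    {x : G | ∃ h ∈ H, x = h * f * h⁻¹}.ncard * Nat.card (H ⊓ C : Subgroup G) ≤ Nat.card H := by
  classical
  set D : Set G := {x : G | ∃ h ∈ H, x = h * f * h⁻¹} with hD
  have hch : ∀ x : D, ∃ h ∈ H, (x : G) = h * f * h⁻¹ := fun x => x.2
  choose k hk hx using hch
  have hinj : Function.Injective (fun y : D × (H ⊓ C : Subgroup G) =>
      (⟨k y.1 * y.2, H.mul_mem (hk y.1) y.2.2.1⟩ : H)) := by
    rintro ⟨x, c⟩ ⟨x', c'⟩ h
    have h1 : k x * c = k x' * c' := congrArg Subtype.val h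
    have hc : (c : G) * f * (c : G)⁻¹ = f := by rw [hC c c.2.2]; group
    have hc' : (c' : G) * f * (c' : G)⁻¹ = f := by rw [hC c' c'.2.2]; group
    have h2 : (x : G) = x' := by
      calc (x : G) = k x * f * (k x)⁻¹ := hx x
        _ = k x * ((c : G) * f * (c : G)⁻¹) * (k x)⁻¹ := by rw [hc]
        _ = (k x * c) * f * (k x * c)⁻¹ := by group
        _ = (k x' * c') * f * (k x' * c')⁻¹ := by rw [h1]
        _ = k x' * ((c' : G) * f * (c' : G)⁻¹) * (k x')⁻¹ := by group
        _ = x' := by rw [hc', ← hx x']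
    have h3 : x = x' := Subtype.ext h2
    subst h3
    rw [Subtype.ext (mul_left_cancel h1)]
  have := Nat.card_le_card_of_injective _ hinj
  rwa [Nat.card_prod, Nat.card_coe_set_eq] at this

theorem orbit_count {G : Type*} [Group G] [Finite G] (φ : G →* Equiv.Perm ℕ) (H C : Subgroup G) (P : Set ℕ)
    (hP : P.Finite) (hH : ∀ x, φ x 0 = 0 → x ∈ H) (hCP : ∀ x ∈ C, φ x 0 ∈ P) :
    Nat.card C ≤ P.ncard * Nat.card (C ⊓ H : Subgroup G) := by
  classical
  have : Finite P := hP
  have hch : ∀ p : P, ∃ k : G, (∃ c ∈ C, φ c 0 = p) → (k ∈ C ∧ φ k 0 = p) := by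
    intro p
    by_cases h : ∃ c ∈ C, φ c 0 = p
    · obtain ⟨c, hc, h1⟩ := h
      exact ⟨c, fun _ => ⟨hc, h1⟩⟩
    · exact ⟨1, fun h' => absurd h' h⟩
  choose k hk using hch
  have hkx : ∀ x : C, k ⟨φ x 0, hCP x x.2⟩ ∈ C ∧ φ (k ⟨φ x 0, hCP x x.2⟩) 0 = φ x 0 := fun x =>
    hk _ ⟨x, x.2, rfl⟩
  have hinj : Function.Injective (fun x : C => ((⟨φ x 0, hCP x x.2⟩ : P),
      (⟨(k ⟨φ x 0, hCP x x.2⟩)⁻¹ * x, C.mul_mem (C.inv_mem (hkx x).1) x.2, hH _ (by
        rw [map_mul, Equiv.Perm.mul_apply, map_inv, Equiv.Perm.inv_eq_iff_eq, (hkx x).2])⟩ :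
        (C ⊓ H : Subgroup G)))) := by
    intro x y hxy
    rw [Prod.mk.injEq] at hxy
    obtain ⟨h1, h2⟩ := hxy
    have h3 := congrArg Subtype.val h2
    simp only at h3
    rw [h1] at h3
    exact Subtype.ext (mul_left_cancel h3)
  have := Nat.card_le_card_of_injective _ hinj
  rwa [Nat.card_prod, Nat.card_coe_set_eq] at this

theorem card_bits_ge {k U m : ℕ} (hm : Nat.ble m (pc k U) = true)
    (hl : Nat.beq (Nat.shiftRight U (Nat.pow 2 k)) 0 = true) : m ≤ (bits (2 ^ k) U).card := by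
  have h1 : U >>> 2 ^ k = 0 := Nat.eq_of_beq_eq_true hl
  have hlt' : U < 2 ^ 2 ^ k := by
    rw [Nat.shiftRight_eq_div_pow] at h1
    exact (Nat.div_eq_zero_iff_lt (by positivity)).1 h1
  rw [← pc_eq k _ hlt']; exact Nat.le_of_ble_eq_true hm

/-! ### The fixed points of `f` -/

/-- the points moved by `f` -/
noncomputable def mvd : ℕ := moved 17 (nw [.f] false)
theorem mvd_eq : mvd = moved 17 (nw [.f] false) := rfl
/-- the bits of `U` which are not bits of `m` -/
noncomputable def dif (U m : ℕ) : ℕ := Nat.xor U (Nat.land U m)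

theorem testBit_dif (U m p : ℕ) : (dif U m).testBit p = (U.testBit p && !m.testBit p) := by
  show (U ^^^ (U &&& m)).testBit p = _
  rw [Nat.testBit_xor, Nat.testBit_and]
  cases U.testBit p <;> cases m.testBit p <;> rfl

/-- the fixed points of `f` -/
noncomputable def fx : ℕ := dif UG mvd

theorem fx_eq : fx = dif UG mvd := rfl

attribute [irreducible] fx mvd

theorem pcF : Nat.beq (pc 17 fx) 360 = true := by decide +kernel
theorem ltF : Nat.beq (Nat.shiftRight fx (Nat.pow 2 17)) 0 = true := by decide +kernel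

theorem ncard_fx : {p : ℕ | fx.testBit p = true}.ncard = 360 := ncard_testBit ltF pcF

theorem finite_fx : {p : ℕ | fx.testBit p = true}.Finite :=
  Set.finite_of_ncard_ne_zero (by rw [ncard_fx]; norm_num)

theorem lt_of_UG {p : ℕ} (h : UG.testBit p = true) : p < 2 ^ 17 := by
  by_contra hc
  have h1 : UG >>> 2 ^ 17 = 0 := Nat.eq_of_beq_eq_true ltG
  have h2 : (UG >>> 2 ^ 17).testBit (p - 2 ^ 17) = true := by
    rw [Nat.testBit_shiftRight]
    convert h using 2
    omega
  rw [h1] at h2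
  simp at h2

theorem rho_f : rho (on .f) = wperm (nw [.f] false) := by
  rw [← rho_word, word_single]; rfl

theorem f_mem_H : on .f ∈ H := Subgroup.subset_closure ⟨[.f], by decide, by rw [word_single]; rfl⟩

theorem fx_of_comm {c : ON} (hc : c * on .f = on .f * c) : fx.testBit (rho c 0) = true := by
  have h1 : UG.testBit (rho c 0) = true := by
    have : rho c 0 ∈ {p : ℕ | ∃ x, rho x 0 = p} := ⟨c, rfl⟩
    rwa [orbG] at this
  have h2 : rho (on .f) (rho c 0) = rho c 0 := by
    rw [← Equiv.Perm.mul_apply, ← map_mul, ← hc, map_mul, Equiv.Perm.mul_apply, H_fix _ f_mem_H]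
  have h3 : mvd.testBit (rho c 0) = false := by
    rw [mvd_eq, testBit_moved_false (k := 17) (wok [.f] false) (lt_of_UG h1), ← rho_f]
    exact h2
  rw [fx_eq, testBit_dif, h1, h3]
  rfl

/-! ### The conjugates of `f` under `H` -/

/-- the point fixed by `⟨a, b, c, d⟩` -/
def pt : ℕ := 122648

/-- elements `word l` of `H`, the preimage `r` of `pt`, the image `q` of `pt` under `f ^ word l` -/
def cert : List (List Gen × ℕ × ℕ) := [
  ([.e, .f, .d, .e, .c, .d, .b, .c, .d, .e, .f, .d, .a, .b, .c, .d, .e], 8655, 55947),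
  ([.e, .d, .c, .d, .e, .f, .b, .c, .d, .e, .b, .c, .d, .b, .c, .d, .e], 50218, 54190),
  ([.e, .d, .c, .d, .e, .b, .c, .d, .a, .b, .c, .d, .e], 100794, 60645),
  ([.e, .d, .c, .d, .e, .b, .c, .d, .b, .c, .d, .e], 25695, 69070),
  ([.e, .d, .c, .d, .e, .f, .b, .c, .d, .e, .c, .d, .c, .d, .b, .c, .d, .e], 113029, 67471),
  ([.e, .d, .c, .d, .e, .f, .b, .c, .d, .e], 62251, 121438),
  ([.e, .d, .c, .d, .b, .c, .d, .e], 6043, 5911)]

/-- check of an entry -/
noncomputable def okC (e : List Gen × ℕ × ℕ) : Bool :=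
  (Nat.beq (ptWord (nw e.1 false) e.2.1) pt && Nat.beq (ptWord (nw (e.1 ++ [.f]) false) e.2.1) e.2.2) &&
    e.1.all (fun x => decide ([x] ∈ w1))

theorem cert_ok : cert.all okC = true := by decide +kernel

/-- the images of `pt` found -/
noncomputable def mm (L : List (List Gen × ℕ × ℕ)) : ℕ :=
  List.rec (motive := fun _ => ℕ) 0 (fun e _ ih => seq (sat (nws s4) 1 (Nat.pow 2 e.2.2)) fun x => Nat.lor x ih) L

theorem mm_cons (e : List Gen × ℕ × ℕ) (L : List (List Gen × ℕ × ℕ)) :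
    mm (e :: L) = sat (nws s4) 1 (2 ^ e.2.2) ||| mm L := by
  show seq (sat (nws s4) 1 (Nat.pow 2 e.2.2)) (fun x => Nat.lor x (mm L)) = _
  rw [seq_eq]
  rfl

theorem mm_spec {L : List (List Gen × ℕ × ℕ)} {p : ℕ} (h : (mm L).testBit p = true) :
    ∃ e ∈ L, (sat (nws s4) 1 (2 ^ e.2.2)).testBit p = true := by
  induction L with
  | nil => exact absurd h (by show ¬ (0 : ℕ).testBit p = true; simp)
  | cons e L ih =>
    rw [mm_cons, Nat.testBit_or, Bool.or_eq_true] at h
    rcases h with h | h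
    · exact ⟨e, by simp, h⟩
    · obtain ⟨e', he', h'⟩ := ih h
      exact ⟨e', by simp [he'], h'⟩

/-- the images of `pt` found -/
noncomputable def MM : ℕ := mm cert

theorem MM_eq : MM = mm cert := rfl

attribute [irreducible] MM

theorem pcM : Nat.ble 2794 (pc 17 MM) = true := by decide +kernel
theorem ltM : Nat.beq (Nat.shiftRight MM (Nat.pow 2 17)) 0 = true := by decide +kernel

theorem fix4 : fixB (nws s4) pt = true := by decide +kernel

theorem word_mem_H {l : List Gen} (h : ∀ x ∈ l, [x] ∈ w1) : word l ∈ H := by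
  unfold word
  apply Subgroup.list_prod_mem
  intro y hy
  obtain ⟨x, hx, rfl⟩ := List.mem_map.1 hy
  exact Subgroup.subset_closure ⟨[x], h x hx, word_single x⟩

theorem s4_H : ∀ l ∈ s4, ∀ x ∈ l, [x] ∈ w1 := by decide
theorem s4_C : ∀ l ∈ s4, ∀ x ∈ l, x ∈ [Gen.a, .b, .c, .d, .g] := by decide

theorem word_append (l m : List Gen) : word (l ++ m) = word l * word m := by
  unfold word; rw [List.map_append, List.prod_append]

/-- the conjugates of `f` under `H` -/
def D0 : Set ON := {x : ON | ∃ h ∈ H, x = h * on .f * h⁻¹}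

theorem exists_conj {p : ℕ} (h : MM.testBit p = true) : ∃ x ∈ D0, rho x pt = p := by
  rw [MM_eq] at h
  obtain ⟨e, he, h1⟩ := mm_spec h
  have hc := List.all_eq_true.1 cert_ok e he
  obtain ⟨l, r, q⟩ := e
  unfold okC at hc
  rw [Bool.and_eq_true, Bool.and_eq_true] at hc
  obtain ⟨⟨c1, c2⟩, c3⟩ := hc
  have c1 := Nat.eq_of_beq_eq_true c1
  have c2 := Nat.eq_of_beq_eq_true c2
  rw [ptWord_eq (wok _ _), ← rho_word] at c1 c2
  simp only at c1 c2 c3 h1
  rw [word_append, map_mul, Equiv.Perm.mul_apply] at c2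
  have hl : word l ∈ H := word_mem_H fun x hx => by simpa using List.all_eq_true.1 c3 x hx
  let K : Subgroup ON := H ⊓ stabL rho [pt]
  obtain ⟨g, ⟨k, hk, rfl⟩, hg⟩ := sat_point_spec (K := K.map rho) (nws_ok s4) (by
    intro w hw
    obtain ⟨m, hm, rfl⟩ := List.mem_map.1 hw
    rw [← rho_word]
    refine Subgroup.mem_map_of_mem rho ⟨word_mem_H (s4_H m hm), ?_⟩
    intro q' hq'
    rw [List.mem_singleton] at hq'
    rw [hq', rho_word]
    exact fixB_spec (nws_ok s4) fix4 _ (List.mem_map_of_mem hm)) 1 h1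
  have hkp : rho k pt = pt := hk.2 pt (List.mem_singleton.2 rfl)
  have hkp' : (rho k)⁻¹ pt = pt := by rw [Equiv.Perm.inv_eq_iff_eq, hkp]
  have hlp : (rho (word l))⁻¹ pt = r := by rw [Equiv.Perm.inv_eq_iff_eq, c1]
  refine ⟨(k * word l) * on .f * (k * word l)⁻¹, ⟨k * word l, H.mul_mem hk.1 hl, rfl⟩, ?_⟩
  rw [map_mul, map_mul, map_mul, mul_inv_rev, map_mul, map_inv, map_inv]
  simp only [Equiv.Perm.mul_apply]
  rw [hkp', hlp]
  have e1 : rho (on .f) r = rho (word [.f]) r := by rw [word_single]; rfl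
  rw [e1, c2]
  exact hg

theorem D0_ge [Finite ON] : 2794 ≤ D0.ncard := by
  classical
  have h2 : 2794 ≤ (bits (2 ^ 17) MM).card := by
    have a := pcM
    have b := ltM
    generalize MM = M at a b ⊢
    exact card_bits_ge a b
  have h3 : ((bits (2 ^ 17) MM : Finset ℕ) : Set ℕ) ⊆ (fun x : ON => rho x pt) '' D0 := by
    intro p hp
    obtain ⟨x, hx, h⟩ := exists_conj (mem_bits.1 hp).2
    exact ⟨x, hx, h⟩
  have h4 := Set.ncard_le_ncard h3 (Set.toFinite _)
  rw [Set.ncard_coe_finset] at h4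
  exact h2.trans (h4.trans (Set.ncard_image_le (Set.toFinite _)))

/-! ### The order of the centraliser -/

theorem C5_eq : C5 = Cfsg.Agent.ONType.TupK.K0 := Cfsg.Agent.ONType.TupleClass.closure_eq

theorem card_C5 (hON : Cfsg.IsON ON) : Nat.card C5 = 161280 := by
  have := Cfsg.Agent.ONType.RepCent.finite_of_isON hON
  apply le_antisymm
  · rw [C5_eq]
    refine (Cfsg.Agent.ONType.TupK.card_K0_le hON.1).trans ?_
    have := (Cfsg.Agent.ONType.TupT0.card_T0_le hON.1).2
    omega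
  · exact Cfsg.Agent.ONType.RepCent.card_C5_ge

/-- **The order of the centraliser of `f`.** -/
theorem card_centralizer (hON : Cfsg.IsON ON) :
    Nat.card (Subgroup.centralizer ({on .f} : Set ON)) = 161280 := by
  have hfin := Cfsg.Agent.ONType.RepCent.finite_of_isON hON
  set C := Subgroup.centralizer ({on .f} : Set ON) with hC
  have hCm : ∀ x, x ∈ C ↔ x * on .f = on .f * x := fun x => Subgroup.mem_centralizer_singleton_iff
  obtain ⟨hidx, hstab, -⟩ := index_and_suborbits (by rw [H_eq]; exact Cfsg.Agent.SporRec.ONIndexUpper.index_le)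
    (by rw [H_eq]; exact Cfsg.Agent.SporRec.ONIndexUpper.index_ne_zero)
  have hHc : Nat.card H = 3753792 := by
    have h1 := H.card_mul_index
    rw [hidx, hON.2] at h1
    exact Nat.eq_of_mul_eq_mul_right (by norm_num : 0 < 122760) (h1.trans (by norm_num))
  -- `C_H(f)`
  have h5 := card_C5 hON
  have h5C : C5 ≤ C := Cfsg.Agent.ONType.RepCent.C5_le hON.1
  have hA : Nat.card (C5 ⊓ H : Subgroup ON) = 672 := by
    have h1 := Cfsg.Agent.ONType.RepCent.stepB Cfsg.Agent.ONType.RepCent.rho5 [] 0 240 Cfsg.Agent.ONType.RepCent.s5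
      (Cfsg.Agent.ONType.RepCent.img (by decide)) Cfsg.Agent.ONType.RepCent.f5 Cfsg.Agent.ONType.RepCent.m5
      Cfsg.Agent.ONType.RepCent.l5
    have h2 := Cfsg.Agent.ONType.RepCent.stepB Cfsg.Agent.ONType.RepCent.rho5 [0] 20 672 s4
      (Cfsg.Agent.ONType.RepCent.img (by decide)) Cfsg.Agent.ONType.RepCent.f4 Cfsg.Agent.ONType.RepCent.m4
      Cfsg.Agent.ONType.RepCent.l4
    have h3 : 0 < Nat.card (stabL Cfsg.Agent.ONType.RepCent.rho5 [20, 0]) := Nat.card_pos
    have h4 : Nat.card (stabL Cfsg.Agent.ONType.RepCent.rho5 []) ≤ Nat.card C5 := Subgroup.card_le_card_group _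
    have h6 : Nat.card (stabL Cfsg.Agent.ONType.RepCent.rho5 [0]) = 672 := by omega
    have h7 : (stabL Cfsg.Agent.ONType.RepCent.rho5 [0]).map C5.subtype = C5 ⊓ H := by
      ext x
      constructor
      · rintro ⟨y, hy, rfl⟩
        exact ⟨y.2, (hstab _).1 (hy 0 (List.mem_singleton.2 rfl))⟩
      · rintro ⟨hx1, hx2⟩
        refine ⟨⟨x, hx1⟩, ?_, rfl⟩
        intro q hq
        rw [List.mem_singleton] at hq
        rw [hq]
        exact (hstab x).2 hx2
    rw [← h7, Subgroup.card_map_of_injective C5.subtype_injective, h6]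
  have hB : Nat.card (C ⊓ H : Subgroup ON) = 672 := by
    have h1 := conj_count H C (on .f) (fun x hx => (hCm x).1 hx)
    have h2 : 2794 * Nat.card (H ⊓ C : Subgroup ON) ≤ 3753792 := by
      rw [← hHc]
      exact (Nat.mul_le_mul_right _ D0_ge).trans h1
    rw [inf_comm] at h2
    have h3 : Nat.card (C5 ⊓ H : Subgroup ON) ∣ Nat.card (C ⊓ H : Subgroup ON) :=
      Subgroup.card_dvd_of_le (inf_le_inf_right _ h5C)
    rw [hA] at h3
    obtain ⟨m, hm⟩ := h3
    have h4 : 0 < Nat.card (C ⊓ H : Subgroup ON) := Nat.card_pos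
    have : m = 1 := by
      rw [hm] at h2 h4
      have : m ≠ 0 := by rintro rfl; simp at h4
      omega
    rw [hm, this]
  -- the orbit of `0` under `C(f)`
  have h1 := orbit_count rho H C {p : ℕ | fx.testBit p = true} finite_fx (fun x hx => (hstab x).1 hx)
    (fun x hx => fx_of_comm ((hCm x).1 hx))
  rw [ncard_fx, hB] at h1
  obtain ⟨m, hm⟩ : Nat.card C5 ∣ Nat.card C := Subgroup.card_dvd_of_le h5C
  rw [h5] at hm
  have h2 : Nat.card C ∣ 460815505920 := by rw [← hON.2]; exact Subgroup.card_subgroup_dvd_card C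
  have h3 : m = 1 := by
    have h4 : 0 < Nat.card C := Nat.card_pos
    have h6 : m = 0 ∨ m = 1 ∨ m = 2 ∨ 3 ≤ m := by omega
    rcases h6 with rfl | rfl | rfl | h6
    · omega
    · rfl
    · exfalso
      rw [hm] at h2
      omega
    · omega
  rw [hm, h3]

end Cfsg.Agent.UGT.C.BalONCard
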