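import Cfsg.Agent.UGT.C.BalONTab
import Cfsg.Agent.ONType.Fus

/-!
# The presented O'Nan group: one class of involutions; the normaliser of the Sylow 2-subgroup (helper88)
-/

set_option autoImplicit false
set_option maxRecDepth 100000
set_option Elab.async false

namespace Cfsg.Agent.UGT.C.BalONInv

open Cfsg.Spor (ON)
open Cfsg.Spor.ON (Gen)
open Cfsg.Agent.Lib.PackMat Cfsg.Agent.SporadicB.ON45Data Cfsg.Agent.SporadicB.ON45Word
  Cfsg.Agent.ONType.SecondTuple Cfsg.Agent.HN.PC Cfsg.Agent.Schreier.ONRel Cfsg.Agent.UGT.C.PcTab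
  Cfsg.Agent.UGT.C.BalONTab

theorem rels (hs : IsSimpleGroup ON) : Rels s 9 sq cj :=
  ⟨fun _ hk => s_sq hs hk, fun _ hk _ hi => s_cj hs hk hi, sq_lt, cj_lt⟩

/-- the element with the code `x` -/
noncomputable def E (x : ℕ) : ON := ev s x 9

/-- the Sylow 2-subgroup -/
abbrev T : Subgroup ON := Cfsg.Agent.Schreier.ONTr.T

theorem E_mem (x : ℕ) : E x ∈ T := ev_mem s x 9

theorem exists_E (hs : IsSimpleGroup ON) {g : ON} (hg : g ∈ T) : ∃ x < 512, g = E x :=
  exists_code (rels hs) 9 le_rfl g hg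

theorem E_inj (hs : IsSimpleGroup ON) {x y : ℕ} (hx : x < 512) (hy : y < 512) (h : E x = E y) : x = y :=
  code_inj (rels hs) le_rfl (Cfsg.Agent.Schreier.ONTr.card_T hs) hx hy h

theorem E_mul (hs : IsSimpleGroup ON) {x : ℕ} (hx : x < 512) (y : ℕ) : E x * E y = E (mu x y) :=
  mul_eq (rels hs) rules hx y

theorem mu_lt (hs : IsSimpleGroup ON) {x : ℕ} (hx : x < 512) (y : ℕ) : mu x y < 512 :=
  mulk_lt (rels hs) rules hx y

theorem E_zero : E 0 = 1 := ev_zero s 9

/-- the product of the `s i` over the bits -/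
theorem ev_eq_prod (x : ℕ) : ∀ k, ev s x k = (((List.range k).filter fun i => x.testBit i).map s).prod
  | 0 => rfl
  | k + 1 => by
    show ev s x k * (bif x.testBit k then s k else 1) = _
    rw [List.range_succ, List.filter_append, List.map_append, List.prod_append, ev_eq_prod x k]
    cases h : x.testBit k
    · simp [h]
    · simp [h]

/-- the bits of a code -/
def bl (x : ℕ) : List ℕ := (List.range 9).filter fun i => x.testBit i

theorem E_eq (x : ℕ) : ((cat (bl x)).map on).prod = E x := by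
  rw [prod_cat]; exact (ev_eq_prod x 9).symm

theorem E_pow (i : ℕ) (hi : i < 9) : E (2 ^ i) = s i := by
  have h : bl (2 ^ i) = [i] := by
    revert i; decide
  unfold E
  rw [ev_eq_prod]
  show ((bl (2 ^ i)).map s).prod = _
  rw [h]; simp

/-! ### One class of involutions -/

/-- words conjugating the representatives to `f` -/
def wr : List (ℕ × List Gen) := [
  (2, [.e, .d, .c, .d, .c, .e, .d, .c, .b, .g, .g, .g, .e, .d, .c, .b, .g, .e, .d, .b, .c, .d, .b, .c, .a, .b]),
  (8, [.e, .d, .c, .d, .e, .g, .g, .g, .e, .g, .d, .c, .d, .e]),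
  (64, [.e, .d, .c, .d, .c, .e, .d, .c, .b, .g, .g, .g, .e, .d, .c, .b, .g, .e, .d, .b, .c, .d]),
  (128, [.e, .d, .f, .e]),
  (256, [.e, .d, .c, .g, .g, .g, .e, .d, .f, .e, .c, .d, .b, .c, .a, .b, .g, .g, .g, .e, .d]),
  (320, [.e, .d, .c, .g, .g, .g, .e, .d, .c, .b, .g, .g, .g, .e, .g, .g, .g, .d, .c, .b, .g, .e, .c, .d])]

/-- check of a conjugation -/
noncomputable def okW (e : ℕ × List Gen) : Bool :=
  checkEq C45 (mats (e.2 ++ cat (bl e.1))) (mats (.f :: e.2)) 0 45

theorem wr_ok : wr.all okW = true := by decide +kernel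

theorem conj_rep (hs : IsSimpleGroup ON) {r : ℕ} (hr : r ∈ reps) : ∃ y : ON, y * E r * y⁻¹ = on .f := by
  have key : ∀ e ∈ wr, ((e.2.map on).prod) * E e.1 * ((e.2.map on).prod)⁻¹ = on .f := by
    intro e he
    have h := eq_of_words hs (List.all_eq_true.1 wr_ok e he)
    rw [List.map_append, List.prod_append, E_eq, List.map_cons, List.prod_cons] at h
    rw [h, mul_inv_cancel_right]
  have h1 : r = 1 ∨ ∃ e ∈ wr, e.1 = r := by
    revert r; decide
  rcases h1 with rfl | ⟨e, he, rfl⟩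
  · refine ⟨1, ?_⟩
    have : E 1 = on .f := by
      have := E_pow 0 (by norm_num)
      rw [pow_zero] at this
      rw [this]
      show ((sw 0).map on).prod = _
      simp [sw]
    rw [this]; group
  · exact ⟨_, key e he⟩

theorem E_one : E 1 = on .f := by
  have := E_pow 0 (by norm_num)
  rw [pow_zero] at this
  rw [this]
  show ((sw 0).map on).prod = _
  simp [sw]

theorem E_two : E 2 = on .a := by
  have := E_pow 1 (by norm_num)
  rw [pow_one] at this
  rw [this]
  show ((sw 1).map on).prod = _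
  simp [sw]

/-- an involution of `T` is conjugate to `f` -/
theorem conj_of_mem (hs : IsSimpleGroup ON) {g : ON} (hg : g ∈ T) (h2 : g * g = 1) (h1 : g ≠ 1) :
    ∃ y : ON, y * g * y⁻¹ = on .f := by
  obtain ⟨x, hx, rfl⟩ := exists_E hs hg
  have hx0 : x ≠ 0 := by rintro rfl; exact h1 E_zero
  have h3 : mu x x = 0 := by
    apply E_inj hs (mu_lt hs hx x) (by norm_num)
    rw [← E_mul hs hx, h2, E_zero]
  obtain ⟨e, he, hex⟩ := List.any_eq_true.1 ((inv_all x hx h3).resolve_left hx0)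
  have hex : e.1 = x := Nat.eq_of_beq_eq_true hex
  have hc := List.all_eq_true.1 inv_conj e he
  rw [Bool.and_eq_true, Bool.and_eq_true, Bool.and_eq_true] at hc
  obtain ⟨c1, c2, c3, c4⟩ := hc
  have c1 := Nat.eq_of_beq_eq_true c1
  have c2 : e.2.1 < 512 := Nat.blt_eq.mp c2
  have c3 : e.2.2 < 512 := Nat.blt_eq.mp c3
  obtain ⟨r, hr, hre⟩ := List.any_eq_true.1 c4
  have hre : r = e.2.2 := Nat.eq_of_beq_eq_true hre
  obtain ⟨y, hy⟩ := conj_rep hs hr
  have h4 : E e.2.1 * E x = E e.2.2 * E e.2.1 := by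
    rw [E_mul hs c2, E_mul hs c3, ← hex, c1]
  refine ⟨y * E e.2.1, ?_⟩
  calc y * E e.2.1 * E x * (y * E e.2.1)⁻¹ = y * (E e.2.1 * E x) * (E e.2.1)⁻¹ * y⁻¹ := by group
    _ = y * E e.2.2 * y⁻¹ := by rw [h4]; group
    _ = on .f := by rw [← hre, hy]

/-- **All involutions are conjugate to `f`.** -/
theorem conj_f (hON : Cfsg.IsON ON) {g : ON} (h2 : g * g = 1) (h1 : g ≠ 1) : ∃ y : ON, y * g * y⁻¹ = on .f := by
  have := Cfsg.Agent.ONType.RepCent.finite_of_isON hON
  obtain ⟨P, hP⟩ := Cfsg.Agent.Schreier.ONTr.exists_sylow hON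
  have hz : IsPGroup 2 (Subgroup.zpowers g) := by
    apply IsPGroup.of_card_dvd_pow (n := 1)
    rw [Nat.card_zpowers, pow_one]
    exact orderOf_dvd_of_pow_eq_one (by rw [pow_two]; exact h2)
  obtain ⟨k, -, hk⟩ := Cfsg.Agent.ONType.Fus.exists_conj_into (S := P) (H := ⊤) le_top hz le_top
  have h3 := hk g (Subgroup.mem_zpowers g)
  rw [hP] at h3
  obtain ⟨y, hy⟩ := conj_of_mem hON.1 h3 (by
    calc k * g * k⁻¹ * (k * g * k⁻¹) = k * (g * g) * k⁻¹ := by group
      _ = 1 := by rw [h2]; group) (by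
    intro h
    apply h1
    calc g = k⁻¹ * (k * g * k⁻¹) * k := by group
      _ = 1 := by rw [h]; group)
  exact ⟨y * k, by rw [← hy]; group⟩

/-! ### The normaliser of `T` -/

theorem comm_of_code (hs : IsSimpleGroup ON) {x y : ℕ} (hx : x < 512) (hy : y < 512) (h : E x * E y = E y * E x) :
    mu x y = mu y x := by
  rw [E_mul hs hx, E_mul hs hy] at h
  exact E_inj hs (mu_lt hs hx y) (mu_lt hs hy x) h

/-- the centre of `T` -/
theorem center_T (hs : IsSimpleGroup ON) {g : ON} (hg : g ∈ T) (h : ∀ t ∈ T, g * t = t * g) : g = 1 ∨ g = on .f := by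
  obtain ⟨x, hx, rfl⟩ := exists_E hs hg
  rcases center_ok x hx (fun i hi => comm_of_code hs hx (by
    have : (2 : ℕ) ^ i < 2 ^ 9 := Nat.pow_lt_pow_right (by norm_num) hi
    omega) (h _ (E_mem _))) with rfl | rfl
  · exact Or.inl E_zero
  · exact Or.inr E_one

/-- involutions of `T` centralising `[T, T]` -/
theorem cent_comm (hs : IsSimpleGroup ON) {g : ON} (hg : g ∈ T) (h2 : g * g = 1)
    (h : ∀ t ∈ Pc s 6, g * t = t * g) : g = 1 ∨ g = on .f ∨ g = on .a ∨ g = on .f * on .a := by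
  obtain ⟨x, hx, rfl⟩ := exists_E hs hg
  have h3 : mu x x = 0 := by
    apply E_inj hs (mu_lt hs hx x) (by norm_num)
    rw [← E_mul hs hx, h2, E_zero]
  have h4 : E 3 = on .f * on .a := by
    rw [← E_one, ← E_two, E_mul hs (by norm_num)]
    congr 1
  rcases comm_ok x hx h3 (fun i hi => comm_of_code hs hx (by
    have : (2 : ℕ) ^ i < 2 ^ 9 := Nat.pow_lt_pow_right (by norm_num) (by omega)
    omega) (h _ (by rw [E_pow i (by omega)]; exact mem_Pc hi))) with rfl | rfl | rfl | rfl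
  · exact Or.inl E_zero
  · exact Or.inr (Or.inl E_one)
  · exact Or.inr (Or.inr (Or.inl E_two))
  · exact Or.inr (Or.inr (Or.inr h4))

end Cfsg.Agent.UGT.C.BalONInv
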