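import Cfsg.Agent.UGT.C.BalONCard
import Cfsg.Agent.UGT.C.BalONInv

/-!
# The automorphisms of the presented O'Nan group (helper88)

`out`: an automorphism is inner, or inner times the automorphism `sg` of the second tuple.
-/

set_option autoImplicit false
set_option maxRecDepth 100000
set_option Elab.async false

namespace Cfsg.Agent.UGT.C.BalONOut

open Cfsg.Spor (ON)
open Cfsg.Spor.ON (Gen)
open Cfsg.Agent.SporadicB.ONHom Cfsg.Agent.SporadicB.ON45Data Cfsg.Agent.SporadicB.ON45Rels
  Cfsg.Agent.SporadicB.ON45Core Cfsg.Agent.SporadicB.ON45Word Cfsg.Agent.Lib.PackMat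
  Cfsg.Agent.ONType.TupRow Cfsg.Agent.ONType.TupCover Cfsg.Agent.ONType.TupT0 Cfsg.Agent.ONType.TupK
  Cfsg.Agent.ONType.TupS Cfsg.Agent.ONType.SecondTuple Cfsg.Agent.ONType.TupleClass

theorem rels_map {P Q : Type*} [Group P] [Group Q] {a b c d e f g : P} (h : Rels a b c d e f g) (φ : P →* Q) :
    Rels (φ a) (φ b) (φ c) (φ d) (φ e) (φ f) (φ g) where
  aa := by simpa only [map_mul, map_pow, map_one] using congrArg φ h.aa
  bb := by simpa only [map_mul, map_pow, map_one] using congrArg φ h.bb
  cc := by simpa only [map_mul, map_pow, map_one] using congrArg φ h.cc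
  dd := by simpa only [map_mul, map_pow, map_one] using congrArg φ h.dd
  ee := by simpa only [map_mul, map_pow, map_one] using congrArg φ h.ee
  ff := by simpa only [map_mul, map_pow, map_one] using congrArg φ h.ff
  ab := by simpa only [map_mul, map_pow, map_one] using congrArg φ h.ab
  bc := by simpa only [map_mul, map_pow, map_one] using congrArg φ h.bc
  de := by simpa only [map_mul, map_pow, map_one] using congrArg φ h.de
  ef := by simpa only [map_mul, map_pow, map_one] using congrArg φ h.ef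
  ac := by simpa only [map_mul, map_pow, map_one] using congrArg φ h.ac
  ad := by simpa only [map_mul, map_pow, map_one] using congrArg φ h.ad
  ae := by simpa only [map_mul, map_pow, map_one] using congrArg φ h.ae
  af := by simpa only [map_mul, map_pow, map_one] using congrArg φ h.af
  bd := by simpa only [map_mul, map_pow, map_one] using congrArg φ h.bd
  be := by simpa only [map_mul, map_pow, map_one] using congrArg φ h.be
  bf := by simpa only [map_mul, map_pow, map_one] using congrArg φ h.bf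
  ce := by simpa only [map_mul, map_pow, map_one] using congrArg φ h.ce
  cf := by simpa only [map_mul, map_pow, map_one] using congrArg φ h.cf
  df := by simpa only [map_mul, map_pow, map_one] using congrArg φ h.df
  afcd := by simpa only [map_mul, map_pow, map_one] using congrArg φ h.afcd
  afgg := by simpa only [map_mul, map_pow, map_one] using congrArg φ h.afgg
  cdg := by simpa only [map_mul, map_pow, map_one] using congrArg φ h.cdg
  dcg := by simpa only [map_mul, map_pow, map_one] using congrArg φ h.dcg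
  bcdg := by simpa only [map_mul, map_pow, map_one] using congrArg φ h.bcdg
  gb := by simpa only [map_mul, map_pow, map_one] using congrArg φ h.gb
  ge := by simpa only [map_mul, map_pow, map_one] using congrArg φ h.ge

/-- the relations of the generators -/
theorem rels_on (hs : IsSimpleGroup ON) : Rels (on .a) (on .b) (on .c) (on .d) (on .e) (on .f) (on .g) := by
  have h := rels_map (rev_rels hs) (sw hs)
  rwa [sw_a, sw_b, sw_c, sw_d, sw_e, sw_f, sw_g] at h

/-! ### The last generator -/

/-- `m` is not the matrix list of an element satisfying the relations of `g` -/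
noncomputable def badL (a b c d e f m : List ℕ) : Bool :=
  rowNe (a ++ f) (m ++ m) ||
    (rowNe (c ++ (((d ++ m) ++ d) ++ m)) ((((d ++ m) ++ d) ++ m) ++ c) ||
      (rowNe (d ++ (((c ++ m) ++ c) ++ m)) ((((c ++ m) ++ c) ++ m) ++ d) ||
        (rowNe (List.replicate 5 (((b ++ c) ++ d) ++ m)).flatten [] ||
          rowNe ((((m ++ e) ++ ((d ++ m) ++ d)) ++ ((e ++ m) ++ e)) ++ ((d ++ m) ++ d)) [])))

theorem badL_spec {A B C D E F t : ON} {a b c d e f m : List ℕ} (la : LW A a) (lb : LW B b) (lc : LW C c)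
    (ld : LW D d) (le : LW E e) (lf : LW F f) (W : LW t m) (h3 : badL a b c d e f m = true)
    (h : Rels A B C D E F t) : False := by
  unfold badL at h3
  rw [Bool.or_eq_true, Bool.or_eq_true, Bool.or_eq_true, Bool.or_eq_true] at h3
  rcases h3 with h3 | h3 | h3 | h3 | h3
  · exact ne_of_rowNe (la.mul lf) (W.mul W) h3 h.afgg
  · exact ne_of_rowNe (lc.mul (((ld.mul W).mul ld).mul W)) ((((ld.mul W).mul ld).mul W).mul lc) h3 h.cdg
  · exact ne_of_rowNe (ld.mul (((lc.mul W).mul lc).mul W)) ((((lc.mul W).mul lc).mul W).mul ld) h3 h.dcg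
  · exact ne_of_rowNe ((((lb.mul lc).mul ld).mul W).pow 5) LW.one h3 h.bcdg
  · exact ne_of_rowNe (((W.mul le).mul ((ld.mul W).mul ld)).mul ((le.mul W).mul le) |>.mul ((ld.mul W).mul ld))
      LW.one h3 h.ge

/-- a word which does not satisfy the relations of `g` -/
noncomputable def bad (w : List ℕ) : Bool :=
  badL [mJ 5] [mJ 6] [mJ 0] [mJ 1] [gens (gi .e)] [mJ 7] (w.map mJ)

theorem all_ok : allLive Cfsg.Agent.ONType.TupTData.C (fun _ w => isIn [[2]] w || bad w) = true := by decide +kernel

theorem uniq_g (hs : IsSimpleGroup ON) {t : ON} (ht : t ∈ T0)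
    (h : Rels (on .a) (on .b) (on .c) (on .d) (on .e) (on .f) t) : t = on .g := by
  obtain ⟨l, -, h1, h2⟩ := exists_T0 hs all_ok ht
  obtain ⟨w, hw⟩ : ∃ w, w = nword Cfsg.Agent.ONType.TupTData.C l := ⟨_, rfl⟩
  rw [← hw] at h1 h2
  have W : LW t (w.map mJ) := by rw [h2]; exact LW_ev lJ w
  rcases Bool.or_eq_true_iff.1 h1 with h3 | h3
  · have h4 := isIn_spec h3
    rw [List.mem_singleton] at h4
    rw [h2, h4, Cfsg.Agent.SporadicRecognition.CosetCert.ev_cons, Cfsg.Agent.SporadicRecognition.CosetCert.ev_nil,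
      mul_one]
    rfl
  · exfalso
    unfold bad at h3
    exact badL_spec (A := gJ 5) (B := gJ 6) (C := gJ 0) (D := gJ 1) (F := gJ 7) (lJ 5) (lJ 6) (lJ 0) (lJ 1)
      (LW.gen .e) (lJ 7) W h3 h

/-- automorphisms agreeing on the generators -/
theorem aut_ext {α β : MulAut ON} (h : ∀ x : Gen, α (on x) = β (on x)) : α = β := by
  have h1 : α.toMonoidHom = β.toMonoidHom := PresentedGroup.ext h
  ext x
  exact DFunLike.congr_fun h1 x

/-- an automorphism fixing `a, …, f` is trivial -/
theorem fix_eq_one (H : Cen) (γ : MulAut ON) (ha : γ (on .a) = on .a) (hb : γ (on .b) = on .b)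
    (hc : γ (on .c) = on .c) (hd : γ (on .d) = on .d) (he : γ (on .e) = on .e) (hf : γ (on .f) = on .f) : γ = 1 := by
  have hs := H.simple
  have hg : γ (on .g) = on .g := by
    apply uniq_g hs
    · apply mem_T0 hs
      · rw [H.mem]
        have h := congrArg γ (comm_f hs g_mem)
        rwa [map_mul, map_mul, hf] at h
      · have h := congrArg γ (comm_a hs g_mem)
        rwa [map_mul, map_mul, ha] at h
    · have h := rels_map (rels_on hs) γ.toMonoidHom
      change Rels (γ (on .a)) (γ (on .b)) (γ (on .c)) (γ (on .d)) (γ (on .e)) (γ (on .f)) (γ (on .g)) at h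
      rwa [ha, hb, hc, hd, he, hf] at h
  apply aut_ext
  intro x
  cases x
  · exact hg
  · exact ha
  · exact hb
  · exact hc
  · exact hd
  · exact he
  · exact hf

/-- the facts on the centraliser of `f` -/
theorem cen (hON : Cfsg.IsON ON) : Cen :=
  cen_of hON.1 (BalONCard.card_centralizer hON)
    (Cfsg.Agent.ONType.RepCent.centralizer_eq hON (BalONCard.card_centralizer hON))

theorem on_a_ne_one : on .a ≠ 1 := a2_ne

theorem conj_conj (x y : ON) : (MulAut.conj x * MulAut.conj y : MulAut ON) = MulAut.conj (x * y) := (map_mul _ _ _).symm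

/-- **The automorphism group.** -/
theorem out (hON : Cfsg.IsON ON) (sg : MulAut ON) (hsg : ∀ x, sg (on x) = fam a2 b2 c2 d2 e2 f2 g2 x)
    (α : MulAut ON) : ∃ x : ON, α = MulAut.conj x ∨ α = MulAut.conj x * sg := by
  have H := cen hON
  have hs := H.simple
  have R := rels_on hs
  have hf1 : on .f ≠ 1 := by
    intro h
    have h1 := rev_rels hs
    apply on_a_ne_one
    have h2 := congrArg (sw hs) h
    rwa [sw_f, map_one] at h2
  obtain ⟨y, hy⟩ := BalONInv.conj_f hON (g := α (on .f)) (by rw [← map_mul, R.ff, map_one])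
    (fun h => hf1 (by rwa [map_eq_one_iff α α.injective] at h))
  obtain ⟨β, hβ⟩ : ∃ β : MulAut ON, β = MulAut.conj y * α := ⟨_, rfl⟩
  have hβf : β (on .f) = on .f := by rw [hβ]; exact hy
  have P := (Cfsg.Agent.ONType.PathRels.of_rels on_a_ne_one R).map β.toMonoidHom β.injective
  change Cfsg.Agent.ONType.PathRels (β (on .a)) (β (on .b)) (β (on .c)) (β (on .d)) (β (on .e)) (β (on .f)) at P
  rw [hβf] at P
  have hne : β (on .a) ≠ on .f := fun h => af_ne (β.injective (h.trans hβf.symm))
  obtain ⟨x, hx⟩ := tupleConj H _ _ _ _ _ P hne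
  have hαβ : α = MulAut.conj y⁻¹ * β := by
    rw [hβ, ← mul_assoc, conj_conj, inv_mul_cancel, map_one, one_mul]
  rcases hx with ⟨h1, h2, h3, h4, h5, h6⟩ | ⟨h1, h2, h3, h4, h5, h6⟩
  · have hγ := fix_eq_one H (MulAut.conj x * β) h1 h2 h3 h4 h5 (by
      show x * β (on .f) * x⁻¹ = _
      rw [hβf, h6])
    refine ⟨y⁻¹ * x⁻¹, Or.inl ?_⟩
    rw [hαβ, ← conj_conj]
    congr 1
    rw [map_inv, eq_inv_iff_mul_eq_one]
    have e1 : β = (MulAut.conj x)⁻¹ := eq_inv_of_mul_eq_one_right hγ
    rw [e1, inv_mul_cancel]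
  · have key : ∀ z w : ON, x * β z * x⁻¹ = w → ∀ v, sg v = w → (sg⁻¹ * (MulAut.conj x * β)) z = v := by
      intro z w h v hv
      show sg⁻¹ (x * β z * x⁻¹) = v
      rw [h, ← hv, MulAut.inv_apply_self]
    have hγ := fix_eq_one H (sg⁻¹ * (MulAut.conj x * β)) (key _ _ h1 _ (hsg .a)) (key _ _ h2 _ (hsg .b))
      (key _ _ h3 _ (hsg .c)) (key _ _ h4 _ (hsg .d)) (key _ _ h5 _ (hsg .e)) (key _ f2 (by rw [hβf, h6]) _ (hsg .f))
    refine ⟨y⁻¹ * x⁻¹, Or.inr ?_⟩
    have e1 : MulAut.conj x * β = sg := (inv_mul_eq_one.1 hγ).symm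
    have e2 : β = MulAut.conj x⁻¹ * sg := by
      rw [← e1, ← mul_assoc, conj_conj, inv_mul_cancel, map_one, one_mul]
    rw [hαβ, e2, ← mul_assoc, conj_conj]

end Cfsg.Agent.UGT.C.BalONOut
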