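import Cfsg.Agent.UGT.C.BalLarge
import Cfsg.Agent.KFacts.SuzSheet

/-!
# The Suzuki group is locally balanced
-/

set_option autoImplicit false
set_option maxRecDepth 100000
set_option exponentiation.threshold 4000

namespace Cfsg.Agent.UGT.C.BalSuz

open Cfsg Cfsg.Spor Cfsg.Agent.Lib.PermNet Cfsg.Agent.Lib.PermNetOrbit Cfsg.Agent.SporadicRecognition.SuzPhi
  Cfsg.Agent.SporadicRecognition.SuzOrder Cfsg.Agent.SuzThree.Basic Cfsg.Agent.SuzThree.CentA
  Cfsg.Agent.SuzThree.QZero Cfsg.Agent.KFacts.SuzCent Cfsg.Agent.KFacts.SuzR Cfsg.Agent.KFacts.SuzSheet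
  Cfsg.Agent.KFacts.Codes Cfsg.Agent.KFacts.Orbits Cfsg.Agent.Co2Type.Quad

theorem large : Large Q0 z0 where
  z_mem := z_mem
  z_ne := z_ne
  z_sq := z_sq
  comm_z _ hx := mem_C1.1 (Q0_le hx)
  conj_mem _ hg _ hx := normal_R (mem_C1.2 hg) hx
  sq _ hx := R_sq hx
  comm x hx y hy := by
    rcases R_comm hx hy with h1 | h1
    · exact Or.inl h1
    · right
      have h2 : (y * x) * z0 = z0 * (y * x) := mem_C1.1 (C1.mul_mem (Q0_le hy) (Q0_le hx))
      rw [h1, h2]
  cent _ _ hc := centralizer_R fun y hy => (hc y hy).symm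
  self g _ hc := by
    rcases centralizer_R (g := g) fun y hy => (hc y hy).symm with h1 | h1
    · rw [h1]; exact Q0.one_mem
    · rw [h1]; exact z_mem

theorem irr' : KFacts.AutLarge.Irr Q0 z0 := fun _ hN hinv =>
  KFacts.SuzR.irr hN fun u hu y hy => hinv u (mem_C1.1 hu) y hy

/-- conjugates `z` to the generator `c` -/
def n0w : List Suz.Gen := [.b, .c, .a, .b, .a, .b]

theorem el_conj (w v : List Suz.Gen) : el w * el v * (el w)⁻¹ = el (w ++ v ++ w.reverse) := by
  rw [el_append, el_append, el_reverse]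

theorem eq_el {w v : List Suz.Gen} (h : checkEq 11 (wd w) (wd v) = true) : el w = el v :=
  eq_of_reps (Rep.el w) (Rep.el v) h

theorem n0_conj : el n0w * z0 * (el n0w)⁻¹ = el [.c] := by
  show el n0w * el [.a] * (el n0w)⁻¹ = el [.c]
  rw [el_conj]
  exact eq_el (by decide +kernel)

theorem c_eq : el [.c] = C 1 := by
  have h : C (2 ^ 0) = xx 0 := cod_pow (by norm_num)
  rw [show (1 : ℕ) = 2 ^ 0 by norm_num, h]; rfl

theorem c_mem : el [.c] ∈ Q0 := q_mem .k1

theorem c_ne : el [.c] ≠ z0 := by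
  intro h
  have h64 : C 64 = z0 := cod_z (n := 6)
  rw [c_eq, ← h64] at h
  exact absurd (cod_injOn rels tri nondeg z_ne (by norm_num) (by norm_num) h) (by norm_num)

/-! ### generation -/

/-- `h3 n₀ d n₀` -/
def gw1 : List Suz.Gen := h3 ++ n0w ++ [.d] ++ n0w
/-- `c d n₀ d n₀` -/
def gw2 : List Suz.Gen := [.c] ++ [.d] ++ n0w ++ [.d] ++ n0w

theorem b_conj : el [.b] * (el gw1 * z0 * (el gw1)⁻¹) * (el [.b])⁻¹ = el gw2 * z0 * (el gw2)⁻¹ := by
  show el [.b] * (el gw1 * el [.a] * (el gw1)⁻¹) * (el [.b])⁻¹ = el gw2 * el [.a] * (el gw2)⁻¹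
  rw [el_conj, el_conj, el_conj]
  exact eq_el (by decide +kernel)

theorem comm_gen (x : Suz.Gen) (hx : x ≠ .b) : el [x] * z0 = z0 * el [x] := by
  show el [x] * el [.a] = el [.a] * el [x]
  rw [← el_append, ← el_append]
  cases x
  · rfl
  · exact absurd rfl hx
  · exact eq_el (by decide +kernel)
  · exact eq_el (by decide +kernel)
  · exact eq_el (by decide +kernel)
  · exact eq_el (by decide +kernel)
  · exact eq_el (by decide +kernel)

theorem hgen : Subgroup.closure ({c : Suz | c * z0 = z0 * c} ∪ {el n0w}) = ⊤ := by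
  set M := Subgroup.closure ({c : Suz | c * z0 = z0 * c} ∪ {el n0w}) with hM
  have hC : ∀ c : Suz, c * z0 = z0 * c → c ∈ M := fun c hc => Subgroup.subset_closure (Or.inl hc)
  have hn : el n0w ∈ M := Subgroup.subset_closure (Or.inr rfl)
  have hx : ∀ x : Suz.Gen, x ≠ .b → el [x] ∈ M := fun x hx => hC _ (comm_gen x hx)
  have h3m : el h3 ∈ M := hC _ (mem_C1.1 h3_mem)
  have h1 : el gw1 ∈ M := by
    rw [gw1, el_append, el_append, el_append]
    exact M.mul_mem (M.mul_mem (M.mul_mem h3m hn) (hx .d (by decide))) hn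
  have h2 : el gw2 ∈ M := by
    rw [gw2, el_append, el_append, el_append, el_append]
    exact M.mul_mem (M.mul_mem (M.mul_mem (M.mul_mem (hx .c (by decide)) (hx .d (by decide))) hn)
      (hx .d (by decide))) hn
  have hb : el [.b] ∈ M := by
    have h4 : ((el gw2)⁻¹ * el [.b] * el gw1) * z0 = z0 * ((el gw2)⁻¹ * el [.b] * el gw1) := by
      have h5 := b_conj
      calc ((el gw2)⁻¹ * el [.b] * el gw1) * z0
          = (el gw2)⁻¹ * (el [.b] * (el gw1 * z0 * (el gw1)⁻¹) * (el [.b])⁻¹) * el [.b] * el gw1 := by group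
        _ = (el gw2)⁻¹ * (el gw2 * z0 * (el gw2)⁻¹) * el [.b] * el gw1 := by rw [h5]
        _ = z0 * ((el gw2)⁻¹ * el [.b] * el gw1) := by group
    have h6 := M.mul_mem (M.mul_mem h2 (hC _ h4)) (M.inv_mem h1)
    have h7 : el gw2 * ((el gw2)⁻¹ * el [.b] * el gw1) * (el gw1)⁻¹ = el [.b] := by group
    rwa [h7] at h6
  rw [eq_top_iff, ← PresentedGroup.closure_range_of, Subgroup.closure_le]
  rintro _ ⟨x, rfl⟩
  have h8 : (PresentedGroup.of x : Suz) = el [x] := by simp [el]
  show (PresentedGroup.of x : Suz) ∈ M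
  rw [h8]
  by_cases hxb : x = .b
  · rw [hxb]; exact hb
  · exact hx x hxb

/-! ### the involutions of `Q0` -/

theorem chkInv : ∀ c < 128, mulc BB 6 c c = 0 → c = 0 ∨ c = 64 ∨
    (run (stf BB 6 L0) t0 (2 ^ 1)).testBit c = true := by decide +kernel

theorem chkSq : ∀ c < 128, mulc BB 6 c c = 0 ∨ mulc BB 6 c c = 64 := by decide +kernel

theorem hconj : ∀ a ∈ Q0, a * a = 1 → a ≠ 1 → ∃ k : Suz, k * z0 * k⁻¹ = a := by
  intro a ha ha2 ha1
  have h64 : C 64 = z0 := cod_z (n := 6)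
  rw [Q0_eq] at ha
  obtain ⟨c, hc, rfl⟩ := (mem_RG rels tri).1 ha
  rw [cod_mul rels tri] at ha2
  have hc0 : mulc BB 6 c c = 0 := by
    rcases chkSq c hc with h1 | h1
    · exact h1
    · rw [h1] at ha2
      exact absurd (h64.symm.trans ha2) z_ne
  rcases chkInv c hc hc0 with h1 | h1 | h1
  · rw [h1] at ha1
    exact absurd cod_zero ha1
  · refine ⟨1, ?_⟩
    rw [h1]
    show 1 * z0 * 1⁻¹ = C 64
    rw [h64]; group
  · obtain ⟨u, hu, hu'⟩ := run_conj (C := cod 6 z0 xx) (H := Hs C1 (cod 6 z0 xx) [])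
      (stage rels tri gg_mem C1_comm conj_AA ch0.1) t0 1 c h1
    refine ⟨u * el n0w, ?_⟩
    rw [← hu']
    show u * el n0w * z0 * (u * el n0w)⁻¹ = u * C 1 * u⁻¹
    rw [← c_eq, ← n0_conj]; group

theorem conj_injective : Function.Injective (MulAut.conj : Suz →* MulAut Suz) := by
  rw [injective_iff_map_eq_one]
  intro g hg
  have h1 : ∀ y : Suz, y * g = g * y := by
    intro y
    have := congrArg (fun f : MulAut Suz => f y) hg
    simp only [MulAut.conj_apply, MulAut.one_apply, mul_inv_eq_iff_eq_mul] at this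
    exact this.symm
  rcases centralizer_R (g := g) fun y _ => h1 y with h2 | h2
  · exact h2
  · exfalso
    have h3 := h1 (el n0w)
    rw [h2] at h3
    have h4 := n0_conj
    rw [h3, mul_inv_cancel_right] at h4
    exact c_ne h4.symm

/-- **The Suzuki group is locally balanced.** -/
theorem locallyBalanced_Suz : IsLocallyBalanced Suz := by
  have := finiteSuz
  refine BalLarge.locallyBalanced (n₀ := el n0w) conj_injective large irr' ?_ perfect odd_index ?_ ?_ hgen hconj
  · rw [card_R]; norm_num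
  · rw [n0_conj]; exact c_mem
  · rw [n0_conj]; exact c_ne

end Cfsg.Agent.UGT.C.BalSuz
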