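import Mathlib
import Cfsg.Prelude.Def_Balance
import Cfsg.Agent.Lib.Cores
import Cfsg.Agent.Lib.ThompsonPQ
import Cfsg.Agent.TwoFusion.ElemCent

/-!
# Local balance from a four-group with centralisers of characteristic 2

`Chr X v`: the involution `v` of `X` centralises a 2-subgroup `Q`, invariant under all automorphisms fixing `v`, and no
automorphism `≠ 1` of odd order is trivial on `Q`.

`core_eq_bot`: let `Inn X ≤ H ≤ Aut X`, `t` an involution of `H` fixing the elements `v`, `w` of a four-group all of whose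
involutions satisfy `Chr`. Then `O(C_H(t)) = 1`.
-/

set_option autoImplicit false

namespace Cfsg.Agent.UGT.C.BalTwo

open Cfsg

universe u

/-- the centraliser of `v` is of characteristic 2, also in `Aut X` -/
def Chr (X : Type u) [Group X] (v : X) : Prop :=
  ∃ Q : Subgroup X, IsPGroup 2 Q ∧ (∀ q ∈ Q, q * v = v * q) ∧
    (∀ α : MulAut X, α v = v → ∀ q ∈ Q, α q ∈ Q) ∧
    (∀ α : MulAut X, (∀ q ∈ Q, α q = q) → Odd (orderOf α) → α = 1)

section

variable {X : Type u} [Group X]

theorem Chr.map {v : X} (h : Chr X v) (β : MulAut X) : Chr X (β v) := by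
  obtain ⟨Q, h1, h2, h3, h4⟩ := h
  refine ⟨Q.map β.toMonoidHom, h1.map _, ?_, ?_, ?_⟩
  · rintro _ ⟨q, hq, rfl⟩
    change β q * β v = β v * β q
    rw [← map_mul, h2 q hq, map_mul]
  · rintro α hα _ ⟨q, hq, rfl⟩
    have h5 := h3 (β⁻¹ * α * β) (by
      change β⁻¹ (α (β v)) = v
      rw [hα, MulAut.inv_apply_self]) q hq
    refine ⟨_, h5, ?_⟩
    change β (β⁻¹ (α (β q))) = α (β q)
    rw [MulAut.apply_inv_self]
  · intro α hα ho
    have h5 : β⁻¹ * α * β = 1 := by
      refine h4 _ (fun q hq => ?_) ?_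
      · change β⁻¹ (α (β q)) = q
        rw [show α (β q) = β q from hα _ ⟨q, hq, rfl⟩]
        exact MulAut.inv_apply_self _ _ _
      · have : orderOf (β⁻¹ * α * β) = orderOf α := by
          have := orderOf_injective (MulAut.conj β⁻¹).toMonoidHom (MulAut.conj β⁻¹).injective α
          simpa [MulAut.conj_apply] using this
        rwa [this]
    have : α = β * (β⁻¹ * α * β) * β⁻¹ := by group
    rw [this, h5]; group

variable [Finite X]

/-- the subgroup `Y` of automorphisms of odd order centralising `t` and `v` is trivial -/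
theorem eq_bot (hinj : Function.Injective (MulAut.conj : X →* MulAut X)) {v : X} (hv : Chr X v)
    {t : MulAut X} (ht : t * t = 1) (htv : t v = v) {Y : Subgroup (MulAut X)} (hodd : (Nat.card Y).Coprime 2)
    (hYt : ∀ y ∈ Y, y * t = t * y) (hYv : ∀ y ∈ Y, y v = v)
    (hn : ∀ x : X, t x = x → x * v = v * x → ∀ y ∈ Y, MulAut.conj x * y * (MulAut.conj x)⁻¹ ∈ Y) : Y = ⊥ := by
  have hfact : Fact (Nat.Prime 2) := ⟨Nat.prime_two⟩
  obtain ⟨Q, h1, h2, h3, h4⟩ := hv
  have hfin : Finite (MulAut X) := inferInstance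
  have key : ∀ (α : MulAut X) (x : X), α * MulAut.conj x * α⁻¹ = MulAut.conj (α x) := by
    intro α x
    ext y
    simp [MulAut.mul_apply, MulAut.conj_apply, map_mul]
  have hnorm : ∀ α : MulAut X, α v = v → α ∈ Subgroup.normalizer ((Q.map MulAut.conj : Subgroup (MulAut X)) :
      Set (MulAut X)) := by
    intro α hα
    have hmap : ∀ β : MulAut X, β v = v → ∀ u ∈ Q.map MulAut.conj, β * u * β⁻¹ ∈ Q.map MulAut.conj := by
      rintro β hβ _ ⟨q, hq, rfl⟩
      rw [key]
      exact ⟨_, h3 β hβ q hq, rfl⟩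
    rw [Subgroup.mem_normalizer_iff]
    intro u
    refine ⟨fun hu => hmap α hα u hu, fun hu => ?_⟩
    have h5 := hmap α⁻¹ (by
      conv_lhs => rw [← hα]
      exact MulAut.inv_apply_self _ _ _) _ hu
    rwa [show α⁻¹ * (α * u * α⁻¹) * α⁻¹⁻¹ = u by group] at h5
  have hYU : Y ≤ Subgroup.normalizer ((Q.map MulAut.conj : Subgroup (MulAut X)) : Set (MulAut X)) :=
    fun y hy => hnorm y (hYv y hy)
  have hP : IsPGroup 2 (Subgroup.zpowers t) := by
    apply IsPGroup.of_card_dvd_pow (n := 1)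
    rw [Nat.card_zpowers, pow_one]
    exact orderOf_dvd_of_pow_eq_one (by rw [pow_two]; exact ht)
  have hinf : Y ⊓ Q.map MulAut.conj = ⊥ := by
    have hU : IsPGroup 2 (Q.map MulAut.conj) := h1.map _
    obtain ⟨n, hn'⟩ := IsPGroup.iff_card.1 hU
    rw [← Subgroup.card_eq_one]
    have h5 : Nat.card ↥(Y ⊓ Q.map MulAut.conj) ∣ Nat.card Y := Subgroup.card_dvd_of_le inf_le_left
    have h6 : Nat.card ↥(Y ⊓ Q.map MulAut.conj) ∣ 2 ^ n := hn' ▸ Subgroup.card_dvd_of_le inf_le_right
    exact Nat.eq_one_of_dvd_coprimes (hodd.pow_right n) h5 h6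
  have hC : Q.map MulAut.conj ⊓ Subgroup.centralizer (Subgroup.zpowers t : Set (MulAut X)) ≤
      Subgroup.centralizer (Y : Set (MulAut X)) := by
    rintro _ ⟨⟨q, hq, rfl⟩, hqt⟩
    have h5 : t * MulAut.conj q = MulAut.conj q * t :=
      Subgroup.mem_centralizer_iff.1 hqt t (Subgroup.mem_zpowers t)
    have h6 : t q = q := by
      apply hinj
      rw [← key, h5, mul_inv_cancel_right]
    rw [Subgroup.mem_centralizer_iff]
    intro y hy
    have h7 : y * MulAut.conj q * y⁻¹ * (MulAut.conj q)⁻¹ ∈ Y ⊓ Q.map MulAut.conj := by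
      refine ⟨?_, ?_⟩
      · have h8 := hn q h6 (h2 q hq) y⁻¹ (Y.inv_mem hy)
        have := Y.mul_mem hy h8
        rwa [show y * (MulAut.conj q * y⁻¹ * (MulAut.conj q)⁻¹) =
          y * MulAut.conj q * y⁻¹ * (MulAut.conj q)⁻¹ by group] at this
      · refine Subgroup.mul_mem _ ?_ (Subgroup.inv_mem _ ⟨q, hq, rfl⟩)
        exact (Subgroup.mem_normalizer_iff.1 (hYU hy) _).1 ⟨q, hq, rfl⟩
    rw [hinf, Subgroup.mem_bot] at h7
    have h8 := mul_inv_eq_one.1 h7
    exact mul_inv_eq_iff_eq_mul.1 h8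
  have h5 := Lib.ThompsonPQ.thompson_p_times_q 2 (Subgroup.zpowers t) Y (Q.map MulAut.conj) hP hodd (h1.map _)
    (by
      rw [Subgroup.zpowers_le, Subgroup.mem_centralizer_iff]
      intro y hy
      exact hYt y hy)
    (by
      rw [Subgroup.zpowers_le]
      exact hnorm t htv) hYU hC
  rw [Subgroup.eq_bot_iff_forall]
  intro y hy
  refine h4 y (fun q hq => ?_) ?_
  · apply hinj
    have h6 := Subgroup.mem_centralizer_iff.1 (h5 hy) (MulAut.conj q) ⟨q, hq, rfl⟩
    rw [← key, ← h6, mul_inv_cancel_right]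
  · have h6 : orderOf y ∣ Nat.card Y := by
      have := orderOf_dvd_natCard (⟨y, hy⟩ : Y)
      rwa [Subgroup.orderOf_mk] at this
    have h7 : (orderOf y).Coprime 2 := hodd.coprime_dvd_left h6
    exact Nat.coprime_two_right.1 h7

/-- **Main lemma.** -/
theorem core_eq_bot (hinj : Function.Injective (MulAut.conj : X →* MulAut X)) {H : Subgroup (MulAut X)}
    (hH : (MulAut.conj : X →* MulAut X).range ≤ H) {t : ↥H} (ht : orderOf t = 2) {v w : X}
    (hv1 : v * v = 1) (hw1 : w * w = 1) (hvw : v * w = w * v)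
    (htv : (t : MulAut X) v = v) (htw : (t : MulAut X) w = w)
    (hv : Chr X v) (hw : Chr X w) (hvw' : Chr X (v * w)) : centralizerPPrimeCore 2 t = ⊥ := by
  have hfact : Fact (Nat.Prime 2) := ⟨Nat.prime_two⟩
  set t' : MulAut X := (t : MulAut X) with ht'
  have htt : t' * t' = 1 := by
    have h1 : t * t = 1 := by rw [← pow_two, ← ht]; exact pow_orderOf_eq_one t
    exact congrArg Subtype.val h1
  set C : Subgroup ↥H := Subgroup.centralizer ({t} : Set ↥H) with hC
  let O : Subgroup (MulAut X) := (centralizerPPrimeCore 2 t).map H.subtype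
  have hOdef : ∀ y : MulAut X, y ∈ O ↔ ∃ c : ↥C, c ∈ pPrimeCore 2 ↥C ∧ ((c : ↥H) : MulAut X) = y := by
    intro y
    constructor
    · rintro ⟨_, ⟨c, hc, rfl⟩, rfl⟩
      exact ⟨c, hc, rfl⟩
    · rintro ⟨c, hc, rfl⟩
      exact ⟨_, ⟨c, hc, rfl⟩, rfl⟩
  have hcard : (Nat.card O).Coprime 2 := by
    have h1 : Nat.card O = Nat.card (pPrimeCore 2 ↥C) := by
      change Nat.card ((((pPrimeCore 2 ↥C).map C.subtype)).map H.subtype : Subgroup (MulAut X)) = _
      rw [Subgroup.card_map_of_injective H.subtype_injective, Subgroup.card_map_of_injective C.subtype_injective]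
    rw [h1]
    exact Lib.Cores.pPrimeCore_coprime 2
  have hOt : ∀ y ∈ O, y * t' = t' * y := by
    intro y hy
    obtain ⟨c, -, rfl⟩ := (hOdef y).1 hy
    exact congrArg Subtype.val (Subgroup.mem_centralizer_singleton_iff.1 c.2)
  have key : ∀ (α : MulAut X) (x : X), α * MulAut.conj x * α⁻¹ = MulAut.conj (α x) := by
    intro α x
    ext y
    simp [MulAut.mul_apply, MulAut.conj_apply, map_mul]
  have hOn : ∀ x : X, t' x = x → ∀ y ∈ O, MulAut.conj x * y * (MulAut.conj x)⁻¹ ∈ O := by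
    intro x hx y hy
    obtain ⟨c, hc, rfl⟩ := (hOdef y).1 hy
    have hxH : MulAut.conj x ∈ H := hH ⟨x, rfl⟩
    have hxC : (⟨MulAut.conj x, hxH⟩ : ↥H) ∈ C := by
      rw [hC, Subgroup.mem_centralizer_singleton_iff]
      apply Subtype.ext
      change MulAut.conj x * t' = t' * MulAut.conj x
      have h1 := key t' x
      rw [hx, mul_inv_eq_iff_eq_mul] at h1
      exact h1.symm
    refine (hOdef _).2 ⟨⟨_, hxC⟩ * c * ⟨_, hxC⟩⁻¹, (Lib.Cores.pPrimeCore_normal 2).conj_mem c hc _, rfl⟩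
  -- the fixed points are trivial
  have hfix : ∀ x : X, t' x = x → Chr X x → ∀ y ∈ O, y x = x → y = 1 := by
    intro x htx hx y hy hyx
    let Y : Subgroup (MulAut X) :=
      { carrier := {y | y ∈ O ∧ y x = x}
        one_mem' := ⟨O.one_mem, rfl⟩
        mul_mem' := by
          rintro a b ⟨ha, ha'⟩ ⟨hb, hb'⟩
          refine ⟨O.mul_mem ha hb, ?_⟩
          rw [MulAut.mul_apply, hb', ha']
        inv_mem' := by
          rintro a ⟨ha, ha'⟩
          refine ⟨O.inv_mem ha, ?_⟩
          conv_lhs => rw [← ha']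
          exact MulAut.inv_apply_self _ _ _ }
    have hY : Y = ⊥ := by
      refine eq_bot hinj hx htt htx (hcard.coprime_dvd_left (Subgroup.card_dvd_of_le fun y hy => hy.1))
        (fun y hy => hOt y hy.1) (fun y hy => hy.2) ?_
      rintro a hta hax z ⟨hz, hzx⟩
      refine ⟨hOn a hta z hz, ?_⟩
      rw [← map_inv]
      change a * (z (a⁻¹ * x * a⁻¹⁻¹)) * a⁻¹ = x
      have h1 : a⁻¹ * x * a⁻¹⁻¹ = x := by
        rw [inv_inv, mul_assoc, ← hax]; group
      rw [h1, hzx, hax]; group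
    have h1 : y ∈ Y := ⟨hy, hyx⟩
    rw [hY] at h1
    exact h1
  have hinv : ∀ x : X, x * x = 1 → t' x = x → Chr X x → ∀ y ∈ O,
      MulAut.conj x * y * (MulAut.conj x)⁻¹ = y⁻¹ := by
    intro x hx2 htx hx
    refine TwoFusion.ElemCent.inverts_of_fixedPointFree O (by rw [← map_mul, hx2, map_one]) (hOn x htx) ?_
    intro y hy hxy
    refine hfix x htx hx y hy ?_
    apply hinj
    rw [← key, ← hxy, mul_inv_cancel_right]
  have hO : O = ⊥ := by
    rw [Subgroup.eq_bot_iff_forall]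
    intro y hy
    refine hfix (v * w) (by rw [map_mul, htv, htw]) hvw' y hy ?_
    apply hinj
    have h1 := hinv w hw1 htw hw y hy
    have h2 := hinv v hv1 htv hv y⁻¹ (O.inv_mem hy)
    rw [inv_inv, ← h1] at h2
    have h3 : MulAut.conj (v * w) * y * (MulAut.conj (v * w))⁻¹ = y := by
      rw [map_mul, mul_inv_rev]
      calc MulAut.conj v * MulAut.conj w * y * ((MulAut.conj w)⁻¹ * (MulAut.conj v)⁻¹)
          = MulAut.conj v * (MulAut.conj w * y * (MulAut.conj w)⁻¹) * (MulAut.conj v)⁻¹ := by group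
        _ = y := h2
    rw [← key]
    rw [mul_inv_eq_iff_eq_mul] at h3 ⊢
    exact h3.symm
  exact (Subgroup.map_eq_bot_iff_of_injective _ H.subtype_injective).1 hO

end

end Cfsg.Agent.UGT.C.BalTwo
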