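import Cfsg.Agent.StdL34.Steps
import Cfsg.Agent.StandardComponent.HeldType.Main
import Cfsg.Agent.StdL3.OneNoTwo

/-!
# Standard subgroups `K` with `K/Z(K) ≅ L₃(4)`: internal forms of S1747, S1748, S1749

No `B`-property and no artefacts (Lie type in characteristic 3, alternating groups) in the conclusion. The inputs
which are far away in the library are hypotheses: Bender (S1221), O'Nan (S1661), S1169 or S1175, the strong form of
S0512, Goldschmidt's product theorem, the identification of `Suz`. `CThreeEnd.lean` supplies them.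
-/

set_option autoImplicit false

namespace Cfsg.Agent.UGT.C.CThree

open Cfsg

universe u

variable {G : Type u} [Group G] [Finite G] [IsSimpleGroup G] {F : Type} [Field F] [Fintype F]

/-- S1749 without `B`-property and artefacts: `K ≅ 4·L₃(4)`. -/
theorem isoON (hG : ¬ IsMulCommutative G) (hSE : ∀ H : Subgroup G, IsStronglyEmbedded H →
      (oddCore ↥H).map H.subtype ≤ oddCore G)
    (hON : Cfsg.Agent.StdL34.ONRec G) (L : Subgroup G) (hL : IsStandardSubgroup L)
    (hF : Fintype.card F = 4)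
    (hLX : IsCyclic ↥(Subgroup.center ↥L) ∧ Nat.card ↥(Subgroup.center ↥L) = 4 ∧
      Nonempty (↥L ⧸ Subgroup.center ↥L ≃* Matrix.ProjectiveSpecialLinearGroup (Fin 3) F)) :
    Spor.IsoON G :=
  Cfsg.Agent.StdL34.Main.main hG hON (Cfsg.Agent.StdL34.Steps.steps hG hSE) L hL hF hLX

/-- S1747 without `B`-property and artefacts: `K ≅ 2²·L₃(4)`. -/
theorem isoHe (hG : ¬ IsMulCommutative G)
    (hcrit : Cfsg.Agent.StandardComponent.HeldType.Basic.Crit G ∨
      Cfsg.Agent.StandardComponent.HeldType.Basic.CritG G)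
    (hS : Cfsg.Agent.StandardComponent.HeldType.Main.StrongL5 G)
    (L : Subgroup G) (hL : IsStandardSubgroup L) (hF : Fintype.card F = 4)
    (hLX : IsKleinFour ↥(Subgroup.center ↥L) ∧
      Nonempty (↥L ⧸ Subgroup.center ↥L ≃* Matrix.ProjectiveSpecialLinearGroup (Fin 3) F)) :
    Spor.IsoHe G :=
  Cfsg.Agent.StandardComponent.HeldType.Main.main hG L hL hF hLX hcrit hS

/-- S1748 without `B`-property and artefacts: `K ≅ L₃(4)`. -/
theorem isoSuz (hG : ¬ IsMulCommutative G) (hP : Cfsg.Agent.StdLThreeFour.NotClosed.ProductThm G)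
    (h4 : Cfsg.Agent.StdLThreeFour.Assembly.ToSuz G)
    (L : Subgroup G) (hL : IsStandardSubgroup L) (hF : Fintype.card F = 4)
    (hLX : Nonempty (↥L ≃* Matrix.ProjectiveSpecialLinearGroup (Fin 3) F)) : Spor.IsoSuz G :=
  Cfsg.Agent.StdLThreeFour.Assembly.isoSuz_of hG hP
    (Cfsg.Agent.StdL3.OneNoTwo.noTwo (fun h => hG ⟨⟨h⟩⟩)) h4 L hL hF hLX

/-- All inputs of the three theorems. -/
structure Inputs (G : Type u) [Group G] [Finite G] [IsSimpleGroup G] : Prop where
  /-- S1221 -/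
  bender : ∀ H : Subgroup G, IsStronglyEmbedded H → (oddCore ↥H).map H.subtype ≤ oddCore G
  /-- S1661 -/
  onan : Cfsg.Agent.StdL34.ONRec G
  /-- S1175 or S1169 -/
  crit : Cfsg.Agent.StandardComponent.HeldType.Basic.Crit G ∨
    Cfsg.Agent.StandardComponent.HeldType.Basic.CritG G
  /-- strong form of S0512 -/
  five : Cfsg.Agent.StandardComponent.HeldType.Main.StrongL5 G
  /-- Goldschmidt -/
  prod : Cfsg.Agent.StdLThreeFour.NotClosed.ProductThm G
  /-- S1748, `|R| = 4` -/
  suz : Cfsg.Agent.StdLThreeFour.Assembly.ToSuz G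

/-- **C3**: a simple group with a standard subgroup `K`, `K/Z(K) ≅ L₃(4)`, `Z(K) ≅ 1, 2², 4`, is `Suz`, `He` or
`ON`. -/
theorem c3 (hG : ¬ IsMulCommutative G) (hI : Inputs G) (L : Subgroup G) (hL : IsStandardSubgroup L)
    (hF : Fintype.card F = 4)
    (e : Nonempty (↥L ⧸ Subgroup.center ↥L ≃* Matrix.ProjectiveSpecialLinearGroup (Fin 3) F))
    (hZ : Subgroup.center ↥L = ⊥ ∨ IsKleinFour ↥(Subgroup.center ↥L) ∨
      (IsCyclic ↥(Subgroup.center ↥L) ∧ Nat.card ↥(Subgroup.center ↥L) = 4)) :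
    Spor.IsoSuz G ∨ Spor.IsoHe G ∨ Spor.IsoON G := by
  rcases hZ with h | h | ⟨h1, h2⟩
  · obtain ⟨e⟩ := e
    refine Or.inl (isoSuz hG hI.prod hI.suz L hL hF ⟨?_⟩)
    exact (((QuotientGroup.quotientMulEquivOfEq h).trans QuotientGroup.quotientBot).symm).trans e
  · exact Or.inr (Or.inl (isoHe hG hI.crit hI.five L hL hF ⟨h, e⟩))
  · exact Or.inr (Or.inr (isoON hG hI.bender hI.onan L hL hF ⟨h1, h2, e⟩))

end Cfsg.Agent.UGT.C.CThree
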