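import Cfsg.Agent.UGT.C.CThree
import Cfsg.Agent.S1661
import Cfsg.Agent.S1221
import Cfsg.Agent.S1175
import Cfsg.Agent.SylowL5.Strong
import Cfsg.Agent.TwoFusion.ClosedCommutator

/-!
# The inputs of `CThree.lean`, except the identification of `Suz`
-/

set_option autoImplicit false

namespace Cfsg.Agent.UGT.C.CThreeEnd

open Cfsg

universe u

theorem inputs {G : Type u} [Group G] [Finite G] [IsSimpleGroup G]
    (h4 : Cfsg.Agent.StdLThreeFour.Assembly.ToSuz G) : CThree.Inputs G where
  bender H hH := Cfsg.Agent.S1221.result H hH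
  onan := by
    intro t ht M hM h2 hout hc h4 hp e
    exact Cfsg.Agent.S1661.result t ht M h2 hout hc h4 hp _ rfl e
  crit := Or.inl fun M hM z hz hzM h1 h2 h3 => Cfsg.Agent.S1175.result M hM z hz hzM h1 h2 h3
  five _ P E := Cfsg.Agent.SylowL5.Strong.strong P E
  prod P A B h hA hB := Cfsg.Agent.TwoFusion.ClosedCommutator.commutator_le P A B h hA hB
  suz := h4

end Cfsg.Agent.UGT.C.CThreeEnd
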