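import Cfsg.Agent.FixBN.BRelative
import Cfsg.Prelude.Def_Classification2

/-!
# Theorem C (UGT, step 1): interface

Closed family `InLL`: `PSL₃(4^(2^k))`, `He`, `Suz`, `ON`.

Theorem C: if `F*(H) = J` is simple, `|H : J| ≤ 2`, all involution centralizers of `H` are core-free, `H` has
the strong B-property and some involution centralizer of `H` has a component `K` with `K / Z(K)` in the
family, then `J` is in the family (or on the list of S1311).

The nodes speak about a SIMPLE group `G` and a standard subgroup `K` of maximal order among the components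
in the family; the only knowledge about other components is `SWorld.pump`.
-/

set_option autoImplicit false

open Cfsg Subgroup

namespace Cfsg.Agent.UGT.C

universe u v

/-! ### the family -/

/-- `PSL₃(4^(2^k))` -/
def IsL3 (K : Type u) [Group K] : Prop :=
  ∃ (F : Type) (_ : Field F) (_ : Fintype F) (k : ℕ), Fintype.card F = 4 ^ (2 ^ k) ∧
    Nonempty (K ≃* Matrix.ProjectiveSpecialLinearGroup (Fin 3) F)

/-- `PSL₃(4)` -/
def IsL34 (K : Type u) [Group K] : Prop :=
  ∃ (F : Type) (_ : Field F) (_ : Fintype F), Fintype.card F = 4 ∧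
    Nonempty (K ≃* Matrix.ProjectiveSpecialLinearGroup (Fin 3) F)

/-- `PSL₃(4^(2^k))`, `k ≥ 1` -/
def IsL3Big (K : Type u) [Group K] : Prop :=
  ∃ (F : Type) (_ : Field F) (_ : Fintype F) (k : ℕ), 1 ≤ k ∧ Fintype.card F = 4 ^ (2 ^ k) ∧
    Nonempty (K ≃* Matrix.ProjectiveSpecialLinearGroup (Fin 3) F)

/-- The closed family. -/
def InLL (K : Type u) [Group K] : Prop :=
  IsL3 K ∨ Spor.IsoHe K ∨ Spor.IsoSuz K ∨ Spor.IsoON K

/-! ### components of centralizers -/

/-- `M` is a component of the subgroup `H` of `G`. -/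
def CompIn {G : Type u} [Group G] (H M : Subgroup G) : Prop :=
  M ≤ H ∧ IsComponent (M.subgroupOf H)

/-- `M` is a component of `C(t)` with `M / Z(M)` in the family. -/
def LLComp {G : Type u} [Group G] (t : G) (M : Subgroup G) : Prop :=
  CompIn (centralizer ({t} : Set G)) M ∧ InLL (↥M ⧸ center ↥M)

/-- **pump-ups in the family**: `x`, `y` commuting involutions, `M` a component of `C(x) ∩ C(y)` in the
family; then there is a component `D` of `C(y)` in the family which is the pump-up of `M`. -/
def Pump (G : Type u) [Group G] : Prop :=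
  ∀ (x y : G) (M : Subgroup G), orderOf x = 2 → orderOf y = 2 → x * y = y * x →
    CompIn (centralizer ({y} : Set G) ⊓ centralizer ({x} : Set G)) M → InLL (↥M ⧸ center ↥M) →
    ∃ D : Subgroup G, LLComp y D ∧
      (M = D ∨ (M < D ∧ D.map (MulAut.conj x).toMonoidHom = D) ∨
        (D.map (MulAut.conj x).toMonoidHom ≠ D ∧
          ∀ m : G, m ∈ M ↔ ∃ d ∈ D, m = d * (x * d * x⁻¹)))

/-! ### worlds -/

/-- the world of the nodes: `G` is simple -/
structure SWorld (G : Type u) [Group G] : Prop where
  fin : Finite G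
  simple : IsSimpleGroup G
  na : ¬ IsMulCommutative G
  /-- core-free involution centralizers -/
  bal : ∀ t : G, orderOf t = 2 → centralizerPPrimeCore 2 t = ⊥
  strong : HasStrongBProperty G
  /-- the only knowledge about other components -/
  pump : Pump G
  /-- `G` is not in the family -/
  notLL : ¬ InLL G
  /-- `G` is not on the list of S1311 -/
  notU : ¬ FixBN.BRelative.InU G
  /-- S1309 and S1310 -/
  quat : ∀ (z : G) (J : Subgroup G), orderOf z = 2 → J ≤ centralizer ({z} : Set G) → z ∈ J →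
    (J.subgroupOf (centralizer ({z} : Set G))).IsSubnormal →
    (∃ S : Sylow 2 ↥J, ∃ n : ℕ, Nonempty (↥(S : Subgroup ↥J) ≃* QuaternionGroup (2 ^ (n + 1)))) →
    (∀ t ∈ J, orderOf t = 2 → t = z) →
    (∀ u ∈ centralizer ({z} : Set G), J.map (MulAut.conj u).toMonoidHom = J ∨
      ⁅J, J.map (MulAut.conj u).toMonoidHom⁆ ≤ (oddCore ↥J).map J.subtype ⊓
        (oddCore ↥(J.map (MulAut.conj u).toMonoidHom)).map (J.map (MulAut.conj u).toMonoidHom).subtype) →
    ¬ ∀ y ∈ J, ∀ g : G, IsPGroup 2 ↥(zpowers y) → 4 ≤ orderOf y →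
      g * y * g⁻¹ ∈ centralizer ({z} : Set G) → g * y * g⁻¹ ∈ normalizer (J : Set G)

/-- the standard subgroup of the nodes -/
structure StdLL (G : Type u) [Group G] (K : Subgroup G) : Prop where
  comp : ∃ t : G, orderOf t = 2 ∧ LLComp t K
  /-- `K` is a component of `C(y)` for every involution `y` centralizing `K` -/
  term : ∀ y : G, orderOf y = 2 → y ∈ centralizer (K : Set G) → LLComp y K
  /-- maximal order in the family -/
  max : ∀ (y : G) (L : Subgroup G), orderOf y = 2 → LLComp y L → Nat.card ↥L ≤ Nat.card ↥K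
  std : IsStandardSubgroup K
  z2 : IsPGroup 2 ↥(center ↥K)

/-- `m₂(C(K)) ≤ 1` with cyclic Sylow 2-subgroups -/
def Cyc {G : Type u} [Group G] (K : Subgroup G) : Prop :=
  ∀ R : Sylow 2 ↥(centralizer (K : Set G)), IsCyclic ↥(R : Subgroup ↥(centralizer (K : Set G)))

/-! ### the nodes -/

/-- **C1**: a standard subgroup in the family of maximal order exists. -/
def NodeStd : Prop :=
  ∀ (G : Type u) [Group G], SWorld G → (∃ (t : G) (M : Subgroup G), orderOf t = 2 ∧ LLComp t M) →
    ∃ K : Subgroup G, StdLL G K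

/-- **C3**: `K / Z(K) ≅ PSL₃(4)` -/
def NodeL34 : Prop :=
  ∀ (G : Type u) [Group G], SWorld G → ∀ K : Subgroup G, StdLL G K → IsL34 (↥K ⧸ center ↥K) → False

/-- **C4**: `K / Z(K) ≅ PSL₃(q)`, `q = 4^(2^k) ≥ 16` -/
def NodeL3Big : Prop :=
  ∀ (G : Type u) [Group G], SWorld G → ∀ K : Subgroup G, StdLL G K → IsL3Big (↥K ⧸ center ↥K) → False

/-- **C5**: `K / Z(K) ≅ He` -/
def NodeHe : Prop :=
  ∀ (G : Type u) [Group G], SWorld G → ∀ K : Subgroup G, StdLL G K → Spor.IsoHe (↥K ⧸ center ↥K) → False

/-- **C6**: `K / Z(K) ≅ ON` -/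
def NodeON : Prop :=
  ∀ (G : Type u) [Group G], SWorld G → ∀ K : Subgroup G, StdLL G K → Spor.IsoON (↥K ⧸ center ↥K) → False

/-- **C7**: `K / Z(K) ≅ Suz` -/
def NodeSuz : Prop :=
  ∀ (G : Type u) [Group G], SWorld G → ∀ K : Subgroup G, StdLL G K → Spor.IsoSuz (↥K ⧸ center ↥K) → False

/-- **C8** (S1778 for `PSL₃`): `F*(H)` simple, `t` an involution of `H` outside `F*(H)`, `K` standard with
`K ≅ PSL₃(4^(2^k))`, `C(K)` with Sylow 2-subgroups of order 2. -/
def NodeOut : Prop :=
  ∀ (H : Type u) [Group H], Finite H → IsSimpleGroup ↥(generalizedFittingSubgroup H) →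
    ¬ IsMulCommutative ↥(generalizedFittingSubgroup H) → oddCore H = ⊥ → HasStrongBProperty H →
    ∀ (K : Subgroup H) (t : H), IsStandardSubgroup K → ¬ K.Normal → IsL3 ↥K → orderOf t = 2 →
      t ∈ centralizer (K : Set H) → t ∉ generalizedFittingSubgroup H → Cyc K →
      IsL3 ↥(generalizedFittingSubgroup H)

/-! ### facts on known groups -/

/-- **(KF2)** an involutory automorphism of a group on the list of S1311 (Lie type groups in odd
characteristic of rank at least 2 excepted, see `LieSmall`) with a component in the family: the group is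
`He` (or `PSL₃(4)`, impossible). -/
def FactU : Prop :=
  ∀ (D : Type u) [Group D] [Finite D], IsSimpleGroup D → FixBN.BRelative.InU D →
    ∀ τ : MulAut D, orderOf τ = 2 → ∀ M : Subgroup (MulAut D),
      CompIn ((MulAut.conj : D →* MulAut D).range ⊓ centralizer ({τ} : Set (MulAut D))) M →
      InLL (↥M ⧸ center ↥M) → InLL D

/-- **(KF5)** the inner switch: a quasisimple group over `He`, `Suz`, `ON` has an involution whose
centralizer has a component in the family. -/
def FactInner : Prop :=
  ∀ (K : Type u) [Group K] [Finite K], IsQuasisimple K → IsPGroup 2 ↥(center K) →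
    (Spor.IsoHe (K ⧸ center K) ∨ Spor.IsoSuz (K ⧸ center K) ∨ Spor.IsoON (K ⧸ center K)) →
    ∃ (a : K) (M : Subgroup K), orderOf a = 2 ∧ LLComp a M

end Cfsg.Agent.UGT.C
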