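import Mathlib
import Cfsg.Prelude.Def_Balance
import Cfsg.Agent.Lib.ThompsonPQ
import Cfsg.Agent.Lib.KleinGen
import Cfsg.Agent.Lib.CoreCent

/-!
# A criterion for `O(C_A(x)) = 1`

`x` is an involution of the finite group `A`, `⟨z₁, z₂⟩ ≤ C_A(x)` is a four-group such that for each of its
involutions `z` there is a 2-subgroup `Q` normalised by `C_A(z)` which is centralised by no element of odd order.
-/

set_option autoImplicit false

namespace Cfsg.Agent.UGT.C.LocBal

open Subgroup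

variable {A : Type*} [Group A]

/-- the local condition at the involution `z` -/
structure Loc (z : A) (Q : Subgroup A) : Prop where
  pg : IsPGroup 2 Q
  norm : ∀ c, c * z = z * c → c ∈ normalizer (Q : Set A)
  cent : ∀ c ∈ centralizer (Q : Set A), Odd (orderOf c) → c = 1

theorem Loc.conj {z : A} {Q : Subgroup A} (h : Loc z Q) (g : A) :
    Loc (g * z * g⁻¹) (Q.map (MulAut.conj g).toMonoidHom) := by
  refine ⟨h.pg.map _, fun c hc => ?_, fun c hc ho => ?_⟩
  · have h1 := h.norm (g⁻¹ * c * g) (by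
      calc g⁻¹ * c * g * z = g⁻¹ * (c * (g * z * g⁻¹)) * g := by group
        _ = z * (g⁻¹ * c * g) := by rw [hc]; group)
    rw [mem_normalizer_iff] at h1 ⊢
    intro y
    have e : ∀ y, y ∈ Q.map (MulAut.conj g).toMonoidHom ↔ g⁻¹ * y * g ∈ Q := by
      intro y
      constructor
      · rintro ⟨w, hw, rfl⟩
        have : g⁻¹ * (MulAut.conj g).toMonoidHom w * g = w := by
          show g⁻¹ * (g * w * g⁻¹) * g = w
          group
        rw [this]; exact hw
      · intro hy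
        refine ⟨_, hy, ?_⟩
        show g * (g⁻¹ * y * g) * g⁻¹ = y
        group
    rw [e, e, h1 (g⁻¹ * y * g)]
    have : g⁻¹ * c * g * (g⁻¹ * y * g) * (g⁻¹ * c * g)⁻¹ = g⁻¹ * (c * y * c⁻¹) * g := by group
    rw [this]
  · have h1 : g⁻¹ * c * g ∈ centralizer (Q : Set A) := by
      rw [mem_centralizer_iff]
      intro q hq
      have h2 := mem_centralizer_iff.1 hc (g * q * g⁻¹) ⟨q, hq, rfl⟩
      calc q * (g⁻¹ * c * g) = g⁻¹ * (g * q * g⁻¹ * c) * g := by group
        _ = g⁻¹ * c * g * q := by rw [h2]; group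
    have h3 := h.cent _ h1 (by
      have : orderOf (g⁻¹ * c * g) = orderOf c := by
        have := orderOf_injective (MulAut.conj g⁻¹).toMonoidHom (MulAut.conj g⁻¹).injective c
        rw [← this]
        show _ = orderOf (g⁻¹ * c * g⁻¹⁻¹)
        rw [inv_inv]
      rw [this]; exact ho)
    calc c = g * (g⁻¹ * c * g) * g⁻¹ := by group
      _ = 1 := by rw [h3]; group

variable [Finite A]

/-- Thompson's `A × B` lemma: no element of `C_D(z)`. -/
theorem Loc.eq_one {z x : A} {Q D : Subgroup A} (h : Loc z Q) (hx : x * x = 1) (hxz : x * z = z * x)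
    (hD : ¬ 2 ∣ Nat.card D) (hDx : ∀ d ∈ D, d * x = x * d)
    (hn : ∀ c, c * x = x * c → ∀ d ∈ D, c * d * c⁻¹ ∈ D) {d : A} (hd : d ∈ D) (hdz : d * z = z * d) :
    d = 1 := by
  have : Fact (Nat.Prime 2) := ⟨Nat.prime_two⟩
  have hodd : Odd (orderOf d) := by
    have h1 : orderOf d ∣ Nat.card D := by
      have := orderOf_dvd_natCard (⟨d, hd⟩ : D)
      rwa [Subgroup.orderOf_mk] at this
    rw [← Nat.not_even_iff_odd, even_iff_two_dvd]
    exact fun h2 => hD (h2.trans h1)
  have hxp : IsPGroup 2 (zpowers x) := by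
    rw [IsPGroup.iff_card]
    rcases eq_or_ne x 1 with rfl | h1
    · exact ⟨0, by simp⟩
    · exact ⟨1, by rw [Nat.card_zpowers, pow_one]; exact orderOf_eq_prime (by rw [pow_two, hx]) h1⟩
  have hdn := h.norm d hdz
  have hcent : zpowers d ≤ centralizer (Q : Set A) := by
    refine Lib.ThompsonPQ.thompson_p_times_q 2 (zpowers x) (zpowers d) Q hxp ?_ h.pg ?_ ?_ ?_ ?_
    · rw [Nat.card_zpowers]
      exact Nat.coprime_two_right.2 hodd
    · rw [zpowers_le, mem_centralizer_iff]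
      intro y hy
      obtain ⟨k, rfl⟩ := mem_zpowers_iff.1 hy
      have : Commute d x := hDx d hd
      exact (this.zpow_left k)
    · rw [zpowers_le]
      exact h.norm x hxz
    · rw [zpowers_le]
      exact hdn
    · intro u hu
      obtain ⟨hu1, hu2⟩ := mem_inf.1 hu
      have hux : u * x = x * u := (mem_centralizer_iff.1 hu2 x (mem_zpowers x)).symm
      -- the commutator
      have h1 : d * u * d⁻¹ * u⁻¹ ∈ Q := mul_mem ((mem_normalizer_iff.1 hdn u).1 hu1) (inv_mem hu1)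
      have h2 : d * u * d⁻¹ * u⁻¹ ∈ D := by
        have := mul_mem hd (hn u hux _ (inv_mem hd))
        rwa [← mul_assoc, ← mul_assoc] at this
      have h3 : d * u * d⁻¹ * u⁻¹ = 1 := by
        obtain ⟨k, hk⟩ := (IsPGroup.iff_orderOf.1 h.pg) ⟨_, h1⟩
        rw [Subgroup.orderOf_mk] at hk
        have h4 : orderOf (d * u * d⁻¹ * u⁻¹) ∣ Nat.card D := by
          have := orderOf_dvd_natCard (⟨_, h2⟩ : D)
          rwa [Subgroup.orderOf_mk] at this
        rw [hk] at h4
        rcases k with _ | k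
        · exact orderOf_eq_one_iff.1 (by rw [hk, pow_zero])
        · exact absurd ((Dvd.intro_left _ (pow_succ 2 k).symm).trans h4) hD
      have h5 : d * u = u * d := by
        have := mul_inv_eq_one.1 h3
        exact (mul_inv_eq_iff_eq_mul.1 this)
      rw [mem_centralizer_iff]
      intro y hy
      obtain ⟨k, rfl⟩ := mem_zpowers_iff.1 hy
      have : Commute d u := h5
      exact (this.zpow_left k)
  exact h.cent d (hcent (mem_zpowers d)) hodd

/-- **The criterion.** -/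
theorem core_eq_bot {x z₁ z₂ : A} {Q₁ Q₂ Q₃ : Subgroup A} (hx : x * x = 1) (h1 : z₁ * z₁ = 1) (h2 : z₂ * z₂ = 1)
    (h12 : z₁ * z₂ = z₂ * z₁) (hx1 : x * z₁ = z₁ * x) (hx2 : x * z₂ = z₂ * x) (hQ1 : Loc z₁ Q₁) (hQ2 : Loc z₂ Q₂)
    (hQ3 : Loc (z₁ * z₂) Q₃) : Cfsg.centralizerPPrimeCore 2 x = ⊥ := by
  have : Fact (Nat.Prime 2) := ⟨Nat.prime_two⟩
  set D := Cfsg.centralizerPPrimeCore 2 x with hDdef
  have hD : ¬ 2 ∣ Nat.card D := Lib.CoreCent.core_card 2 x
  have hDx : ∀ d ∈ D, d * x = x * d := fun d hd =>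
    (mem_centralizer_singleton_iff.1 (Lib.CoreCent.core_le 2 x hd))
  have hn : ∀ c, c * x = x * c → ∀ d ∈ D, c * d * c⁻¹ ∈ D := fun c hc d hd =>
    (mem_normalizer_iff.1 (Lib.CoreCent.core_normalized 2 x (mem_centralizer_singleton_iff.2 hc)) d).1 hd
  have hodd : Odd (Nat.card D) := by
    rw [← Nat.not_even_iff_odd, even_iff_two_dvd]; exact hD
  have hx3 : x * (z₁ * z₂) = z₁ * z₂ * x := by rw [← mul_assoc, hx1, mul_assoc, hx2, mul_assoc]
  rw [eq_bot_iff]
  refine Lib.KleinGen.le_of_klein D ⊥ hodd z₁ z₂ h1 h2 h12 (hn z₁ hx1.symm) (hn z₂ hx2.symm) ?_ ?_ ?_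
  · intro d hd
    obtain ⟨hd1, hd2⟩ := mem_inf.1 hd
    exact mem_bot.2 (hQ1.eq_one hx hx1 hD hDx hn hd1 (mem_centralizer_singleton_iff.1 hd2))
  · intro d hd
    obtain ⟨hd1, hd2⟩ := mem_inf.1 hd
    exact mem_bot.2 (hQ2.eq_one hx hx2 hD hDx hn hd1 (mem_centralizer_singleton_iff.1 hd2))
  · intro d hd
    obtain ⟨hd1, hd2⟩ := mem_inf.1 hd
    exact mem_bot.2 (hQ3.eq_one hx hx3 hD hDx hn hd1 (mem_centralizer_singleton_iff.1 hd2))

end Cfsg.Agent.UGT.C.LocBal
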