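import Mathlib
import Cfsg.Agent.UGT.C.LocBal
import Cfsg.Agent.StdRank2.OutL3Facts
import Cfsg.Agent.LieClassical.SLGen

/-!
# `L₃(q)`, `q ≥ 8` even, is locally balanced
-/

set_option autoImplicit false

namespace Cfsg.Agent.UGT.C.LThreeBal

open Matrix Subgroup
open Cfsg.Agent.StdRank2.OutL3 Cfsg.Agent.StdRank2.OutL3Rel Cfsg.Agent.StdRank2.OutL3Facts
open Cfsg.Agent.ClassicalGeometry.AutPSL.Root Cfsg.Agent.ClassicalGeometry.AutPSL.SylowU
open Cfsg.Agent.ClassicalGeometry.AutPSL.Auto Cfsg.Agent.ClassicalGeometry.AutPSL.Main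
open Cfsg.Agent.UGT.C.LocBal

variable {F : Type*} [Field F] [Finite F]

/-- `L₃(F)` -/
abbrev PK (F : Type*) [Field F] := Matrix.ProjectiveSpecialLinearGroup (Fin 3) F

/-! ### Elements of `Ubar` -/

theorem mem_Ubar' (x : PK F) : x ∈ Ubar F ↔ ∃ r s t : F, x = pr (ut r s t) := by
  constructor
  · intro hx
    obtain ⟨r, s, t, rfl⟩ := (mem_Ubar x).1 hx
    refine ⟨r, s, t + r * s, ?_⟩
    rw [X01, X12, X02, ← map_mul, ← map_mul, ut_mul, ut_mul]
    congr 1
    apply Subtype.ext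
    show (!![1, r + 0 + 0, _; 0, 1, _; 0, 0, 1] : Matrix (Fin 3) (Fin 3) F) = !![1, r, t + r * s; 0, 1, s; 0, 0, 1]
    congr 1
    ext i j
    fin_cases i <;> fin_cases j <;> simp [add_comm]
  · rintro ⟨r, s, t, rfl⟩
    exact ⟨_, ut_mem r s t, rfl⟩

theorem ut_mem_Ubar (r s t : F) : pr (ut r s t) ∈ Ubar F := ⟨_, ut_mem r s t, rfl⟩

omit [Finite F] in
theorem ut_zero : pr (ut (0 : F) 0 0) = 1 := by
  have : ut (0 : F) 0 0 = 1 := by
    apply Subtype.ext
    show (!![1, 0, 0; 0, 1, 0; 0, 0, 1] : Matrix (Fin 3) (Fin 3) F) = 1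
    ext i j
    fin_cases i <;> fin_cases j <;> simp
  rw [this, map_one]

omit [Finite F] in
theorem ut_t_mul (t t' : F) : pr (ut 0 0 t) * pr (ut 0 0 t') = pr (ut 0 0 (t + t')) := by
  rw [← map_mul, ut_mul]; simp

omit [Finite F] in
theorem ut_t_comm (r s t t' : F) : pr (ut r s t) * pr (ut 0 0 t') = pr (ut 0 0 t') * pr (ut r s t) := by
  rw [← map_mul, ← map_mul, ut_mul, ut_mul]
  congr 2 <;> ring

/-- an automorphism mapping the root groups of `Ubar` into `Ubar` -/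
theorem map_Ubar {α : MulAut (PK F)} (hα : ∀ (i j : Fin 3) (hij : i < j) (s : F), α (X hij.ne s) ∈ Ubar F) :
    ∀ x ∈ Ubar F, α x ∈ Ubar F := by
  intro x hx
  obtain ⟨r, s, t, rfl⟩ := (mem_Ubar x).1 hx
  rw [map_mul, map_mul]
  exact mul_mem (mul_mem (hα 0 1 (by decide) r) (hα 1 2 (by decide) s)) (hα 0 2 (by decide) t)

theorem tor_Ubar (d : Fin 3 → Fˣ) : ∀ x ∈ Ubar F, tor d x ∈ Ubar F := by
  apply map_Ubar
  intro i j hij s
  rw [tor_X]
  exact X_mem hij _

/-- stabiliser = normaliser -/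
theorem mem_norm_iff {α : MulAut (PK F)} (hα : ∀ x ∈ Ubar F, α x ∈ Ubar F) (x : PK F) : x ∈ Ubar F ↔ α x ∈ Ubar F := by
  have h1 : (Ubar F).map α.toMonoidHom ≤ Ubar F := by
    rintro _ ⟨u, hu, rfl⟩
    exact hα u hu
  have h2 : (Ubar F).map α.toMonoidHom = Ubar F := by
    apply Subgroup.eq_of_le_of_card_ge h1
    rw [Subgroup.card_map_of_injective α.injective]
  constructor
  · exact hα x
  · intro h
    rw [← h2] at h
    obtain ⟨y, hy, hyx⟩ := h
    have : y = x := α.injective hyx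
    rwa [← this]

omit [Finite F] in
theorem center_eq_bot : center (PK F) = ⊥ := by
  have hs : IsSimpleGroup (PK F) := Cfsg.Agent.LieClassical.SLGen.psl_isSimpleGroup (by simp)
  rcases hs.eq_bot_or_eq_top_of_normal (center (PK F)) inferInstance with h | h
  · exact h
  · exfalso
    have h1 : pr (ut (1 : F) 0 0) ∈ center (PK F) := by rw [h]; trivial
    have h2 := mem_center_iff.1 h1 (pr (ut 0 1 0))
    rw [← map_mul, ← map_mul, ut_mul, ut_mul] at h2
    obtain ⟨c, hc⟩ := exists_smul_of_pr_eq h2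
    have e0 := congrFun (congrFun hc 0) 0
    have e2 := congrFun (congrFun hc 0) 2
    simp [ut] at e0 e2

omit [Finite F] in
theorem conj_injective : Function.Injective (MulAut.conj : PK F →* MulAut (PK F)) := by
  rw [← MonoidHom.ker_eq_bot_iff, eq_bot_iff]
  intro k hk
  rw [← center_eq_bot, mem_center_iff]
  intro y
  have := congrArg (fun β : MulAut (PK F) => β y) (MonoidHom.mem_ker.1 hk)
  simp only [MulAut.conj_apply, MulAut.one_apply] at this
  rw [mul_inv_eq_iff_eq_mul] at this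
  exact this.symm

variable [CharP F 2]

theorem Psi_Ubar {p : MulAut (PK F)} (hp : p ∈ Psi F) : ∀ x ∈ Ubar F, p x ∈ Ubar F := by
  obtain ⟨σ, rfl | rfl⟩ := hp
  · apply map_Ubar
    intro i j hij s
    rw [fd_X]
    exact X_mem hij _
  · apply map_Ubar
    intro i j hij s
    rw [MulAut.mul_apply, gr_X, fd_X]
    exact X_mem (Fin.rev_lt_rev.2 hij) _

/-- `Ubar` is a Sylow 2-subgroup -/
theorem le_of_norm {P : Subgroup (PK F)} (hP : IsPGroup 2 P) (h : P ≤ normalizer (Ubar F : Set (PK F))) : P ≤ Ubar F := by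
  have : Fact (Nat.Prime 2) := ⟨Nat.prime_two⟩
  have := Fintype.ofFinite F
  obtain ⟨S, hS⟩ := exists_sylow (F := F) 3 2
  have hS' : (S : Subgroup (PK F)) = Ubar F := hS
  have h1 : IsPGroup 2 ↥(Ubar F ⊔ P) := IsPGroup.to_sup_of_normal_left' isPGroup_Ubar hP h
  have h2 : Ubar F ⊔ P = S := S.is_maximal' h1 (by rw [hS']; exact le_sup_left)
  rw [hS'] at h2
  exact le_sup_right.trans h2.le

omit [CharP F 2] in
/-- The centraliser of a central involution of `Ubar` normalises `Ubar`. -/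
theorem cent_le_norm {t : F} (ht : t ≠ 0) {g : PK F} (hg : g * pr (ut 0 0 t) = pr (ut 0 0 t) * g) :
    g ∈ normalizer (Ubar F : Set (PK F)) := by
  obtain ⟨c, rfl⟩ := pr_surjective g
  obtain ⟨C, hC⟩ : ∃ C : GL (Fin 3) F, (C : Matrix (Fin 3) (Fin 3) F) = c.1 ∧
      ((C⁻¹ : GL (Fin 3) F) : Matrix (Fin 3) (Fin 3) F) = (c⁻¹).1 := ⟨⟨c.1, (c⁻¹).1, by
    rw [← Matrix.SpecialLinearGroup.coe_mul, mul_inv_cancel, Matrix.SpecialLinearGroup.coe_one], by
    rw [← Matrix.SpecialLinearGroup.coe_mul, inv_mul_cancel, Matrix.SpecialLinearGroup.coe_one]⟩, rfl, rfl⟩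
  have hcj' : ∀ x, cj C x = c * x * c⁻¹ := by
    intro x
    apply Subtype.ext
    rw [coe_cj, hC.1, hC.2, Matrix.SpecialLinearGroup.coe_mul, Matrix.SpecialLinearGroup.coe_mul]
  have hcj : lift (cj C) = MulAut.conj (pr c) := by
    apply MulEquiv.ext
    intro x
    obtain ⟨x, rfl⟩ := pr_surjective x
    rw [lift_pr, MulAut.conj_apply, ← map_inv, ← map_mul, ← map_mul, hcj']
  have h1 : pr (cj C (Matrix.SpecialLinearGroup.transvection (i := (0 : Fin 3)) (j := 2) (by decide) t)) =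
      pr (Matrix.SpecialLinearGroup.transvection (i := (0 : Fin 3)) (j := 2) (by decide) t) := by
    rw [← lift_pr, hcj, MulAut.conj_apply]
    have h3 := X02 t
    rw [X_eq] at h3
    rw [h3, hg, mul_inv_cancel_right]
  have h2 := cj_transvection_eq h1
  set a := (C : Matrix (Fin 3) (Fin 3) F) with ha
  have a10 : a 1 0 = 0 := by
    have := congrFun (congrFun h2 1) 2
    simpa [ht] using this
  have a20 : a 2 0 = 0 := by
    have := congrFun (congrFun h2 2) 2
    simpa [ht] using this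
  have a21 : a 2 1 = 0 := by
    have := congrFun (congrFun h2 0) 1
    simpa [ht] using this.symm
  obtain ⟨u, hu, d, hd⟩ := exists_decomp C a10 a20 a21
  rw [hcj] at hd
  have h4 : ∀ x ∈ Ubar F, MulAut.conj (pr c) x ∈ Ubar F := by
    intro x hx
    rw [hd, MulAut.mul_apply, MulAut.conj_apply]
    exact mul_mem (mul_mem hu (tor_Ubar d x hx)) (inv_mem hu)
  rw [mem_normalizer_iff]
  intro x
  exact mem_norm_iff h4 x

/-- **The stabiliser of a central involution of `Ubar` normalises `Ubar`.** -/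
theorem map_of_fix {α : MulAut (PK F)} {t : F} (ht : t ≠ 0) (h : α (pr (ut 0 0 t)) = pr (ut 0 0 t)) :
    ∀ x ∈ Ubar F, α x ∈ Ubar F := by
  have h1 : (Ubar F).map α.toMonoidHom ≤ Ubar F := by
    apply le_of_norm (isPGroup_Ubar.map _)
    rintro _ ⟨u, hu, rfl⟩
    apply cent_le_norm ht
    obtain ⟨r, s, t', rfl⟩ := (mem_Ubar' u).1 hu
    show α _ * _ = _ * α _
    have h2 : ∀ y, y * pr (ut 0 0 t) = pr (ut 0 0 t) * y → α y * pr (ut 0 0 t) = pr (ut 0 0 t) * α y := by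
      intro y hy
      have := congrArg α hy
      rwa [map_mul, map_mul, h] at this
    exact h2 _ (ut_t_comm r s t' t)
  intro x hx
  exact h1 ⟨x, hx, rfl⟩

theorem orderOf_ut (r s t : F) : ∃ n, (pr (ut r s t)) ^ 2 ^ n = 1 := by
  obtain ⟨n, hn⟩ := isPGroup_Ubar (F := F) ⟨_, ut_mem_Ubar r s t⟩
  exact ⟨n, congrArg Subtype.val hn⟩

/-- An automorphism of odd order centralising `Ubar` is trivial. -/
theorem eq_one_of_cent {α : MulAut (PK F)} (h : ∀ x ∈ Ubar F, α x = x) (ho : Odd (orderOf α)) : α = 1 := by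
  obtain ⟨r, t, hα⟩ := eq_conj_of_cent α (fun r => h _ (ut_mem_Ubar _ _ _)) (fun t => h _ (ut_mem_Ubar _ _ _))
  obtain ⟨n, hn⟩ := orderOf_ut r 0 t
  have h1 : α ^ 2 ^ n = 1 := by rw [hα, ← map_pow, hn, map_one]
  have h2 : orderOf α ∣ 2 ^ n := orderOf_dvd_of_pow_eq_one h1
  have h3 : (orderOf α).Coprime (2 ^ n) := Nat.Coprime.pow_right _ (Nat.coprime_two_right.2 ho)
  exact orderOf_eq_one_iff.1 (Nat.Coprime.eq_one_of_dvd h3 h2)

section H

variable (H : Subgroup (MulAut (PK F))) (hH : (MulAut.conj : PK F →* MulAut (PK F)).range ≤ H)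

/-- inner automorphisms as elements of `H` -/
def inn : PK F →* ↥H := (MulAut.conj : PK F →* MulAut (PK F)).codRestrict H fun k => hH ⟨k, rfl⟩

omit [Finite F] [CharP F 2] in
theorem inn_conj (x : ↥H) (k : PK F) : x * inn H hH k * x⁻¹ = inn H hH ((x : MulAut (PK F)) k) := by
  apply Subtype.ext
  show (x : MulAut (PK F)) * MulAut.conj k * (x : MulAut (PK F))⁻¹ = MulAut.conj ((x : MulAut (PK F)) k)
  apply MulEquiv.ext
  intro y
  rw [MulAut.mul_apply, MulAut.mul_apply, MulAut.conj_apply, MulAut.conj_apply, map_mul, map_mul, map_inv,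
    MulAut.apply_inv_self]

omit [Finite F] [CharP F 2] in
theorem inn_injective : Function.Injective (inn H hH) := by
  intro a b h
  exact conj_injective (congrArg Subtype.val h)

/-- The local condition. -/
theorem loc {t : F} (ht : t ≠ 0) : Loc (inn H hH (pr (ut 0 0 t))) ((Ubar F).map (inn H hH)) := by
  refine ⟨isPGroup_Ubar.map _, fun c hc => ?_, fun c hc ho => ?_⟩
  · have h1 : (c : MulAut (PK F)) (pr (ut 0 0 t)) = pr (ut 0 0 t) := by
      apply inn_injective H hH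
      rw [← inn_conj, hc, mul_inv_cancel_right]
    have h2 := map_of_fix ht h1
    rw [mem_normalizer_iff]
    intro y
    constructor
    · rintro ⟨u, hu, rfl⟩
      rw [inn_conj]
      exact ⟨_, h2 u hu, rfl⟩
    · rintro ⟨u, hu, hy⟩
      obtain ⟨v, hv⟩ := (c : MulAut (PK F)).surjective u
      have h3 : v ∈ Ubar F := by rw [mem_norm_iff h2, hv]; exact hu
      refine ⟨v, h3, ?_⟩
      have h4 : c * inn H hH v * c⁻¹ = c * y * c⁻¹ := by rw [inn_conj, hv, hy]
      exact mul_left_cancel (mul_right_cancel h4)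
  · have h1 : (c : MulAut (PK F)) = 1 := by
      apply eq_one_of_cent
      · intro u hu
        apply inn_injective H hH
        have h2 := mem_centralizer_iff.1 hc (inn H hH u) ⟨u, hu, rfl⟩
        rw [← inn_conj, ← h2, mul_inv_cancel_right]
      · rwa [Subgroup.orderOf_coe]
    exact Subtype.ext h1

end H

/-- A 2-group of automorphisms normalises a conjugate of `Ubar`. -/
theorem exists_conj_norm (D : Subgroup (MulAut (PK F))) (hD : IsPGroup 2 D) :
    ∃ g : PK F, ∀ d ∈ D, ∀ u ∈ Ubar F, (MulAut.conj g * d * (MulAut.conj g)⁻¹) u ∈ Ubar F := by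
  have : Fact (Nat.Prime 2) := ⟨Nat.prime_two⟩
  have := Fintype.ofFinite F
  obtain ⟨S, hS⟩ := exists_sylow (F := F) 3 2
  have hS' : (S : Subgroup (PK F)) = Ubar F := hS
  have h1 : Nat.card (Sylow 2 (PK F)) ≡ Nat.card (MulAction.fixedPoints D (Sylow 2 (PK F))) [MOD 2] :=
    hD.card_modEq_card_fixedPoints _
  have h2 : Nat.card (Sylow 2 (PK F)) ≡ 1 [MOD 2] := card_sylow_modEq_one 2 (PK F)
  have h3 : Nonempty (MulAction.fixedPoints D (Sylow 2 (PK F))) := by
    by_contra hn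
    rw [not_nonempty_iff] at hn
    rw [Nat.card_of_isEmpty (α := MulAction.fixedPoints D (Sylow 2 (PK F)))] at h1
    have := h1.symm.trans h2
    exact absurd this (by decide)
  obtain ⟨⟨P, hP⟩⟩ := h3
  obtain ⟨g, hg⟩ := MulAction.exists_smul_eq (PK F) P S
  refine ⟨g, fun d hd u hu => ?_⟩
  have hPg : ∀ y, y ∈ P ↔ g * y * g⁻¹ ∈ Ubar F := by
    intro y
    rw [← hS', ← hg]
    constructor
    · intro hy
      exact ⟨y, hy, rfl⟩
    · rintro ⟨w, hw, hwy⟩
      have : w = y := by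
        have h5 : g * w * g⁻¹ = g * y * g⁻¹ := hwy
        exact mul_left_cancel (mul_right_cancel h5)
      rw [← this]; exact hw
  have h4 : g⁻¹ * u * g ∈ P := by
    rw [hPg]
    have : g * (g⁻¹ * u * g) * g⁻¹ = u := by group
    rw [this]; exact hu
  have h5 : d (g⁻¹ * u * g) ∈ P := by
    have h6 := hP ⟨d, hd⟩
    have h7 : d (g⁻¹ * u * g) ∈ ((⟨d, hd⟩ : D) • P : Sylow 2 (PK F)) := ⟨_, h4, rfl⟩
    rw [h6] at h7
    exact h7
  have h6 := (hPg _).1 h5
  have h7 : (MulAut.conj g * d * (MulAut.conj g)⁻¹) u = g * d (g⁻¹ * u * g) * g⁻¹ := by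
    rw [MulAut.mul_apply, MulAut.mul_apply, MulAut.conj_apply, ← map_inv, MulAut.conj_apply, inv_inv]
  rw [h7]
  exact h6

/-- Additive involutions of a field of characteristic 2 and order at least 8 have two fixed points. -/
theorem exists_two_fixed (hF : 8 ≤ Nat.card F) (f : F → F) (hadd : ∀ a b, f (a + b) = f a + f b) (hf : ∀ a, f (f a) = a) :
    ∃ a b : F, a ≠ 0 ∧ b ≠ 0 ∧ a ≠ b ∧ f a = a ∧ f b = b := by
  classical
  let φ : F →+ F := AddMonoidHom.mk' f hadd
  let ψ : F →+ F := φ + AddMonoidHom.id F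
  have hψ : ∀ a, ψ a = f a + a := fun a => rfl
  have hker : ∀ a, a ∈ ψ.ker ↔ f a = a := by
    intro a
    rw [AddMonoidHom.mem_ker, hψ]
    constructor
    · intro h
      rw [add_eq_zero_iff_eq_neg, CharTwo.neg_eq] at h
      exact h
    · intro h
      rw [h, CharTwo.add_self_eq_zero]
  have hran : ψ.range ≤ ψ.ker := by
    rintro _ ⟨a, rfl⟩
    rw [hker, hψ, hadd, hf, add_comm]
  have hcard : Nat.card ψ.ker * Nat.card ψ.range = Nat.card F := by
    rw [← AddSubgroup.index_ker, AddSubgroup.card_mul_index]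
  have hle : Nat.card ψ.range ≤ Nat.card ψ.ker := Nat.card_mono (Set.toFinite _) hran
  have h3 : 3 ≤ Nat.card ψ.ker := by
    by_contra h
    push Not at h
    have h4 : Nat.card ψ.ker ≤ 2 := by omega
    have h5 : Nat.card ψ.range ≤ 2 := hle.trans h4
    have := Nat.mul_le_mul h4 h5
    omega
  have h4 : ∃ s : Finset ψ.ker, s.card = 3 := by
    have := Fintype.ofFinite ψ.ker
    rw [Nat.card_eq_fintype_card] at h3
    obtain ⟨s, _, hs⟩ := Finset.exists_subset_card_eq (s := (Finset.univ : Finset ψ.ker)) (n := 3) (by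
      rwa [Finset.card_univ])
    exact ⟨s, hs⟩
  obtain ⟨s, hs⟩ := h4
  have h5 : 2 ≤ (s.erase 0).card := by
    have := Finset.pred_card_le_card_erase (s := s) (a := 0)
    omega
  obtain ⟨a, ha, b, hb, hab⟩ := Finset.one_lt_card.1 h5
  refine ⟨a, b, fun h => ?_, fun h => ?_, fun h => hab (Subtype.ext h), (hker a).1 a.2, (hker b).1 b.2⟩
  · exact (Finset.mem_erase.1 ha).1 (Subtype.ext h)
  · exact (Finset.mem_erase.1 hb).1 (Subtype.ext h)

/-- Action of the stabiliser of `Ubar` on the centre. -/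
theorem exists_act_center {α : MulAut (PK F)} (h : ∀ u ∈ Ubar F, α u ∈ Ubar F) :
    ∃ f : F → F, (∀ a b, f (a + b) = f a + f b) ∧ ∀ t, α (pr (ut 0 0 t)) = pr (ut 0 0 (f t)) := by
  obtain ⟨u, hu, d, p, hp, rfl⟩ := exists_triple α h
  obtain ⟨σ, hσ⟩ : ∃ σ : F ≃+* F, ∀ t, p (pr (ut 0 0 t)) = pr (ut 0 0 (σ t)) := by
    obtain ⟨σ, rfl | rfl⟩ := hp
    · exact ⟨σ, fun t => by rw [← X02, fd_X, X02]⟩
    · exact ⟨σ, fun t => by rw [MulAut.mul_apply, gr_ut_t, ← X02, fd_X, X02]⟩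
  refine ⟨fun t => (d 0 : F) * σ t * (d 2 : F)⁻¹, fun a b => ?_, fun t => ?_⟩
  · show (d 0 : F) * σ (a + b) * (d 2 : F)⁻¹ = (d 0 : F) * σ a * (d 2 : F)⁻¹ + (d 0 : F) * σ b * (d 2 : F)⁻¹
    rw [map_add]; ring
  · obtain ⟨r, s, t', rfl⟩ := (mem_Ubar' u).1 hu
    rw [MulAut.mul_apply, MulAut.mul_apply, hσ, ← X02, tor_X, X02, conj_ut]
    simp

/-- **`L₃(q)` is locally balanced for even `q ≥ 8`.** -/
theorem isLocallyBalanced (hF : 8 ≤ Nat.card F) : Cfsg.IsLocallyBalanced (PK F) := by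
  intro H hH x hx
  have hx2 : x * x = 1 := by rw [← pow_two, ← hx, pow_orderOf_eq_one]
  have hx2' : (x : MulAut (PK F)) * x = 1 := congrArg Subtype.val hx2
  have hD : IsPGroup 2 (zpowers (x : MulAut (PK F))) := by
    rw [IsPGroup.iff_card]
    exact ⟨1, by rw [Nat.card_zpowers, Subgroup.orderOf_coe, hx, pow_one]⟩
  obtain ⟨g, hg⟩ := exists_conj_norm _ hD
  set g' : ↥H := inn H hH g with hg'
  set y : ↥H := g' * x * g'⁻¹ with hy
  have hyU : ∀ u ∈ Ubar F, (y : MulAut (PK F)) u ∈ Ubar F := hg x (mem_zpowers _)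
  have hy2 : (y : MulAut (PK F)) * y = 1 := by
    have : y * y = 1 := by
      rw [hy]
      calc g' * x * g'⁻¹ * (g' * x * g'⁻¹) = g' * (x * x) * g'⁻¹ := by group
        _ = 1 := by rw [hx2]; group
    exact congrArg Subtype.val this
  obtain ⟨f, hadd, hf⟩ := exists_act_center hyU
  have hff : ∀ a, f (f a) = a := by
    intro a
    have h1 : (y : MulAut (PK F)) ((y : MulAut (PK F)) (pr (ut 0 0 a))) = pr (ut 0 0 a) := by
      rw [← MulAut.mul_apply, hy2, MulAut.one_apply]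
    rw [hf, hf] at h1
    exact (pr_ut_inj h1).2.2
  obtain ⟨a, b, ha, hb, hab, hfa, hfb⟩ := exists_two_fixed hF f hadd hff
  have hcomm : ∀ a, f a = a → x * (g'⁻¹ * inn H hH (pr (ut 0 0 a)) * g') = g'⁻¹ * inn H hH (pr (ut 0 0 a)) * g' * x := by
    intro a ha
    have h1 : y * inn H hH (pr (ut 0 0 a)) = inn H hH (pr (ut 0 0 a)) * y := by
      have := inn_conj H hH y (pr (ut 0 0 a))
      rw [hf, ha, mul_inv_eq_iff_eq_mul] at this
      exact this
    rw [hy] at h1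
    calc x * (g'⁻¹ * inn H hH (pr (ut 0 0 a)) * g') = g'⁻¹ * (g' * x * g'⁻¹ * inn H hH (pr (ut 0 0 a))) * g' := by group
      _ = g'⁻¹ * inn H hH (pr (ut 0 0 a)) * g' * x := by rw [h1]; group
  have hsq : ∀ a : F, inn H hH (pr (ut 0 0 a)) * inn H hH (pr (ut 0 0 a)) = 1 := by
    intro a
    rw [← map_mul, ut_t_mul, CharTwo.add_self_eq_zero, ut_zero, map_one]
  have hL : ∀ a : F, a ≠ 0 → Loc (g'⁻¹ * inn H hH (pr (ut 0 0 a)) * g')
      (((Ubar F).map (inn H hH)).map (MulAut.conj g'⁻¹).toMonoidHom) := by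
    intro a ha
    have := (loc H hH ha).conj g'⁻¹
    rwa [inv_inv] at this
  have hab' : a + b ≠ 0 := by
    intro h
    rw [add_eq_zero_iff_eq_neg, CharTwo.neg_eq] at h
    exact hab h
  refine core_eq_bot (x := x) (z₁ := g'⁻¹ * inn H hH (pr (ut 0 0 a)) * g')
    (z₂ := g'⁻¹ * inn H hH (pr (ut 0 0 b)) * g') hx2 ?_ ?_ ?_ (hcomm a hfa) (hcomm b hfb) (hL a ha) (hL b hb)
    (Q₃ := ((Ubar F).map (inn H hH)).map (MulAut.conj g'⁻¹).toMonoidHom) ?_
  · calc _ = g'⁻¹ * (inn H hH (pr (ut 0 0 a)) * inn H hH (pr (ut 0 0 a))) * g' := by group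
      _ = 1 := by rw [hsq]; group
  · calc _ = g'⁻¹ * (inn H hH (pr (ut 0 0 b)) * inn H hH (pr (ut 0 0 b))) * g' := by group
      _ = 1 := by rw [hsq]; group
  · calc _ = g'⁻¹ * (inn H hH (pr (ut 0 0 a)) * inn H hH (pr (ut 0 0 b))) * g' := by group
      _ = g'⁻¹ * (inn H hH (pr (ut 0 0 b)) * inn H hH (pr (ut 0 0 a))) * g' := by
        rw [← map_mul (inn H hH), ← map_mul (inn H hH), ut_t_mul, ut_t_mul, add_comm]
      _ = _ := by group
  · have : g'⁻¹ * inn H hH (pr (ut 0 0 a)) * g' * (g'⁻¹ * inn H hH (pr (ut 0 0 b)) * g') =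
        g'⁻¹ * inn H hH (pr (ut 0 0 (a + b))) * g' := by
      rw [← ut_t_mul, map_mul]; group
    rw [this]
    exact hL _ hab'

end Cfsg.Agent.UGT.C.LThreeBal
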