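import Mathlib
import Cfsg.Agent.UGT.C.LThreeBal
import Cfsg.Agent.ClassicalGeometry.AutPSL.Frame

/-!
# Fixed points of involutory automorphisms of `L₃(q)`, `q` even
-/

set_option autoImplicit false

namespace Cfsg.Agent.UGT.C.LThreeComp

open Matrix Subgroup
open Cfsg.Agent.StdRank2.OutL3 Cfsg.Agent.StdRank2.OutL3Rel Cfsg.Agent.StdRank2.OutL3Facts
open Cfsg.Agent.ClassicalGeometry.AutPSL.Root Cfsg.Agent.ClassicalGeometry.AutPSL.SylowU
open Cfsg.Agent.ClassicalGeometry.AutPSL.Auto Cfsg.Agent.ClassicalGeometry.AutPSL.Main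
open Cfsg.Agent.UGT.C.LocBal Cfsg.Agent.UGT.C.LThreeBal

universe u

variable {F : Type u} [Field F]

/-! ### involutions -/

theorem tr_of_r (r t : F) : ut r 0 t = tr (Pi.single 0 1) ![0, r, t] (by simp [dotProduct, Fin.sum_univ_three]) := by
  apply Subtype.ext
  rw [coe_tr]
  ext i j
  show (!![1, r, t; 0, 1, 0; 0, 0, 1] : Matrix (Fin 3) (Fin 3) F) i j = (1 : Matrix (Fin 3) (Fin 3) F) i j +
    (Pi.single 0 1 : Fin 3 → F) i * (![0, r, t] : Fin 3 → F) j
  fin_cases i <;> fin_cases j <;> simp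

theorem tr_of_s (s t : F) : ut 0 s t = tr ![t, s, 0] (Pi.single 2 1) (by simp [dotProduct, Fin.sum_univ_three]) := by
  apply Subtype.ext
  rw [coe_tr]
  ext i j
  show (!![1, 0, t; 0, 1, s; 0, 0, 1] : Matrix (Fin 3) (Fin 3) F) i j = (1 : Matrix (Fin 3) (Fin 3) F) i j +
    (![t, s, 0] : Fin 3 → F) i * (Pi.single 2 1 : Fin 3 → F) j
  fin_cases i <;> fin_cases j <;> simp

theorem exists_aut_tr {a φ : Fin 3 → F} (ha : a ≠ 0) (hφ : φ ≠ 0) (h : φ ⬝ᵥ a = 0) :
    ∃ α : MulAut (PK F), α (pr (tr a φ h)) = pr (ut 0 0 1) := by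
  obtain ⟨A, hA1, hA2⟩ := Cfsg.Agent.ClassicalGeometry.AutPSL.Frame.exists_gl ha hφ h (i0 := 0) (j0 := 2) (by decide)
  have h1 : cj A⁻¹ (tr a φ h) = ut 0 0 1 := by
    rw [cj_tr, tr_of_r, tr_eq_iff, inv_inv, hA2, ← hA1, mulVec_mulVec, ← Units.val_mul, inv_mul_cancel,
      Units.val_one, one_mulVec]
    congr 1
    ext i
    fin_cases i <;> simp
  exact ⟨lift (cj A⁻¹), by rw [lift_pr, h1]⟩

theorem exists_aut_ut {r s t : F} (h : r * s = 0) (hne : pr (ut r s t) ≠ 1) :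
    ∃ α : MulAut (PK F), α (pr (ut r s t)) = pr (ut 0 0 1) := by
  rcases mul_eq_zero.1 h with rfl | rfl
  · rw [tr_of_s]
    refine exists_aut_tr ?_ ?_ _
    · intro h0
      apply hne
      have e0 := congrFun h0 0
      have e1 := congrFun h0 1
      simp at e0 e1
      rw [e0, e1, ut_zero]
    · intro h0
      have := congrFun h0 2
      simp at this
  · rw [tr_of_r]
    refine exists_aut_tr ?_ ?_ _
    · intro h0
      have := congrFun h0 0
      simp at this
    · intro h0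
      apply hne
      have e0 := congrFun h0 1
      have e1 := congrFun h0 2
      simp at e0 e1
      rw [e0, e1, ut_zero]

variable [Finite F] [CharP F 2]

/-- `P` is a Sylow 2-subgroup normalised by `C(i)` -/
theorem exists_P {i : PK F} (hi : i * i = 1) (h1 : i ≠ 1) :
    ∃ P : Subgroup (PK F), IsPGroup 2 P ∧ (∀ g, g * i = i * g → g ∈ normalizer (P : Set (PK F))) ∧
      ∀ Q : Subgroup (PK F), IsPGroup 2 Q → Q ≤ normalizer (P : Set (PK F)) → Q ≤ P := by
  have : Fact (Nat.Prime 2) := ⟨Nat.prime_two⟩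
  -- `i` is conjugate to `ut 0 0 1`
  obtain ⟨α, hα⟩ : ∃ α : MulAut (PK F), α i = pr (ut 0 0 1) := by
    have hpg : IsPGroup 2 (zpowers (MulAut.conj i)) := by
      rw [IsPGroup.iff_card]
      have : orderOf (MulAut.conj i) ∣ 2 := orderOf_dvd_of_pow_eq_one (by rw [pow_two, ← map_mul, hi, map_one])
      rcases (Nat.dvd_prime Nat.prime_two).1 this with h | h
      · exact ⟨0, by rw [Nat.card_zpowers, h, pow_zero]⟩
      · exact ⟨1, by rw [Nat.card_zpowers, h, pow_one]⟩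
    obtain ⟨g, hg⟩ := exists_conj_norm _ hpg
    have h2 : ∀ u ∈ Ubar F, MulAut.conj (g * i * g⁻¹) u ∈ Ubar F := by
      intro u hu
      have := hg _ (mem_zpowers _) u hu
      rwa [← map_inv, ← map_mul, ← map_mul] at this
    have h3 : g * i * g⁻¹ ∈ Ubar F := by
      have h4 : zpowers (g * i * g⁻¹) ≤ Ubar F := by
        apply le_of_norm
        · rw [IsPGroup.iff_card]
          have : orderOf (g * i * g⁻¹) ∣ 2 := orderOf_dvd_of_pow_eq_one (by
            rw [pow_two]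
            calc g * i * g⁻¹ * (g * i * g⁻¹) = g * (i * i) * g⁻¹ := by group
              _ = 1 := by rw [hi]; group)
          rcases (Nat.dvd_prime Nat.prime_two).1 this with h | h
          · exact ⟨0, by rw [Nat.card_zpowers, h, pow_zero]⟩
          · exact ⟨1, by rw [Nat.card_zpowers, h, pow_one]⟩
        · rw [zpowers_le, mem_normalizer_iff]
          exact fun x => mem_norm_iff h2 x
      exact h4 (mem_zpowers _)
    obtain ⟨r, s, t, hrst⟩ := (mem_Ubar' _).1 h3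
    have h5 : r * s = 0 := by
      have h6 : pr (ut r s t) * pr (ut r s t) = 1 := by
        rw [← hrst]
        calc g * i * g⁻¹ * (g * i * g⁻¹) = g * (i * i) * g⁻¹ := by group
          _ = 1 := by rw [hi]; group
      rw [← map_mul, ut_mul, CharTwo.add_self_eq_zero, CharTwo.add_self_eq_zero, CharTwo.add_self_eq_zero, zero_add,
        ← ut_zero] at h6
      exact (pr_ut_inj h6).2.2
    have h6 : pr (ut r s t) ≠ 1 := by
      rw [← hrst]
      intro h
      apply h1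
      calc i = g⁻¹ * (g * i * g⁻¹) * g := by group
        _ = 1 := by rw [h]; group
    obtain ⟨β, hβ⟩ := exists_aut_ut h5 h6
    refine ⟨β * MulAut.conj g, ?_⟩
    rw [MulAut.mul_apply, MulAut.conj_apply, hrst, hβ]
  refine ⟨(Ubar F).comap α.toMonoidHom, isPGroup_Ubar.comap_of_injective _ α.injective, fun g hg => ?_, fun Q hQ hQn => ?_⟩
  · have h2 : α g ∈ normalizer (Ubar F : Set (PK F)) := by
      apply cent_le_norm (t := 1) one_ne_zero
      rw [← hα, ← map_mul, ← map_mul, hg]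
    rw [mem_normalizer_iff] at h2 ⊢
    intro x
    show α x ∈ Ubar F ↔ α (g * x * g⁻¹) ∈ Ubar F
    rw [map_mul, map_mul, map_inv]
    exact h2 (α x)
  · rw [← map_le_iff_le_comap]
    apply le_of_norm (hQ.map _)
    rintro _ ⟨q, hq, rfl⟩
    have h3 := mem_normalizer_iff.1 (hQn hq)
    rw [mem_normalizer_iff]
    intro x
    obtain ⟨y, rfl⟩ := α.surjective x
    have h4 := h3 y
    show α y ∈ Ubar F ↔ α q * α y * (α q)⁻¹ ∈ Ubar F
    rw [← map_inv, ← map_mul, ← map_mul]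
    exact h4

/-! ### conjugating an outer involution to a field automorphism -/

omit [Finite F] [CharP F 2] in
theorem ut_split (r s t : F) : pr (ut r s t) = pr (ut r 0 0) * pr (ut 0 s 0) * pr (ut 0 0 (t - r * s)) := by
  rw [← map_mul, ← map_mul, ut_mul, ut_mul]
  congr 2 <;> ring

omit [Finite F] [CharP F 2] in
theorem fd_ut (σ : F ≃+* F) (r s t : F) : fd σ (pr (ut r s t)) = pr (ut (σ r) (σ s) (σ t)) := by
  rw [ut_split, map_mul, map_mul, fd_ut_r, fd_ut_s, ← X02, fd_X, X02, map_sub, map_mul, ← ut_split]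

omit [Finite F] in
theorem gr_ut (r s t : F) : ∃ t', gr (pr (ut r s t)) = pr (ut s r t') := by
  refine ⟨t - r * s, ?_⟩
  rw [ut_split, map_mul, map_mul, gr_ut_r, gr_ut_s, gr_ut_t, ← map_mul, ← map_mul, ut_mul, ut_mul]
  congr 2 <;> ring

omit [Finite F] in
theorem exists_trace_one {σ : F ≃+* F} (h2 : σ * σ = 1) (h1 : σ ≠ 1) : ∃ w, w + σ w = 1 := by
  have hs : ∀ a, σ (σ a) = a := fun a => by
    have := congrArg (fun f : F ≃+* F => f a) h2
    exact this
  obtain ⟨a, ha⟩ : ∃ a, σ a ≠ a := by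
    by_contra h
    push Not at h
    exact h1 (RingEquiv.ext h)
  have h0 : a + σ a ≠ 0 := by
    intro h
    rw [add_eq_zero_iff_eq_neg, CharTwo.neg_eq] at h
    exact ha h.symm
  refine ⟨a * (a + σ a)⁻¹, ?_⟩
  rw [map_mul, map_inv₀, map_add, hs, add_comm (σ a) a, ← add_mul, mul_inv_cancel₀ h0]

theorem hilbert {σ : F ≃+* F} (h2 : σ * σ = 1) (h1 : σ ≠ 1) {u : PK F} (hu : u ∈ Ubar F) (h : u * fd σ u = 1) :
    ∃ v, v * u * (fd σ v)⁻¹ = 1 := by
  have hs : ∀ a, σ (σ a) = a := fun a => by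
    have := congrArg (fun f : F ≃+* F => f a) h2
    exact this
  obtain ⟨a, b, c, rfl⟩ := (mem_Ubar' u).1 hu
  rw [fd_ut, ← map_mul, ut_mul, ← ut_zero] at h
  obtain ⟨e1, e2, e3⟩ := pr_ut_inj h
  have ha : σ a = a := by
    rw [add_eq_zero_iff_eq_neg, CharTwo.neg_eq] at e1
    exact e1.symm
  have hb : σ b = b := by
    rw [add_eq_zero_iff_eq_neg, CharTwo.neg_eq] at e2
    exact e2.symm
  rw [hb, add_eq_zero_iff_eq_neg, CharTwo.neg_eq] at e3
  -- `c + σ c = a b`
  obtain ⟨w, hw⟩ := exists_trace_one h2 h1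
  have hw' : σ w = 1 + w := by
    rw [← hw, add_right_comm, CharTwo.add_self_eq_zero, zero_add]
  have hc' : σ c = a * b + c := by
    rw [← e3, add_right_comm, CharTwo.add_self_eq_zero, zero_add]
  refine ⟨pr (ut (a * w) (b * w) ((c + a * w * b) * w)), ?_⟩
  rw [mul_inv_eq_one, fd_ut, ← map_mul, ut_mul]
  have two : (2 : F) = 0 := CharTwo.two_eq_zero
  congr 2
  · rw [map_mul, ha, hw']; ring
  · rw [map_mul, hb, hw']; ring
  · simp only [map_mul, map_add, ha, hb, hw', hc']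
    linear_combination (-(a * b * w) - a * b) * two

/-- **An outer involution centralising a 2-subgroup with a non-central involution is conjugate to a field
automorphism.** -/
theorem exists_conj_fd {τ : MulAut (PK F)} (h2 : τ * τ = 1) (hinn : ∀ k, τ ≠ MulAut.conj k) {T : Subgroup (PK F)}
    (hT : IsPGroup 2 T) (hTτ : ∀ t ∈ T, τ t = t) {i s : PK F} (hi : i ∈ T) (hs : s ∈ T) (hi2 : i * i = 1)
    (his : i * s ≠ s * i) :
    ∃ (β : MulAut (PK F)) (σ : F ≃+* F), σ * σ = 1 ∧ σ ≠ 1 ∧ β * τ * β⁻¹ = fd σ := by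
  have : Fact (Nat.Prime 2) := ⟨Nat.prime_two⟩
  have cinv : ∀ (α : MulAut (PK F)) (k : PK F), α * MulAut.conj k * α⁻¹ = MulAut.conj (α k) := by
    intro α k
    apply MulEquiv.ext
    intro y
    rw [MulAut.mul_apply, MulAut.mul_apply, MulAut.conj_apply, MulAut.conj_apply, map_mul, map_mul, map_inv,
      MulAut.apply_inv_self]
  -- the 2-group
  have hZ : IsPGroup 2 (zpowers τ) := by
    rw [IsPGroup.iff_card]
    have : orderOf τ ∣ 2 := orderOf_dvd_of_pow_eq_one (by rw [pow_two, h2])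
    rcases (Nat.dvd_prime Nat.prime_two).1 this with h | h
    · exact ⟨0, by rw [Nat.card_zpowers, h, pow_zero]⟩
    · exact ⟨1, by rw [Nat.card_zpowers, h, pow_one]⟩
  have hTm : IsPGroup 2 (T.map (MulAut.conj : PK F →* MulAut (PK F))) := hT.map _
  have hD : IsPGroup 2 ↥(zpowers τ ⊔ T.map (MulAut.conj : PK F →* MulAut (PK F))) := by
    refine IsPGroup.to_sup_of_normal_right' hZ hTm ?_
    rw [zpowers_le, mem_normalizer_iff]
    have key : ∀ n, n ∈ T.map (MulAut.conj : PK F →* MulAut (PK F)) → τ * n * τ⁻¹ ∈ T.map (MulAut.conj : PK F →* MulAut (PK F)) := by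
      rintro _ ⟨t, ht, rfl⟩
      rw [cinv, hTτ t ht]
      exact ⟨t, ht, rfl⟩
    intro n
    constructor
    · exact key n
    · intro h
      have h3 := key _ h
      have h4 : τ * (τ * n * τ⁻¹) * τ⁻¹ = n := by
        calc τ * (τ * n * τ⁻¹) * τ⁻¹ = (τ * τ) * n * (τ * τ)⁻¹ := by group
          _ = n := by rw [h2]; group
      rwa [h4] at h3
  obtain ⟨g, hg⟩ := exists_conj_norm _ hD
  set x := MulAut.conj g * τ * (MulAut.conj g)⁻¹ with hx
  have hxU : ∀ u ∈ Ubar F, x u ∈ Ubar F := hg τ (le_sup_left (a := zpowers τ) (mem_zpowers τ))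
  have hx2 : x * x = 1 := by
    rw [hx]
    calc MulAut.conj g * τ * (MulAut.conj g)⁻¹ * (MulAut.conj g * τ * (MulAut.conj g)⁻¹) =
          MulAut.conj g * (τ * τ) * (MulAut.conj g)⁻¹ := by group
      _ = 1 := by rw [h2]; group
  -- `T ^ g ≤ Ubar`
  have hTU : ∀ t ∈ T, g * t * g⁻¹ ∈ Ubar F := by
    have h3 : T.map (MulAut.conj g).toMonoidHom ≤ Ubar F := by
      apply le_of_norm (hT.map _)
      rintro _ ⟨t, ht, rfl⟩
      rw [mem_normalizer_iff]
      have h4 : ∀ u ∈ Ubar F, MulAut.conj (g * t * g⁻¹) u ∈ Ubar F := by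
        intro u hu
        have := hg (MulAut.conj t) (le_sup_right (a := zpowers τ) ⟨t, ht, rfl⟩) u hu
        rwa [← map_inv, ← map_mul, ← map_mul] at this
      exact fun x => mem_norm_iff h4 x
    intro t ht
    exact h3 ⟨t, ht, rfl⟩
  have hTx : ∀ t ∈ T, x (g * t * g⁻¹) = g * t * g⁻¹ := by
    intro t ht
    rw [hx, MulAut.mul_apply, MulAut.mul_apply, ← map_inv, MulAut.conj_apply, MulAut.conj_apply]
    have : g⁻¹ * (g * t * g⁻¹) * g⁻¹⁻¹ = t := by group
    rw [this, hTτ t ht]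
  -- the frame
  have hxp : IsPGroup 2 (zpowers x) := by
    rw [IsPGroup.iff_card]
    have : orderOf x ∣ 2 := orderOf_dvd_of_pow_eq_one (by rw [pow_two, hx2])
    rcases (Nat.dvd_prime Nat.prime_two).1 this with h | h
    · exact ⟨0, by rw [Nat.card_zpowers, h, pow_zero]⟩
    · exact ⟨1, by rw [Nat.card_zpowers, h, pow_one]⟩
  have hxU' : ∀ d ∈ zpowers x, ∀ u ∈ Ubar F, d u ∈ Ubar F := by
    intro d hd
    obtain ⟨k, rfl⟩ := mem_zpowers_iff.1 hd
    have h3 : x ^ k = 1 ∨ x ^ k = x := by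
      rcases Int.even_or_odd' k with ⟨m, rfl | rfl⟩
      · left
        rw [_root_.zpow_mul, show x ^ (2 : ℤ) = 1 by rw [zpow_two, hx2], _root_.one_zpow]
      · right
        rw [_root_.zpow_add, _root_.zpow_mul, show x ^ (2 : ℤ) = 1 by rw [zpow_two, hx2], _root_.one_zpow, one_mul, _root_.zpow_one]
    rcases h3 with h | h
    · rw [h]; exact fun u hu => hu
    · rw [h]; exact hxU
  obtain ⟨c, hc⟩ := exists_frame (zpowers x) hxp hxU'
  obtain ⟨u, hu, p, hp, -, hxu⟩ := hc x (mem_zpowers x)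
  set y := (tor c)⁻¹ * x * tor c with hy
  obtain ⟨u', hu', hyu⟩ : ∃ u' ∈ Ubar F, y = MulAut.conj u' * p := by
    refine ⟨(tor c)⁻¹ u, ?_, ?_⟩
    · rw [← map_inv]; exact tor_Ubar _ u hu
    · have := cinv (tor c)⁻¹ u
      rw [inv_inv] at this
      rw [← this, hy, hxu]
      group
  have hy2 : y * y = 1 := by
    rw [hy]
    calc (tor c)⁻¹ * x * tor c * ((tor c)⁻¹ * x * tor c) = (tor c)⁻¹ * (x * x) * tor c := by group
      _ = 1 := by rw [hx2]; group
  -- fixed elements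
  have hfix : ∀ t ∈ T, ∃ a b e : F, (tor c)⁻¹ (g * t * g⁻¹) = pr (ut a b e) ∧ y (pr (ut a b e)) = pr (ut a b e) := by
    intro t ht
    have h3 : (tor c)⁻¹ (g * t * g⁻¹) ∈ Ubar F := by rw [← map_inv]; exact tor_Ubar _ _ (hTU t ht)
    obtain ⟨a, b, e, h4⟩ := (mem_Ubar' _).1 h3
    refine ⟨a, b, e, h4, ?_⟩
    rw [← h4, hy, MulAut.mul_apply, MulAut.mul_apply, MulAut.apply_inv_self, hTx t ht]
  obtain ⟨a, b, e, hi', hyi⟩ := hfix i hi
  obtain ⟨a', b', e', hs', hys⟩ := hfix s hs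
  have hab : a * b = 0 := by
    have h3 : pr (ut a b e) * pr (ut a b e) = 1 := by
      rw [← hi', ← map_mul]
      have : g * i * g⁻¹ * (g * i * g⁻¹) = g * (i * i) * g⁻¹ := by group
      rw [this, hi2, mul_one, mul_inv_cancel, map_one]
    rw [← map_mul, ut_mul, CharTwo.add_self_eq_zero, CharTwo.add_self_eq_zero, CharTwo.add_self_eq_zero, zero_add,
      ← ut_zero] at h3
    exact (pr_ut_inj h3).2.2
  have hne : ¬ (a = 0 ∧ b = 0) := by
    rintro ⟨rfl, rfl⟩
    apply his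
    have h3 : (tor c)⁻¹ (g * (i * s) * g⁻¹) = (tor c)⁻¹ (g * (s * i) * g⁻¹) := by
      have e1 : g * (i * s) * g⁻¹ = (g * i * g⁻¹) * (g * s * g⁻¹) := by group
      have e2 : g * (s * i) * g⁻¹ = (g * s * g⁻¹) * (g * i * g⁻¹) := by group
      rw [e1, e2, map_mul _ (g * i * g⁻¹), map_mul _ (g * s * g⁻¹), hi', hs', ut_t_comm]
    have h4 := (tor c)⁻¹.injective h3
    exact mul_left_cancel (mul_right_cancel h4)
  obtain ⟨a₁, b₁, e₁, rfl⟩ := (mem_Ubar' u').1 hu'
  obtain ⟨σ, hσ⟩ : ∃ σ : F ≃+* F, p = fd σ := by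
    obtain ⟨σ, rfl | rfl⟩ := hp
    · exact ⟨σ, rfl⟩
    · exfalso
      obtain ⟨t', ht'⟩ := gr_ut a b e
      rw [hyu, MulAut.mul_apply, MulAut.mul_apply, ht', fd_ut, conj_ut] at hyi
      obtain ⟨e1, e2, -⟩ := pr_ut_inj hyi
      apply hne
      rcases mul_eq_zero.1 hab with h | h
      · refine ⟨h, ?_⟩
        rw [← e2, h, map_zero]
      · refine ⟨?_, h⟩
        rw [← e1, h, map_zero]
  rw [hσ] at hyu
  have hσ2 : σ * σ = 1 := by
    apply RingEquiv.ext
    intro r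
    have h3 := congrArg (fun α : MulAut (PK F) => α (pr (ut r 0 0))) hy2
    simp only [hyu, MulAut.mul_apply, MulAut.one_apply, fd_ut, conj_ut] at h3
    exact (pr_ut_inj h3).1
  have hσ1 : σ ≠ 1 := by
    rintro rfl
    rw [map_one, mul_one] at hyu
    have h3 : τ = MulAut.conj ((MulAut.conj g)⁻¹ (tor c (pr (ut a₁ b₁ e₁)))) := by
      rw [← cinv, ← cinv, ← hyu, hy, hx]
      group
    exact hinn _ h3
  have hcoc : pr (ut a₁ b₁ e₁) * fd σ (pr (ut a₁ b₁ e₁)) = 1 := by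
    apply LThreeBal.conj_injective
    rw [map_one, map_mul, ← cinv, ← hy2, hyu]
    have h3 : (fd σ)⁻¹ = fd σ := by rw [← map_inv]; congr 1; exact inv_eq_of_mul_eq_one_left hσ2
    rw [h3]
    group
  obtain ⟨v, hv⟩ := hilbert hσ2 hσ1 hu' hcoc
  refine ⟨MulAut.conj v * (tor c)⁻¹ * MulAut.conj g, σ, hσ2, hσ1, ?_⟩
  have h3 : MulAut.conj v * (tor c)⁻¹ * MulAut.conj g * τ * (MulAut.conj v * (tor c)⁻¹ * MulAut.conj g)⁻¹ =
      MulAut.conj v * y * (MulAut.conj v)⁻¹ := by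
    rw [hy, hx]
    group
  rw [h3, hyu]
  have h4 : MulAut.conj v * (MulAut.conj (pr (ut a₁ b₁ e₁)) * fd σ) * (MulAut.conj v)⁻¹ =
      MulAut.conj v * MulAut.conj (pr (ut a₁ b₁ e₁)) * (fd σ * MulAut.conj v * (fd σ)⁻¹)⁻¹ * fd σ := by group
  rw [h4, cinv, ← map_inv, ← map_mul, ← map_mul, hv, map_one, one_mul]

end Cfsg.Agent.UGT.C.LThreeComp
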