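import Mathlib
import Cfsg.Agent.UGT.C.LThreeComp
import Cfsg.Agent.SignalizersComponents.ComponentNormalize

/-!
# The fixed points of an involutory field automorphism of `L₃(q²)`, `q` even
-/

set_option autoImplicit false

namespace Cfsg.Agent.UGT.C.LThreeFix

open Matrix Subgroup
open Cfsg.Agent.StdRank2.OutL3 Cfsg.Agent.StdRank2.OutL3Rel Cfsg.Agent.StdRank2.OutL3Facts
open Cfsg.Agent.ClassicalGeometry.AutPSL.Root Cfsg.Agent.ClassicalGeometry.AutPSL.SylowU
open Cfsg.Agent.ClassicalGeometry.AutPSL.Auto Cfsg.Agent.ClassicalGeometry.AutPSL.Main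
open Cfsg.Agent.UGT.C.LocBal Cfsg.Agent.UGT.C.LThreeBal Cfsg.Agent.UGT.C.LThreeComp

universe u

/-! ### fixed points -/

/-- the fixed points of an automorphism -/
def fix {G : Type*} [Group G] (τ : MulAut G) : Subgroup G where
  carrier := {g | τ g = g}
  one_mem' := map_one τ
  mul_mem' := fun {a b} (ha : τ a = a) (hb : τ b = b) => by
    show τ (a * b) = a * b
    rw [map_mul, ha, hb]
  inv_mem' := fun {a} (ha : τ a = a) => by
    show τ a⁻¹ = a⁻¹
    rw [map_inv, ha]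

theorem mem_fix {G : Type*} [Group G] {τ : MulAut G} {g : G} : g ∈ fix τ ↔ τ g = g := Iff.rfl

variable {F : Type u} [Field F]

/-- the fixed field -/
abbrev F0 (σ : F ≃+* F) : Subfield F := (σ : F →+* F).eqLocusField (RingHom.id F)

theorem mem_F0 {σ : F ≃+* F} {x : F} : x ∈ F0 σ ↔ σ x = x := Iff.rfl

/-- the embedding of `SL₃(F0)` -/
def emb (σ : F ≃+* F) : Matrix.SpecialLinearGroup (Fin 3) (F0 σ) →* Matrix.SpecialLinearGroup (Fin 3) F :=
  Matrix.SpecialLinearGroup.map (F0 σ).subtype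

theorem coe_emb (σ : F ≃+* F) (g : Matrix.SpecialLinearGroup (Fin 3) (F0 σ)) (i j : Fin 3) :
    (emb σ g : Matrix (Fin 3) (Fin 3) F) i j = ((g : Matrix (Fin 3) (Fin 3) (F0 σ)) i j : F) := rfl

/-- the image of `SL₃(F0)` -/
def L0 (σ : F ≃+* F) : Subgroup (PK F) := (pr.comp (emb σ)).range

theorem fld_emb (σ : F ≃+* F) (g : Matrix.SpecialLinearGroup (Fin 3) (F0 σ)) : fld σ (emb σ g) = emb σ g := by
  apply Subtype.ext
  ext i j
  rw [coe_fld_apply, coe_emb]
  exact (g.1 i j).2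

theorem L0_le (σ : F ≃+* F) : L0 σ ≤ fix (fd σ) := by
  rintro _ ⟨g, rfl⟩
  rw [mem_fix]
  show lift (fld σ) (pr (emb σ g)) = _
  rw [lift_pr, fld_emb]
  rfl

/-- Hilbert 90 for scalars -/
theorem exists_scalar {σ : F ≃+* F} (h2 : σ * σ = 1) (h1 : σ ≠ 1) [CharP F 2] {ζ : F} (h : ζ * σ ζ = 1) :
    ∃ μ : F, μ ≠ 0 ∧ σ μ = ζ * μ := by
  have hs : ∀ a, σ (σ a) = a := fun a => by
    have := congrArg (fun f : F ≃+* F => f a) h2
    exact this
  have hζ : ζ ≠ 0 := left_ne_zero_of_mul_eq_one h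
  have hσζ : σ ζ = ζ⁻¹ := (inv_eq_of_mul_eq_one_right h).symm
  by_contra hno
  push Not at hno
  have h3 : ∀ y, y + ζ⁻¹ * σ y = 0 := by
    intro y
    by_contra hy
    apply hno _ hy
    rw [map_add, map_mul, map_inv₀, hs, hσζ, inv_inv, mul_add, ← mul_assoc, mul_inv_cancel₀ hζ, one_mul, add_comm]
  have h4 : ζ = 1 := by
    have := h3 1
    rw [map_one, mul_one, add_eq_zero_iff_eq_neg, CharTwo.neg_eq] at this
    exact inv_eq_one.1 this.symm
  apply h1
  apply RingEquiv.ext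
  intro y
  have := h3 y
  rw [h4, inv_one, one_mul, add_eq_zero_iff_eq_neg, CharTwo.neg_eq] at this
  exact this.symm

/-- `fix σ` normalises `L0` -/
theorem fix_conj {σ : F ≃+* F} (h2 : σ * σ = 1) (h1 : σ ≠ 1) [CharP F 2] {k : PK F} (hk : k ∈ fix (fd σ))
    {l : PK F} (hl : l ∈ L0 σ) : k * l * k⁻¹ ∈ L0 σ := by
  have hs : ∀ a, σ (σ a) = a := fun a => by
    have := congrArg (fun f : F ≃+* F => f a) h2
    exact this
  obtain ⟨g, rfl⟩ := pr_surjective k
  obtain ⟨s, rfl⟩ := hl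
  have h3 : pr g = pr (fld σ g) := by
    have : lift (fld σ) (pr g) = pr g := hk
    rw [← this, lift_pr]
  obtain ⟨ζ, hζ⟩ := exists_smul_of_pr_eq h3
  have hζ' : ∀ i j, σ (g.1 i j) = ζ * g.1 i j := by
    intro i j
    have := congrFun (congrFun hζ i) j
    rw [coe_fld_apply] at this
    exact this
  obtain ⟨i0, j0, h0⟩ : ∃ i j, g.1 i j ≠ 0 := by
    by_contra hno
    push Not at hno
    have : g.1 = 0 := by ext i j; exact hno i j
    have h4 := g.2
    rw [this] at h4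
    simp at h4
  have hζζ : ζ * σ ζ = 1 := by
    have h4 := congrArg σ (hζ' i0 j0)
    rw [hs, map_mul, hζ'] at h4
    have h5 : g.1 i0 j0 * 1 = g.1 i0 j0 * (ζ * σ ζ) := by rw [mul_one]; linear_combination h4
    exact (mul_left_cancel₀ h0 h5).symm
  obtain ⟨μ, hμ, hμσ⟩ := exists_scalar h2 h1 hζζ
  -- entries of `μ⁻¹ g`
  have hent : ∀ i j, μ⁻¹ * g.1 i j ∈ F0 σ := by
    intro i j
    rw [mem_F0, map_mul, map_inv₀, hμσ, hζ', _root_.mul_inv_rev]
    have hz : ζ ≠ 0 := left_ne_zero_of_mul_eq_one hζζ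
    field_simp
  have hσμ : σ μ = ζ * μ := hμσ
  have hginv : ∀ i j, σ ((g⁻¹).1 i j) = ζ⁻¹ * (g⁻¹).1 i j := by
    intro i j
    have h4 : pr (g⁻¹) = pr (fld σ g⁻¹) := by rw [map_inv, map_inv, map_inv, h3]
    have hz : ζ ≠ 0 := left_ne_zero_of_mul_eq_one hζζ
    have h5 : ζ • (fld σ g⁻¹ : Matrix (Fin 3) (Fin 3) F) = (g⁻¹).1 := by
      have h6 : (fld σ g : Matrix (Fin 3) (Fin 3) F) * (fld σ g⁻¹ : Matrix (Fin 3) (Fin 3) F) = 1 := by
        rw [← Matrix.SpecialLinearGroup.coe_mul, ← map_mul, mul_inv_cancel, map_one, Matrix.SpecialLinearGroup.coe_one]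
      have h7 : (g⁻¹).1 * (fld σ g : Matrix (Fin 3) (Fin 3) F) = ζ • 1 := by
        rw [hζ, Matrix.mul_smul, ← Matrix.SpecialLinearGroup.coe_mul, inv_mul_cancel, Matrix.SpecialLinearGroup.coe_one]
      have h8 : (g⁻¹).1 * ((fld σ g : Matrix (Fin 3) (Fin 3) F) * (fld σ g⁻¹ : Matrix (Fin 3) (Fin 3) F)) = (g⁻¹).1 := by
        rw [h6, Matrix.mul_one]
      rw [← Matrix.mul_assoc, h7, Matrix.smul_mul, Matrix.one_mul] at h8
      exact h8
    have h9 := congrFun (congrFun h5 i) j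
    rw [Matrix.smul_apply, coe_fld_apply, smul_eq_mul] at h9
    rw [eq_inv_mul_iff_mul_eq₀ hz]
    exact h9
  have hent' : ∀ i j, μ * (g⁻¹).1 i j ∈ F0 σ := by
    intro i j
    rw [mem_F0, map_mul, hσμ, hginv]
    have hz : ζ ≠ 0 := left_ne_zero_of_mul_eq_one hζζ
    field_simp
  -- the conjugate
  let m : Matrix (Fin 3) (Fin 3) (F0 σ) :=
    (Matrix.of fun i j => (⟨_, hent i j⟩ : F0 σ)) * s.1 * (Matrix.of fun i j => (⟨_, hent' i j⟩ : F0 σ))
  have hm : m.map (F0 σ).subtype = (g * emb σ s * g⁻¹).1 := by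
    have e1 : (Matrix.of fun i j => (⟨_, hent i j⟩ : F0 σ)).map (F0 σ).subtype = μ⁻¹ • g.1 := by
      ext i j; rfl
    have e2 : (Matrix.of fun i j => (⟨_, hent' i j⟩ : F0 σ)).map (F0 σ).subtype = μ • (g⁻¹).1 := by
      ext i j; rfl
    have e3 : s.1.map (F0 σ).subtype = (emb σ s).1 := rfl
    rw [show m = (Matrix.of fun i j => (⟨_, hent i j⟩ : F0 σ)) * s.1 * (Matrix.of fun i j => (⟨_, hent' i j⟩ : F0 σ))
      from rfl, Matrix.map_mul, Matrix.map_mul, e1, e2, e3, Matrix.mul_smul, Matrix.smul_mul, Matrix.smul_mul, smul_smul,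
      mul_inv_cancel₀ hμ, one_smul]
    rfl
  have hdet : m.det = 1 := by
    have h4 : (F0 σ).subtype m.det = 1 := by
      rw [RingHom.map_det]
      show (m.map (F0 σ).subtype).det = 1
      rw [hm]
      exact (g * emb σ s * g⁻¹).2
    exact (F0 σ).subtype_injective (by rw [h4, map_one])
  refine ⟨⟨m, hdet⟩, ?_⟩
  show pr (emb σ ⟨m, hdet⟩) = pr g * pr (emb σ s) * (pr g)⁻¹
  rw [← map_inv, ← map_mul, ← map_mul]
  congr 1
  apply Subtype.ext
  exact hm

theorem le_normalizer {σ : F ≃+* F} (h2 : σ * σ = 1) (h1 : σ ≠ 1) [CharP F 2] :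
    fix (fd σ) ≤ normalizer (L0 σ : Set (PK F)) := by
  intro k hk
  rw [mem_normalizer_iff]
  intro l
  constructor
  · exact fun hl => fix_conj h2 h1 hk hl
  · intro h
    have h3 := fix_conj h2 h1 (inv_mem hk) h
    have h4 : k⁻¹ * (k * l * k⁻¹) * k⁻¹⁻¹ = l := by group
    rwa [h4] at h3

/-- `L0` is isomorphic to `PSL₃(F0)` -/
theorem nonempty_equiv (σ : F ≃+* F) : Nonempty (↥(L0 σ) ≃* PK (F0 σ)) := by
  have h1 : (pr.comp (emb σ)).ker = center (Matrix.SpecialLinearGroup (Fin 3) (F0 σ)) := by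
    ext g
    rw [MonoidHom.mem_ker, MonoidHom.comp_apply, pr_eq_one_iff, Matrix.SpecialLinearGroup.mem_center_iff,
      Matrix.SpecialLinearGroup.mem_center_iff]
    constructor
    · rintro ⟨r, hr, hrg⟩
      have h3 : ∀ i j, (scalar (Fin 3) r : Matrix (Fin 3) (Fin 3) F) i j = (g.1 i j : F) := by
        intro i j
        rw [hrg, coe_emb]
      have h4 : r = (g.1 0 0 : F) := by
        rw [← h3 0 0]; simp
      refine ⟨g.1 0 0, ?_, ?_⟩
      · apply (F0 σ).subtype_injective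
        rw [map_pow, map_one]
        show (g.1 0 0 : F) ^ _ = 1
        rw [← h4]
        exact hr
      · ext i j
        rw [← h3 i j, h4]
        by_cases hij : i = j
        · subst hij; simp
        · simp [hij]
    · rintro ⟨r, hr, hrg⟩
      refine ⟨r, ?_, ?_⟩
      · have := congrArg (F0 σ).subtype hr
        rw [map_pow, map_one] at this
        exact this
      · ext i j
        rw [coe_emb, ← hrg]
        by_cases hij : i = j
        · subst hij; simp
        · simp [hij]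
  exact ⟨((QuotientGroup.quotientMulEquivOfEq h1.symm).trans
    (QuotientGroup.quotientKerEquivRange (pr.comp (emb σ)))).symm⟩

theorem transvection_mem (σ : F ≃+* F) {i j : Fin 3} (h : i ≠ j) : X h (1 : F) ∈ L0 σ := by
  refine ⟨Matrix.SpecialLinearGroup.transvection h 1, ?_⟩
  rw [X_eq]
  show pr (emb σ _) = _
  congr 1
  apply Subtype.ext
  ext r s
  have e1 : (Matrix.SpecialLinearGroup.transvection h (1 : F0 σ)).1 =
    (1 : Matrix (Fin 3) (Fin 3) (F0 σ)) + single i j 1 := rfl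
  have e2 : (Matrix.SpecialLinearGroup.transvection h (1 : F)).1 =
    (1 : Matrix (Fin 3) (Fin 3) F) + single i j 1 := rfl
  rw [coe_emb, e1, e2, Matrix.add_apply, Matrix.add_apply, one_apply, one_apply, single_apply, single_apply]
  split_ifs <;> simp

/-- `C(L0) = 1` -/
theorem centralizer_L0 (σ : F ≃+* F) : centralizer (L0 σ : Set (PK F)) = ⊥ := by
  rw [eq_bot_iff]
  intro k hk
  obtain ⟨c, rfl⟩ := pr_surjective k
  obtain ⟨C, hC⟩ : ∃ C : GL (Fin 3) F, (C : Matrix (Fin 3) (Fin 3) F) = c.1 ∧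
      ((C⁻¹ : GL (Fin 3) F) : Matrix (Fin 3) (Fin 3) F) = (c⁻¹).1 := ⟨⟨c.1, (c⁻¹).1, by
    rw [← Matrix.SpecialLinearGroup.coe_mul, mul_inv_cancel, Matrix.SpecialLinearGroup.coe_one], by
    rw [← Matrix.SpecialLinearGroup.coe_mul, inv_mul_cancel, Matrix.SpecialLinearGroup.coe_one]⟩, rfl, rfl⟩
  have hcj' : ∀ x, cj C x = c * x * c⁻¹ := by
    intro x
    apply Subtype.ext
    rw [coe_cj, hC.1, hC.2, Matrix.SpecialLinearGroup.coe_mul, Matrix.SpecialLinearGroup.coe_mul]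
  have h1 : ∀ (i j : Fin 3) (h : i ≠ j), (C : Matrix (Fin 3) (Fin 3) F) * single i j 1 =
      single i j 1 * (C : Matrix (Fin 3) (Fin 3) F) := by
    intro i j h
    apply cj_transvection_eq (hij := h) (hkl := h)
    rw [hcj', map_mul, map_mul, map_inv, mul_inv_eq_iff_eq_mul]
    exact (mem_centralizer_iff.1 hk _ (transvection_mem σ h)).symm
  have h2 : (C : Matrix (Fin 3) (Fin 3) F) ∈ Set.range (Matrix.scalar (Fin 3)) :=
    mem_range_scalar_of_commute_single fun i j hij => (h1 i j hij).symm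
  obtain ⟨r, hr⟩ := h2
  rw [mem_bot, pr_eq_one_iff, Matrix.SpecialLinearGroup.mem_center_iff]
  refine ⟨r, ?_, by rw [hr, hC.1]⟩
  have h3 := c.2
  rw [← hC.1, ← hr, scalar_apply, det_diagonal, Finset.prod_const, Finset.card_univ] at h3
  exact h3

/-- the order of the fixed field -/
theorem card_sq [Finite F] {σ : F ≃+* F} (h2 : σ * σ = 1) (h1 : σ ≠ 1) [CharP F 2] :
    Nat.card F = Nat.card (F0 σ) ^ 2 := by
  have hs : ∀ a, σ (σ a) = a := fun a => by
    have := congrArg (fun f : F ≃+* F => f a) h2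
    exact this
  obtain ⟨w, hw⟩ := exists_trace_one h2 h1
  let ψ : F →+ F := (σ : F →+ F) + AddMonoidHom.id F
  have hψ : ∀ a, ψ a = σ a + a := fun a => rfl
  have hker : ∀ a, a ∈ ψ.ker ↔ a ∈ F0 σ := by
    intro a
    rw [AddMonoidHom.mem_ker, hψ, mem_F0]
    constructor
    · intro h
      rw [add_eq_zero_iff_eq_neg, CharTwo.neg_eq] at h
      exact h
    · intro h
      rw [h, CharTwo.add_self_eq_zero]
  have hran : ∀ a, a ∈ ψ.range ↔ a ∈ F0 σ := by
    intro a
    constructor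
    · rintro ⟨b, rfl⟩
      rw [mem_F0, hψ, map_add, hs, add_comm]
    · intro ha
      refine ⟨a * w, ?_⟩
      rw [mem_F0] at ha
      rw [hψ, map_mul, ha, ← mul_add, add_comm, hw, mul_one]
  have hcard : Nat.card ψ.ker * Nat.card ψ.range = Nat.card F := by
    rw [← AddSubgroup.index_ker, AddSubgroup.card_mul_index]
  have e1 : Nat.card ψ.ker = Nat.card (F0 σ) :=
    Nat.card_congr (Equiv.subtypeEquivRight hker)
  have e2 : Nat.card ψ.range = Nat.card (F0 σ) :=
    Nat.card_congr (Equiv.subtypeEquivRight hran)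
  rw [← hcard, e1, e2, pow_two]

end Cfsg.Agent.UGT.C.LThreeFix
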