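import Mathlib
import Cfsg.Agent.UGT.C.LThreeFix
import Cfsg.Agent.UGT.C.Iface

/-!
# (KF2) for `L₃(q)`, `q` even
-/

set_option autoImplicit false

namespace Cfsg.Agent.UGT.C.LThreeKF

open Matrix Subgroup Cfsg
open Cfsg.Agent.StdRank2.OutL3 Cfsg.Agent.StdRank2.OutL3Rel Cfsg.Agent.StdRank2.OutL3Facts
open Cfsg.Agent.StdRank2.FrameLift
open Cfsg.Agent.ClassicalGeometry.AutPSL.Root Cfsg.Agent.ClassicalGeometry.AutPSL.SylowU
open Cfsg.Agent.ClassicalGeometry.AutPSL.Auto Cfsg.Agent.ClassicalGeometry.AutPSL.Main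
open Cfsg.Agent.UGT.C.LocBal Cfsg.Agent.UGT.C.LThreeBal Cfsg.Agent.UGT.C.LThreeComp Cfsg.Agent.UGT.C.LThreeFix
open Cfsg.Agent.Lib.ComponentSolvable Cfsg.Agent.SignalizersComponents.ComponentNormalize

universe u v

/-! ### generalities -/

/-- `CompIn` and injective homomorphisms -/
theorem compIn_map_iff {G : Type u} {G' : Type v} [Group G] [Group G'] (f : G →* G') (hf : Function.Injective f)
    {H M : Subgroup G} : CompIn (H.map f) (M.map f) ↔ CompIn H M := by
  have hle : M.map f ≤ H.map f ↔ M ≤ H := map_le_map_iff_of_injective hf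
  let e : ↥H ≃* ↥(H.map f) := H.equivMapOfInjective f hf
  have he : M ≤ H → (M.subgroupOf H).map e.toMonoidHom = (M.map f).subgroupOf (H.map f) := by
    intro hMH
    ext x
    constructor
    · rintro ⟨y, hy, rfl⟩
      rw [mem_subgroupOf]
      exact ⟨y, hy, rfl⟩
    · intro hx
      rw [mem_subgroupOf] at hx
      obtain ⟨m, hm, hmx⟩ := hx
      exact ⟨⟨m, hMH hm⟩, hm, Subtype.ext hmx⟩
  constructor
  · rintro ⟨h1, h2⟩
    have h3 := hle.1 h1
    refine ⟨h3, ?_⟩
    rw [← he h3] at h2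
    have h4 := component_map_equiv e.symm h2
    rw [Subgroup.map_map] at h4
    have h5 : e.symm.toMonoidHom.comp e.toMonoidHom = MonoidHom.id _ := by
      ext x; simp
    rwa [h5, Subgroup.map_id] at h4
  · rintro ⟨h1, h2⟩
    refine ⟨hle.2 h1, ?_⟩
    rw [← he h1]
    exact component_map_equiv e h2

theorem quot_center {A : Type*} {B : Type*} [Group A] [Group B] (e0 : A ≃* B) :
    Nonempty ((A ⧸ center A) ≃* (B ⧸ center B)) := by
  refine ⟨QuotientGroup.congr _ _ e0 ?_⟩
  ext x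
  constructor
  · rintro ⟨y, hy, rfl⟩
    rw [mem_center_iff]
    intro g
    have := mem_center_iff.1 hy (e0.symm g)
    have h3 := congrArg e0 this
    simpa using h3
  · intro hx
    refine ⟨e0.symm x, ?_, by simp⟩
    rw [SetLike.mem_coe, mem_center_iff]
    intro g
    apply e0.injective
    simpa using mem_center_iff.1 hx (e0 g)

/-- A quasisimple group normalising a 2-group which contains all its 2-elements has a simple quotient of odd order. -/
theorem odd_quot {X : Type*} [Group X] [Finite X] {M P : Subgroup X} (hM : IsQuasisimple M) (hP : IsPGroup 2 P)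
    (hMP : M ≤ normalizer (P : Set X)) (hsyl : ∀ m ∈ M, Is2 m → m ∈ P) : ¬ 2 ∣ Nat.card (M ⧸ center M) := by
  have : Fact (Nat.Prime 2) := ⟨Nat.prime_two⟩
  have hN : (P.subgroupOf M).Normal := by
    constructor
    intro x hx g
    rw [mem_subgroupOf] at hx ⊢
    exact (mem_normalizer_iff.1 (hMP g.2) _).1 hx
  have hNs : Group.IsSolvable ↥(P.subgroupOf M) := by
    have h1 : IsPGroup 2 ↥(P.subgroupOf M) := hP.comap_of_injective _ M.subtype_injective
    have := h1.isNilpotent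
    infer_instance
  have hle := quasisimple_solvable_normal_le_center hM hN hNs
  obtain ⟨T⟩ : Nonempty (Sylow 2 M) := inferInstance
  have hT : (T : Subgroup M) ≤ center M := by
    refine le_trans ?_ hle
    intro t ht
    rw [mem_subgroupOf]
    apply hsyl t t.2
    exact (Is2.of_mem T.isPGroup' ht).map M.subtype
  intro h
  apply T.not_dvd_index
  rw [← Subgroup.index_eq_card] at h
  exact h.trans (Subgroup.index_dvd_of_le hT)

variable {F : Type u} [Field F]

/-- `PSL₃(F)` is quasisimple -/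
theorem quasi : IsQuasisimple (PK F) := by
  have h1 : Group.IsPerfect (Matrix.SpecialLinearGroup (Fin 3) F) :=
    ⟨Cfsg.Agent.LieClassical.SLGen.commutator_eq_top (by simp)⟩
  refine ⟨Group.IsPerfect.ofSurjective (f := (pr : Matrix.SpecialLinearGroup (Fin 3) F →* PK F)) pr_surjective, ?_⟩
  have hs : IsSimpleGroup (PK F) := Cfsg.Agent.LieClassical.SLGen.psl_isSimpleGroup (by simp)
  have e : (PK F ⧸ center (PK F)) ≃* PK F :=
    (QuotientGroup.quotientMulEquivOfEq center_eq_bot).trans QuotientGroup.quotientBot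
  exact (MulEquiv.isSimpleGroup_congr e).2 hs

variable [Finite F] [CharP F 2]

/-- An involution of `PSL₃(F)` is not centralised by a quasisimple group of even order. -/
theorem not_cent {M : Subgroup (PK F)} (hM : IsQuasisimple M) (h2 : 2 ∣ Nat.card (M ⧸ center M)) {i : PK F}
    (hi : i * i = 1) (hMi : ∀ m ∈ M, m * i = i * m) : i = 1 := by
  have : Fact (Nat.Prime 2) := ⟨Nat.prime_two⟩
  by_contra h1
  obtain ⟨P, hP, hn, hmax⟩ := exists_P hi h1
  refine odd_quot hM hP (fun m hm => hn m (hMi m hm)) (fun m hm h => ?_) h2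
  obtain ⟨n, hn'⟩ := h
  apply hmax (zpowers m)
  · rw [IsPGroup.iff_card, Nat.card_zpowers]
    exact (Nat.dvd_prime_pow Nat.prime_two).1 (orderOf_dvd_of_pow_eq_one hn') |>.imp fun _ h => h.2
  · rw [zpowers_le]
    exact hn m (hMi m hm)
  · exact mem_zpowers m

/-- the centre of a quasisimple subgroup of even order has odd order -/
theorem odd_center {M : Subgroup (PK F)} (hM : IsQuasisimple M) (h2 : 2 ∣ Nat.card (M ⧸ center M)) :
    Odd (Nat.card (center M)) := by
  have : Fact (Nat.Prime 2) := ⟨Nat.prime_two⟩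
  rw [← Nat.not_even_iff_odd, even_iff_two_dvd]
  intro h
  obtain ⟨z, hz⟩ := exists_prime_orderOf_dvd_card' 2 h
  have hzz : z * z = 1 := by rw [← pow_two, ← hz, pow_orderOf_eq_one]
  have h3 := not_cent hM h2 (i := ((z : M) : PK F)) (by
    have := congrArg (fun z : center M => ((z : M) : PK F)) hzz
    exact this) (fun m hm => by
    have := mem_center_iff.1 z.2 ⟨m, hm⟩
    exact congrArg Subtype.val this)
  have h4 : z = 1 := Subtype.ext (Subtype.ext h3)
  rw [h4, orderOf_one] at hz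
  exact absurd hz (by norm_num)

omit [Finite F] in
theorem two_dvd {Q : Type*} [Group Q] [Finite Q] {F1 : Type*} [Field F1] [Finite F1] [CharP F1 2] (e : Q ≃* PK F1) :
    2 ∣ Nat.card Q := by
  have h1 : orderOf (pr (ut (1 : F1) 0 0)) = 2 := by
    apply orderOf_eq_prime
    · rw [pow_two, ← map_mul, ut_mul, ← ut_zero]
      congr 2 <;> simp [CharTwo.add_self_eq_zero]
    · rw [← ut_zero]
      intro h
      exact one_ne_zero (pr_ut_inj h).1
  have h2 : orderOf (e.symm (pr (ut (1 : F1) 0 0))) = 2 := by rw [MulEquiv.orderOf_eq, h1]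
  rw [← h2]
  exact orderOf_dvd_natCard _

omit [CharP F 2] in
/-- the 2-subgroup with a non-central involution -/
theorem exists_T {M : Subgroup (PK F)} (hZ : Odd (Nat.card (center M))) {F1 : Type*} [Field F1] [Finite F1]
    [CharP F1 2] (e : M ⧸ center M ≃* PK F1) :
    ∃ T : Subgroup (PK F), T ≤ M ∧ IsPGroup 2 T ∧ ∃ i ∈ T, ∃ s ∈ T, i * i = 1 ∧ i * s ≠ s * i := by
  have h := OddCover.of_center e hZ
  set f := e.toMonoidHom.comp (QuotientGroup.mk' (center M)) with hf
  have hP := isPGroup_Ubar (F := F1)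
  have h1 : Is2 (pr (ut (1 : F1) 0 0)) := Is2.of_mem hP (ut_mem_Ubar _ _ _)
  have h2 : Is2 (pr (ut (0 : F1) 1 0)) := Is2.of_mem hP (ut_mem_Ubar _ _ _)
  refine ⟨(h.up hP).map M.subtype, ?_, (h.isPGroup_up hP).map _, _,
    ⟨_, h.lift2_mem_up hP (ut_mem_Ubar 1 0 0), rfl⟩, _, ⟨_, h.lift2_mem_up hP (ut_mem_Ubar 0 1 0), rfl⟩, ?_, ?_⟩
  · rintro _ ⟨m, -, rfl⟩
    exact m.2
  · rw [← map_mul, ← h.lift2_mul hP (ut_mem_Ubar _ _ _) (ut_mem_Ubar _ _ _), ← map_mul, ut_mul]
    have : pr (ut (1 + 1 : F1) (0 + 0) (0 + 0 + 1 * 0)) = 1 := by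
      rw [← ut_zero]
      congr 2 <;> simp [CharTwo.add_self_eq_zero]
    rw [this, h.lift2_one, map_one]
  · intro h3
    have h4 := M.subtype_injective (by rw [map_mul, map_mul]; exact h3 :
      M.subtype (lift2 f (pr (ut (1 : F1) 0 0)) * lift2 f (pr (ut (0 : F1) 1 0))) =
      M.subtype (lift2 f (pr (ut (0 : F1) 1 0)) * lift2 f (pr (ut (1 : F1) 0 0))))
    have h5 := congrArg f h4
    rw [map_mul, map_mul, h.map_lift2 h1, h.map_lift2 h2, ← map_mul, ← map_mul, ut_mul, ut_mul] at h5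
    have h6 := (pr_ut_inj h5).2.2
    simp at h6

/-- **(KF2), conjugacy.** -/
theorem conj_fd {τ : MulAut (PK F)} (hτ : orderOf τ = 2) {M : Subgroup (PK F)} (hMq : IsQuasisimple M)
    (hMτ : M ≤ fix τ) {F1 : Type*} [Field F1] [Finite F1] [CharP F1 2] (e : M ⧸ center M ≃* PK F1) :
    (∀ k, τ ≠ MulAut.conj k) ∧ ∃ (β : MulAut (PK F)) (σ : F ≃+* F), σ * σ = 1 ∧ σ ≠ 1 ∧ β * τ * β⁻¹ = fd σ := by
  have hττ : τ * τ = 1 := by rw [← pow_two, ← hτ, pow_orderOf_eq_one]
  have h2 : 2 ∣ Nat.card (M ⧸ center M) := two_dvd e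
  have hinn : ∀ k, τ ≠ MulAut.conj k := by
    rintro k rfl
    have hk : k * k = 1 := by
      apply LThreeBal.conj_injective
      rw [map_mul, hττ, map_one]
    have h3 := not_cent hMq h2 hk (fun m hm => by
      have := hMτ hm
      rw [mem_fix, MulAut.conj_apply, mul_inv_eq_iff_eq_mul] at this
      exact this.symm)
    rw [h3, map_one, orderOf_one] at hτ
    exact absurd hτ (by norm_num)
  refine ⟨hinn, ?_⟩
  obtain ⟨T, hTM, hT, i, hi, s, hs, hii, his⟩ := exists_T (odd_center hMq h2) e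
  exact exists_conj_fd hττ hinn hT (fun t ht => hMτ (hTM ht)) hi hs hii his

omit [Finite F] in
/-- A component of the fixed points of a field automorphism of order 2 -/
theorem eq_L0 {σ : F ≃+* F} (h2 : σ * σ = 1) (h1 : σ ≠ 1) {M : Subgroup (PK F)} (hM : CompIn (fix (fd σ)) M) :
    M = L0 σ := by
  obtain ⟨hle, hc⟩ := hM
  have hR : ((L0 σ).subgroupOf (fix (fd σ))).Normal :=
    (normal_subgroupOf_iff_le_normalizer (L0_le σ)).2 (le_normalizer h2 h1)
  have hMne : M ≠ ⊥ := by
    rintro rfl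
    have h3 := quasisimple_nontrivial hc.2
    rw [bot_subgroupOf] at h3
    exact not_subsingleton ↥(⊥ : Subgroup ↥(fix (fd σ))) inferInstance
  rcases component_le_or_comm_of_le_normalizer hc (by rw [normalizer_eq_top]; exact le_top :
    M.subgroupOf (fix (fd σ)) ≤ normalizer ((L0 σ).subgroupOf (fix (fd σ)) : Set ↥(fix (fd σ)))) with h | h
  · have hML : M ≤ L0 σ := by
      intro m hm
      exact h (show (⟨m, hle hm⟩ : ↥(fix (fd σ))) ∈ M.subgroupOf (fix (fd σ)) from hm)
    obtain ⟨e⟩ := nonempty_equiv σ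
    have hq : IsQuasisimple ↥((L0 σ).subgroupOf (fix (fd σ))) :=
      quasisimple_congr ((Subgroup.subgroupOfEquivOfLe (L0_le σ)).trans e).symm quasi
    have hsn : ((M.subgroupOf (fix (fd σ))).subgroupOf ((L0 σ).subgroupOf (fix (fd σ)))).IsSubnormal :=
      hc.1.subgroupOf
    rcases quasisimple_subnormal_cases hq hsn with h3 | h3
    · apply le_antisymm hML
      intro l hl
      have h4 : (⟨⟨l, L0_le σ hl⟩, hl⟩ : ↥((L0 σ).subgroupOf (fix (fd σ)))) ∈
          (M.subgroupOf (fix (fd σ))).subgroupOf ((L0 σ).subgroupOf (fix (fd σ))) := by rw [h3]; trivial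
      exact h4
    · exfalso
      apply hMne
      rw [eq_bot_iff, ← centralizer_L0 σ]
      intro m hm
      rw [mem_centralizer_iff]
      intro l hl
      have h4 : (⟨⟨m, hle hm⟩, hML hm⟩ : ↥((L0 σ).subgroupOf (fix (fd σ)))) ∈ center _ := h3 hm
      have h5 := mem_center_iff.1 h4 ⟨⟨l, L0_le σ hl⟩, hl⟩
      exact congrArg (fun x : ↥((L0 σ).subgroupOf (fix (fd σ))) => ((x : ↥(fix (fd σ))) : PK F)) h5
  · exfalso
    apply hMne
    rw [eq_bot_iff, ← centralizer_L0 σ]
    intro m hm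
    rw [mem_centralizer_iff]
    intro l hl
    rw [commutator_eq_bot_iff_le_centralizer] at h
    have h4 := mem_centralizer_iff.1 (h (show (⟨m, hle hm⟩ : ↥(fix (fd σ))) ∈ M.subgroupOf (fix (fd σ)) from hm))
      ⟨l, L0_le σ hl⟩ hl
    exact congrArg Subtype.val h4

omit [Finite F] [CharP F 2] in
theorem map_fix (β τ : MulAut (PK F)) : (fix τ).map β.toMonoidHom = fix (β * τ * β⁻¹) := by
  ext x
  constructor
  · rintro ⟨y, hy, rfl⟩
    rw [mem_fix]
    show β (τ (β⁻¹ (β y))) = β y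
    rw [MulAut.inv_apply_self]
    congr 1
  · intro hx
    rw [mem_fix] at hx
    refine ⟨β⁻¹ x, ?_, MulAut.apply_inv_self _ _ _⟩
    show τ (β⁻¹ x) = β⁻¹ x
    apply β.injective
    rw [MulAut.apply_inv_self]
    exact hx

omit [Finite F] [CharP F 2] in
theorem transvection_mem' (σ : F ≃+* F) {i j : Fin 3} (h : i ≠ j) {c : F} (hc : σ c = c) : X h c ∈ L0 σ := by
  refine ⟨Matrix.SpecialLinearGroup.transvection h (⟨c, hc⟩ : F0 σ), ?_⟩
  rw [X_eq]
  show pr (emb σ _) = _
  congr 1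
  apply Subtype.ext
  ext r s
  have e1 : (Matrix.SpecialLinearGroup.transvection h (⟨c, hc⟩ : F0 σ)).1 =
    (1 : Matrix (Fin 3) (Fin 3) (F0 σ)) + single i j ⟨c, hc⟩ := rfl
  have e2 : (Matrix.SpecialLinearGroup.transvection h c).1 =
    (1 : Matrix (Fin 3) (Fin 3) F) + single i j c := rfl
  rw [coe_emb, e1, e2, Matrix.add_apply, Matrix.add_apply, one_apply, one_apply, single_apply, single_apply]
  split_ifs <;> simp

omit [Finite F] in
/-- the automorphisms over the fixed field -/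
theorem gal {σ : F ≃+* F} (h2 : σ * σ = 1) (h1 : σ ≠ 1) {ρ : F ≃+* F} (hρ : ∀ c, σ c = c → ρ c = c) :
    ρ = 1 ∨ ρ = σ := by
  have hs : ∀ a, σ (σ a) = a := fun a => by
    have := congrArg (fun f : F ≃+* F => f a) h2
    exact this
  obtain ⟨w, hw⟩ := exists_trace_one h2 h1
  have hw' : σ w = 1 + w := by
    rw [← hw, add_right_comm, CharTwo.add_self_eq_zero, zero_add]
  -- `w² + w + n = 0`
  have hn : ρ (w * σ w) = w * σ w := by
    apply hρ
    rw [map_mul, hs, mul_comm]
  rw [hw', map_mul, map_add, map_one] at hn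
  have hρw : ρ w = w ∨ ρ w = 1 + w := by
    have two : (2 : F) = 0 := CharTwo.two_eq_zero
    have h3 : (ρ w - w) * (ρ w - (1 + w)) = 0 := by
      linear_combination hn - ρ w * (w + 1) * two + w * (w + 1) * two
    rcases mul_eq_zero.1 h3 with h | h
    · exact Or.inl (sub_eq_zero.1 h)
    · exact Or.inr (sub_eq_zero.1 h)
  have hdec : ∀ y : F, ∃ a b : F, σ a = a ∧ σ b = b ∧ y = a + b * w := by
    intro y
    refine ⟨y + (y + σ y) * w, y + σ y, ?_, ?_, ?_⟩
    · rw [map_add, map_mul, map_add, hs, hw']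
      have two : (2 : F) = 0 := CharTwo.two_eq_zero
      linear_combination (σ y) * two
    · rw [map_add, hs, add_comm]
    · rw [add_assoc, CharTwo.add_self_eq_zero, add_zero]
  rcases hρw with h | h
  · left
    apply RingEquiv.ext
    intro y
    obtain ⟨a, b, ha, hb, rfl⟩ := hdec y
    rw [map_add, map_mul, hρ a ha, hρ b hb, h]
    rfl
  · right
    apply RingEquiv.ext
    intro y
    obtain ⟨a, b, ha, hb, rfl⟩ := hdec y
    rw [map_add, map_mul, hρ a ha, hρ b hb, h, map_add, map_mul, ha, hb, hw']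

/-- the automorphisms centralising `L0` -/
theorem aut_cent {σ : F ≃+* F} (h2 : σ * σ = 1) (h1 : σ ≠ 1) {α : MulAut (PK F)} (h : ∀ l ∈ L0 σ, α l = l) :
    α = 1 ∨ α = fd σ := by
  have : Fact (Nat.Prime 2) := ⟨Nat.prime_two⟩
  have := Fintype.ofFinite F
  rcases surj_three 2 le_rfl α with ⟨C, ρ, hC⟩ | ⟨C, ρ, hC⟩
  · have h01 : ∀ (i j : Fin 3) (_ : i ≠ j) (c : F), σ c = c →
        (C : Matrix (Fin 3) (Fin 3) F) * single i j (ρ c) = single i j c * (C : Matrix (Fin 3) (Fin 3) F) := by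
      intro i j hij c hc
      have h3 := h _ (transvection_mem' σ hij hc)
      rw [X_eq, hC, lift_pr, MulAut.mul_apply, fld_transvection] at h3
      exact cj_transvection_eq h3
    have h3 : (C : Matrix (Fin 3) (Fin 3) F) ∈ Set.range (Matrix.scalar (Fin 3)) :=
      mem_range_scalar_of_commute_single fun i j hij => by
        have := h01 i j hij 1 (map_one σ)
        rw [map_one] at this
        exact this.symm
    obtain ⟨r, hr⟩ := h3
    have hcj := cj_eq_one_of_scalar hr
    have hα : α = fd ρ := by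
      rw [hC, hcj, one_mul]
      rfl
    have hdet : (C : Matrix (Fin 3) (Fin 3) F).det ≠ 0 := by
      have h1 : IsUnit (C : Matrix (Fin 3) (Fin 3) F).det := (Matrix.isUnit_iff_isUnit_det _).1 C.isUnit
      exact h1.ne_zero
    have hr0 : r ≠ 0 := by
      rintro rfl
      apply hdet
      rw [← hr]
      simp
    have hρ : ∀ c, σ c = c → ρ c = c := by
      intro c hc
      have h3 := congrFun (congrFun (h01 0 1 (by decide) c hc) 0) 1
      rw [← hr] at h3
      have h4 : r * ρ c = c * r := by simpa using h3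
      rw [mul_comm c] at h4
      exact mul_left_cancel₀ hr0 h4
    rcases gal h2 h1 hρ with h3 | h3
    · left; rw [hα, h3, map_one]
    · right; rw [hα, h3]
  · exfalso
    have h01 : ∀ (i j : Fin 3) (hij : i ≠ j), (C : Matrix (Fin 3) (Fin 3) F) * single j i (ρ (-1)) =
        single i j 1 * (C : Matrix (Fin 3) (Fin 3) F) := by
      intro i j hij
      have h3 := h _ (transvection_mem' σ hij (map_one σ))
      rw [X_eq, hC, lift_pr, MulAut.mul_apply, MulAut.mul_apply, itr_transvection, fld_transvection] at h3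
      exact cj_transvection_eq h3
    have hdet : (C : Matrix (Fin 3) (Fin 3) F).det ≠ 0 := by
      have h1 : IsUnit (C : Matrix (Fin 3) (Fin 3) F).det := (Matrix.isUnit_iff_isUnit_det _).1 C.isUnit
      exact h1.ne_zero
    have a1 : (C : Matrix (Fin 3) (Fin 3) F) 2 1 = 0 := by
      simpa using (congrFun (congrFun (h01 0 2 (by decide)) 0) 1).symm
    have a2 : (C : Matrix (Fin 3) (Fin 3) F) 2 2 = 0 := by
      simpa using (congrFun (congrFun (h01 0 2 (by decide)) 0) 2).symm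
    have a3 : (C : Matrix (Fin 3) (Fin 3) F) 2 0 = 0 := by
      simpa using (congrFun (congrFun (h01 1 2 (by decide)) 1) 0).symm
    apply hdet
    rw [Matrix.det_fin_three, a1, a2, a3]
    ring

/-- the field is determined by the group -/
theorem card_eq {F1 : Type*} [Field F1] [Finite F1] [CharP F1 2] (e : PK F ≃* PK F1) : Nat.card F = Nat.card F1 := by
  have : Fact (Nat.Prime 2) := ⟨Nat.prime_two⟩
  have := Fintype.ofFinite F
  have := Fintype.ofFinite F1
  obtain ⟨S, hS⟩ := exists_sylow (F := F) 3 2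
  obtain ⟨S1, hS1⟩ := exists_sylow (F := F1) 3 2
  have h1 : Nat.card S = 2 ^ (Nat.card (PK F)).factorization 2 := Sylow.card_eq_multiplicity S
  have h2 : Nat.card S1 = 2 ^ (Nat.card (PK F1)).factorization 2 := Sylow.card_eq_multiplicity S1
  have h3 : Nat.card (PK F) = Nat.card (PK F1) := Nat.card_congr e.toEquiv
  rw [← h3, ← h1] at h2
  have h4 : Nat.card S = Fintype.card F ^ (3 * (3 - 1) / 2) := by
    rw [← card_map_upper, ← hS]
  have h5 : Nat.card S1 = Fintype.card F1 ^ (3 * (3 - 1) / 2) := by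
    rw [← card_map_upper, ← hS1]
  rw [h4, h5] at h2
  rw [Nat.card_eq_fintype_card, Nat.card_eq_fintype_card]
  exact (Nat.pow_left_injective (n := 3) (by norm_num) h2.symm)

/-- **(KF2) for `L₃(q)`**, on the level of `PSL₃(F)` -/
theorem kf2 {τ : MulAut (PK F)} (hτ : orderOf τ = 2) {M : Subgroup (PK F)} (hM : CompIn (fix τ) M)
    {F1 : Type*} [Field F1] [Finite F1] [CharP F1 2] (e : M ⧸ center M ≃* PK F1) :
    (∀ k, τ ≠ MulAut.conj k) ∧ (∃ F2 : Subfield F, Nat.card F = Nat.card F2 ^ 2 ∧ Nat.card F2 = Nat.card F1 ∧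
      Nonempty (M ≃* PK F2)) ∧ centralizer (M : Set (PK F)) = ⊥ ∧
      (∀ α : MulAut (PK F), (∀ m ∈ M, α m = m) → α = 1 ∨ α = τ) ∧ (∀ k ∈ fix τ, k ∈ normalizer (M : Set (PK F))) := by
  have hMq : IsQuasisimple M := quasisimple_congr (Subgroup.subgroupOfEquivOfLe hM.1) hM.2.2
  obtain ⟨hinn, β, σ, h2, h1, hβ⟩ := conj_fd hτ hMq hM.1 e
  have hL : M.map β.toMonoidHom = L0 σ := by
    apply eq_L0 h2 h1
    rw [← hβ, ← map_fix]
    exact (compIn_map_iff β.toMonoidHom β.injective).2 hM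
  obtain ⟨e1⟩ := nonempty_equiv σ
  have e2 : M ≃* PK (F0 σ) := ((M.equivMapOfInjective β.toMonoidHom β.injective).trans
    (MulEquiv.subgroupCongr hL)).trans e1
  have hch : CharP (F0 σ) 2 := ((F0 σ).subtype.charP_iff (F0 σ).subtype_injective 2).2 inferInstance
  have hmem : ∀ m, m ∈ M ↔ β m ∈ L0 σ := by
    intro m
    rw [← hL]
    constructor
    · exact fun hm => ⟨m, hm, rfl⟩
    · rintro ⟨m', hm', h⟩
      rwa [← β.injective h]
  refine ⟨hinn, ⟨F0 σ, card_sq h2 h1, ?_, ⟨e2⟩⟩, ?_, ?_, ?_⟩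
  · -- `PK (F0 σ) ≃ M ≃ M / Z(M) ≃ PK F1`
    have hZ : center M = ⊥ := by
      have h3 : (center M).map e2.toMonoidHom ≤ center (PK (F0 σ)) := by
        rintro _ ⟨z, hz, rfl⟩
        rw [mem_center_iff]
        intro g
        obtain ⟨m, rfl⟩ := e2.surjective g
        have := mem_center_iff.1 hz m
        show e2 m * e2 z = e2 z * e2 m
        rw [← map_mul, ← map_mul, this]
      rw [center_eq_bot, le_bot_iff, Subgroup.map_eq_bot_iff] at h3
      have h4 : e2.toMonoidHom.ker = ⊥ := (MonoidHom.ker_eq_bot_iff _).2 e2.injective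
      rw [h4] at h3
      exact le_bot_iff.1 h3
    have e3 : (M ⧸ center M) ≃* M := (QuotientGroup.quotientMulEquivOfEq hZ).trans QuotientGroup.quotientBot
    exact card_eq ((e2.symm.trans e3.symm).trans e)
  · rw [eq_bot_iff]
    intro k hk
    have h3 : β k ∈ centralizer (L0 σ : Set (PK F)) := by
      rw [mem_centralizer_iff]
      intro l hl
      obtain ⟨m, rfl⟩ := β.surjective l
      have := mem_centralizer_iff.1 hk m ((hmem m).2 hl)
      rw [← map_mul, ← map_mul, this]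
    rw [centralizer_L0, mem_bot] at h3
    rw [mem_bot]
    exact β.injective (by rw [h3, map_one])
  · intro α hα
    have h3 := aut_cent h2 h1 (α := β * α * β⁻¹) (by
      intro l hl
      obtain ⟨m, rfl⟩ := β.surjective l
      rw [MulAut.mul_apply, MulAut.mul_apply, MulAut.inv_apply_self, hα m ((hmem m).2 hl)])
    rcases h3 with h | h
    · left
      calc α = β⁻¹ * (β * α * β⁻¹) * β := by group
        _ = 1 := by rw [h]; group
    · right
      rw [← hβ] at h
      exact mul_left_cancel (mul_right_cancel h)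
  · intro k hk
    have h3 : β k ∈ fix (fd σ) := by
      rw [← hβ, ← map_fix]
      exact ⟨k, hk, rfl⟩
    have h4 := le_normalizer h2 h1 h3
    rw [mem_normalizer_iff] at h4 ⊢
    intro m
    rw [hmem, hmem, map_mul, map_mul, map_inv]
    exact h4 (β m)

omit [Finite F] [CharP F 2] in
theorem map_conj_fix (τ : MulAut (PK F)) : (fix τ).map (MulAut.conj : PK F →* MulAut (PK F)) =
    (MulAut.conj : PK F →* MulAut (PK F)).range ⊓ centralizer ({τ} : Set (MulAut (PK F))) := by
  have cinv : ∀ (α : MulAut (PK F)) (k : PK F), α * MulAut.conj k * α⁻¹ = MulAut.conj (α k) := by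
    intro α k
    apply MulEquiv.ext
    intro y
    rw [MulAut.mul_apply, MulAut.mul_apply, MulAut.conj_apply, MulAut.conj_apply, map_mul, map_mul, map_inv,
      MulAut.apply_inv_self]
  ext x
  rw [mem_inf]
  constructor
  · rintro ⟨k, hk, rfl⟩
    refine ⟨⟨k, rfl⟩, ?_⟩
    rw [mem_centralizer_singleton_iff, eq_comm, ← mul_inv_eq_iff_eq_mul, cinv]
    exact congrArg MulAut.conj hk
  · rintro ⟨⟨k, rfl⟩, hk⟩
    rw [mem_centralizer_singleton_iff, eq_comm, ← mul_inv_eq_iff_eq_mul, cinv] at hk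
    exact ⟨k, LThreeBal.conj_injective hk, rfl⟩

/-- **(KF2) for `L₃(q)`**, in `Aut(PSL₃(F))` -/
theorem kf2_aut {τ : MulAut (PK F)} (hτ : orderOf τ = 2) {M : Subgroup (MulAut (PK F))}
    (hM : CompIn ((MulAut.conj : PK F →* MulAut (PK F)).range ⊓ centralizer ({τ} : Set (MulAut (PK F)))) M)
    {F1 : Type*} [Field F1] [Finite F1] [CharP F1 2] (e : M ⧸ center M ≃* PK F1) :
    τ ∉ (MulAut.conj : PK F →* MulAut (PK F)).range ∧
      (∃ F2 : Subfield F, Nat.card F = Nat.card F2 ^ 2 ∧ Nat.card F2 = Nat.card F1 ∧ Nonempty (M ≃* PK F2)) ∧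
      (∀ α ∈ centralizer (M : Set (MulAut (PK F))), α = 1 ∨ α = τ) := by
  obtain ⟨M0, rfl⟩ : ∃ M0 : Subgroup (PK F), M = M0.map (MulAut.conj : PK F →* MulAut (PK F)) := by
    refine ⟨M.comap MulAut.conj, ?_⟩
    rw [Subgroup.map_comap_eq, inf_eq_right.2 (hM.1.trans inf_le_left)]
  rw [← map_conj_fix] at hM
  have hM0 := (compIn_map_iff _ LThreeBal.conj_injective).1 hM
  let e0 : M0 ≃* M0.map (MulAut.conj : PK F →* MulAut (PK F)) := M0.equivMapOfInjective _ LThreeBal.conj_injective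
  obtain ⟨e1⟩ := quot_center e0
  obtain ⟨h1, ⟨F2, h2, h3, ⟨e2⟩⟩, -, h5, -⟩ := kf2 hτ hM0 (e1.trans e)
  refine ⟨?_, ⟨F2, h2, h3, ⟨e0.symm.trans e2⟩⟩, ?_⟩
  · rintro ⟨k, hk⟩
    exact h1 k hk.symm
  · intro α hα
    apply h5
    intro m hm
    have h6 := mem_centralizer_iff.1 hα (MulAut.conj m) ⟨m, hm, rfl⟩
    apply LThreeBal.conj_injective
    apply MulEquiv.ext
    intro y
    have h7 := congrArg (fun β : MulAut (PK F) => β (α⁻¹ y)) h6
    simp only [MulAut.mul_apply, MulAut.conj_apply, MulAut.apply_inv_self, map_mul, map_inv] at h7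
    rw [MulAut.conj_apply, MulAut.conj_apply]
    exact h7.symm

/-! ### He, Suz, ON -/

theorem quasi_of_simple {Q : Type*} [Group Q] (hq : IsQuasisimple Q) : IsQuasisimple (Q ⧸ center Q) ∧
    center (Q ⧸ center Q) = ⊥ := by
  have := hq.1
  have hs := hq.2
  have h1 : center (Q ⧸ center Q) = ⊥ := by
    rcases hs.eq_bot_or_eq_top_of_normal (center (Q ⧸ center Q)) inferInstance with h | h
    · exact h
    · exfalso
      have hp : Group.IsPerfect (Q ⧸ center Q) := inferInstance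
      have h2 : _root_.commutator (Q ⧸ center Q) = ⊥ := by
        rw [_root_.commutator_eq_bot_iff_center_eq_top, h]
      rw [hp.commutator_eq_top] at h2
      have h3 : Nontrivial (Q ⧸ center Q) := hs.toNontrivial
      exact absurd h2.symm bot_ne_top
  refine ⟨⟨inferInstance, ?_⟩, h1⟩
  have e : ((Q ⧸ center Q) ⧸ center (Q ⧸ center Q)) ≃* (Q ⧸ center Q) :=
    (QuotientGroup.quotientMulEquivOfEq h1).trans QuotientGroup.quotientBot
  exact (MulEquiv.isSimpleGroup_congr e).2 hs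

/-- 2-elements generate 2-groups -/
theorem isPGroup_zpowers {X : Type*} [Group X] [Finite X] {x : X} (h : Is2 x) : IsPGroup 2 (zpowers x) := by
  have : Fact (Nat.Prime 2) := ⟨Nat.prime_two⟩
  obtain ⟨n, hn⟩ := h
  rw [IsPGroup.iff_card, Nat.card_zpowers]
  exact (Nat.dvd_prime_pow Nat.prime_two).1 (orderOf_dvd_of_pow_eq_one hn) |>.imp fun _ h => h.2

/-- Involution centralisers of `M / Z(M)` have no component of even order. -/
theorem no_comp {M : Subgroup (PK F)} (hM : IsQuasisimple M) (h2 : 2 ∣ Nat.card (M ⧸ center M))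
    {a : ↥M ⧸ center ↥M} (ha : orderOf a = 2) {L : Subgroup (↥M ⧸ center ↥M)}
    (hLa : L ≤ centralizer ({a} : Set (↥M ⧸ center ↥M))) (hL : IsQuasisimple L) :
    ¬ 2 ∣ Nat.card (L ⧸ center L) := by
  have h := OddCover.of_center (MulEquiv.refl (↥M ⧸ center ↥M)) (odd_center hM h2)
  set f := (MulEquiv.refl (↥M ⧸ center ↥M)).toMonoidHom.comp (QuotientGroup.mk' (center M)) with hf
  have haa : a * a = 1 := by rw [← pow_two, ← ha, pow_orderOf_eq_one]
  have ha2 : Is2 a := is2_of_sq haa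
  set i : M := lift2 f a with hi
  have hfi : f i = a := h.map_lift2 ha2
  have hi2 : Is2 i := h.is2_lift2 ha2
  have hii : i * i = 1 := by
    apply h.eq_of_map_eq (a := i * i) (b := 1) _ is2_one
    · rw [map_mul, hfi, haa, map_one]
    · obtain ⟨n, hn⟩ := hi2
      exact ⟨n, by rw [← pow_two, ← pow_mul, mul_comm, pow_mul, hn, one_pow]⟩
  have hi1 : (i : PK F) ≠ 1 := by
    intro h1
    have h3 : i = 1 := Subtype.ext h1
    rw [← hfi, h3, map_one, orderOf_one] at ha
    exact absurd ha (by norm_num)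
  obtain ⟨P, hP, hn, hmax⟩ := exists_P (congrArg Subtype.val hii : (i : PK F) * i = 1) hi1
  -- centralisers lift
  have hcent : ∀ m : M, f m ∈ centralizer ({a} : Set (↥M ⧸ center ↥M)) → (m : PK F) * i = i * m := by
    intro m hm
    rw [mem_centralizer_singleton_iff] at hm
    have h3 : m * i * m⁻¹ = i := by
      apply h.eq_of_map_eq (hi2.conj m) hi2
      rw [map_mul, map_mul, map_inv, hfi, hm, mul_inv_cancel_right]
    have h4 : m * i = i * m := by rw [← mul_inv_eq_iff_eq_mul, h3]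
    exact congrArg Subtype.val h4
  refine odd_quot (P := (P.subgroupOf M).map f) hL ((hP.comap_of_injective _ M.subtype_injective).map f) ?_ ?_
  · intro c hc
    obtain ⟨m, rfl⟩ := h.surj c
    have h3 := hn m (hcent m (hLa hc))
    rw [mem_normalizer_iff] at h3 ⊢
    intro x
    constructor
    · rintro ⟨y, hy, rfl⟩
      exact ⟨m * y * m⁻¹, (h3 y).1 hy, by rw [map_mul, map_mul, map_inv]⟩
    · rintro ⟨y, hy, hyx⟩
      refine ⟨m⁻¹ * y * m, ?_, ?_⟩
      · show ((m⁻¹ * y * m : M) : PK F) ∈ P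
        rw [h3]
        have : (m : PK F) * ((m⁻¹ * y * m : M) : PK F) * (m : PK F)⁻¹ = (y : PK F) := by
          rw [Subgroup.coe_mul, Subgroup.coe_mul, Subgroup.coe_inv]; group
        rw [this]
        exact hy
      · rw [map_mul, map_mul, map_inv, hyx]; group
  · intro q hq hq2
    refine ⟨lift2 f q, ?_, h.map_lift2 hq2⟩
    show ((lift2 f q : M) : PK F) ∈ P
    have h3 := hcent (lift2 f q) (by rw [h.map_lift2 hq2]; exact hLa hq)
    have h4 : Is2 ((lift2 f q : M) : PK F) := (h.is2_lift2 hq2).map M.subtype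
    apply hmax _ (isPGroup_zpowers h4) _ (mem_zpowers _)
    rw [zpowers_le]
    exact hn _ h3

theorem spor_congr {X Y : Type*} [Group X] [Group Y] (e : X ≃* Y)
    (h : Spor.IsoHe X ∨ Spor.IsoSuz X ∨ Spor.IsoON X) : Spor.IsoHe Y ∨ Spor.IsoSuz Y ∨ Spor.IsoON Y := by
  rcases h with ⟨⟨f⟩⟩ | ⟨⟨f⟩⟩ | ⟨⟨f⟩⟩
  · exact Or.inl ⟨e.symm.trans f⟩
  · exact Or.inr (Or.inl ⟨e.symm.trans f⟩)
  · exact Or.inr (Or.inr ⟨e.symm.trans f⟩)

theorem charP_of_card {F : Type*} [Field F] [Fintype F] {k : ℕ} (h : Fintype.card F = 4 ^ (2 ^ k)) : CharP F 2 := by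
  have h1 : Fintype.card F = 2 ^ (2 * 2 ^ k) := by rw [h, pow_mul]; norm_num
  obtain ⟨p, hp⟩ := CharP.exists F
  have hpp : Fact p.Prime := ⟨(CharP.char_is_prime F p)⟩
  obtain ⟨n, hn, hn'⟩ := FiniteField.card F p
  rw [h1] at hn'
  have h2 : p ∣ 2 ^ (2 * 2 ^ k) := by rw [hn']; exact dvd_pow_self p n.ne_zero
  have h3 := (Nat.prime_dvd_prime_iff_eq hpp.out Nat.prime_two).1 (hpp.out.dvd_of_dvd_pow h2)
  rwa [← h3]

/-- the family consists of groups of even order -/
theorem two_dvd_of_inLL (hin : FactInner.{u}) {Q : Type u} [Group Q] [Finite Q] (hs : IsSimpleGroup Q)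
    (hc : center Q = ⊥) (hp : Group.IsPerfect Q) (h : InLL Q) : 2 ∣ Nat.card Q := by
  rcases h with ⟨F1, i1, i2, k, hk, ⟨e⟩⟩ | h
  · have := charP_of_card hk
    exact two_dvd e
  · have e : (Q ⧸ center Q) ≃* Q := (QuotientGroup.quotientMulEquivOfEq hc).trans QuotientGroup.quotientBot
    have hq : IsQuasisimple Q := ⟨hp, (MulEquiv.isSimpleGroup_congr e).2 hs⟩
    obtain ⟨a, -, ha, -⟩ := hin Q hq (by rw [hc]; exact IsPGroup.of_bot) (spor_congr e.symm h)
    rw [← ha]
    exact orderOf_dvd_natCard a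

/-- **(KF2) for `L₃(q)`: no He, Suz, ON.** -/
theorem not_spor (hin : FactInner.{u}) {M : Subgroup (PK F)} (hM : IsQuasisimple M) :
    ¬ (Spor.IsoHe (↥M ⧸ center ↥M) ∨ Spor.IsoSuz (↥M ⧸ center ↥M) ∨ Spor.IsoON (↥M ⧸ center ↥M)) := by
  intro hX
  obtain ⟨hq, hc⟩ := quasi_of_simple hM
  have e : ((↥M ⧸ center ↥M) ⧸ center (↥M ⧸ center ↥M)) ≃* (↥M ⧸ center ↥M) :=
    (QuotientGroup.quotientMulEquivOfEq hc).trans QuotientGroup.quotientBot
  obtain ⟨a, L, ha, hL, hLL⟩ := hin (↥M ⧸ center ↥M) hq (by rw [hc]; exact IsPGroup.of_bot) (spor_congr e.symm hX)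
  have h2 : 2 ∣ Nat.card (↥M ⧸ center ↥M) := by rw [← ha]; exact orderOf_dvd_natCard a
  have hLq : IsQuasisimple L := quasisimple_congr (Subgroup.subgroupOfEquivOfLe hL.1) hL.2.2
  obtain ⟨hLq1, hLc⟩ := quasi_of_simple hLq
  exact no_comp hM h2 ha hL.1 hLq (two_dvd_of_inLL hin hLq.2 hLc hLq1.1 hLL)

/-! ### the abstract form -/

/-- transport to an isomorphic group -/
theorem congr_compIn {D : Type u} {E : Type v} [Group D] [Group E] (d : D ≃* E) {τ : MulAut D}
    {M : Subgroup (MulAut D)}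
    (hM : CompIn ((MulAut.conj : D →* MulAut D).range ⊓ centralizer ({τ} : Set (MulAut D))) M) :
    CompIn ((MulAut.conj : E →* MulAut E).range ⊓ centralizer ({MulAut.congr d τ} : Set (MulAut E)))
      (M.map (MulAut.congr d).toMonoidHom) := by
  have h1 := (compIn_map_iff (MulAut.congr d).toMonoidHom (MulAut.congr d).injective).2 hM
  have h3 : ∀ x : D, MulAut.congr d (MulAut.conj x) = MulAut.conj (d x) := by
    intro x
    apply MulEquiv.ext
    intro y
    show d (x * d.symm y * x⁻¹) = d x * y * (d x)⁻¹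
    rw [map_mul, map_mul, map_inv, d.apply_symm_apply]
  have h2 : ((MulAut.conj : D →* MulAut D).range ⊓ centralizer ({τ} : Set (MulAut D))).map
      (MulAut.congr d).toMonoidHom =
      (MulAut.conj : E →* MulAut E).range ⊓ centralizer ({MulAut.congr d τ} : Set (MulAut E)) := by
    ext x
    rw [mem_inf]
    constructor
    · rintro ⟨y, ⟨⟨z, rfl⟩, hy⟩, rfl⟩
      refine ⟨⟨d z, (h3 z).symm⟩, ?_⟩
      have hy' := mem_centralizer_singleton_iff.1 hy
      rw [mem_centralizer_singleton_iff]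
      have := congrArg (MulAut.congr d) hy'
      rwa [map_mul, map_mul] at this
    · rintro ⟨⟨z, rfl⟩, hy⟩
      refine ⟨MulAut.conj (d.symm z), mem_inf.2 ⟨⟨_, rfl⟩, ?_⟩, ?_⟩
      · rw [mem_centralizer_singleton_iff] at hy ⊢
        apply (MulAut.congr d).injective
        rw [map_mul, map_mul, h3, d.apply_symm_apply]
        exact hy
      · show MulAut.congr d (MulAut.conj (d.symm z)) = _
        rw [h3, d.apply_symm_apply]
  rwa [h2] at h1

/-- **(KF2), row `L₃(q)`, `q` even (case `M / Z(M) ≅ L₃(q₁)`, no hypothesis).** -/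
theorem kf2_L3 {D : Type u} [Group D] {F : Type v} [Field F] [Finite F] [CharP F 2] (d : D ≃* PK F)
    {τ : MulAut D} (hτ : orderOf τ = 2) {M : Subgroup (MulAut D)}
    (hM : CompIn ((MulAut.conj : D →* MulAut D).range ⊓ centralizer ({τ} : Set (MulAut D))) M)
    {F1 : Type*} [Field F1] [Finite F1] [CharP F1 2] (e : ↥M ⧸ center ↥M ≃* PK F1) :
    τ ∉ (MulAut.conj : D →* MulAut D).range ∧
      (∃ F2 : Subfield F, Nat.card F = Nat.card F2 ^ 2 ∧ Nat.card F2 = Nat.card F1 ∧ Nonempty (M ≃* PK F2)) ∧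
      (∀ α ∈ centralizer (M : Set (MulAut D)), α = 1 ∨ α = τ) := by
  have hM' := congr_compIn d hM
  let e0 : M ≃* M.map (MulAut.congr d).toMonoidHom := M.equivMapOfInjective _ (MulAut.congr d).injective
  obtain ⟨e1⟩ := quot_center e0
  have hτ' : orderOf (MulAut.congr d τ) = 2 := by rw [MulEquiv.orderOf_eq, hτ]
  obtain ⟨h1, ⟨F2, h2, h3, ⟨e2⟩⟩, h5⟩ := kf2_aut hτ' hM' (e1.symm.trans e)
  refine ⟨?_, ⟨F2, h2, h3, ⟨e0.trans e2⟩⟩, ?_⟩
  · rintro ⟨k, hk⟩
    apply h1
    refine ⟨d k, ?_⟩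
    rw [← hk]
    apply MulEquiv.ext
    intro y
    show d k * y * (d k)⁻¹ = d (k * d.symm y * k⁻¹)
    rw [map_mul, map_mul, map_inv, d.apply_symm_apply]
  · intro α hα
    have h6 := h5 (MulAut.congr d α) (by
      rw [mem_centralizer_iff]
      rintro _ ⟨m, hm, rfl⟩
      show MulAut.congr d m * MulAut.congr d α = MulAut.congr d α * MulAut.congr d m
      rw [← map_mul, ← map_mul, mem_centralizer_iff.1 hα m hm])
    rcases h6 with h | h
    · left
      exact (MulAut.congr d).injective (by rw [h, map_one])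
    · right
      exact (MulAut.congr d).injective h

/-- **(KF2), row `L₃(q)`, `q` even.** -/
theorem kf2_LL (hin : FactInner.{0}) {D : Type u} [Group D] {F : Type} [Field F] [Fintype F] [CharP F 2]
    (d : D ≃* PK F) {τ : MulAut D} (hτ : orderOf τ = 2) {M : Subgroup (MulAut D)}
    (hM : CompIn ((MulAut.conj : D →* MulAut D).range ⊓ centralizer ({τ} : Set (MulAut D))) M)
    (hL : InLL (↥M ⧸ center ↥M)) :
    τ ∉ (MulAut.conj : D →* MulAut D).range ∧
      (∃ (F2 : Type) (_ : Field F2) (_ : Fintype F2) (k : ℕ), Fintype.card F2 = 4 ^ (2 ^ k) ∧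
        Fintype.card F = Fintype.card F2 ^ 2 ∧ Nonempty (M ≃* Matrix.ProjectiveSpecialLinearGroup (Fin 3) F2)) ∧
      (∀ α ∈ centralizer (M : Set (MulAut D)), α = 1 ∨ α = τ) := by
  rcases hL with ⟨F1, i1, i2, k, hk, ⟨e⟩⟩ | hX
  · have := charP_of_card hk
    obtain ⟨h1, ⟨F2, h2, h3, ⟨e2⟩⟩, h5⟩ := kf2_L3 d hτ hM e
    have := Fintype.ofFinite F2
    refine ⟨h1, ⟨F2, inferInstance, this, k, ?_, ?_, ⟨e2⟩⟩, h5⟩
    · rw [← hk, ← Nat.card_eq_fintype_card, h3, Nat.card_eq_fintype_card]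
    · rw [← Nat.card_eq_fintype_card, h2, Nat.card_eq_fintype_card]
  · exfalso
    have hM' := congr_compIn d hM
    obtain ⟨M0, hM0⟩ : ∃ M0 : Subgroup (PK F), M.map (MulAut.congr d).toMonoidHom =
        M0.map (MulAut.conj : PK F →* MulAut (PK F)) := by
      refine ⟨(M.map (MulAut.congr d).toMonoidHom).comap MulAut.conj, ?_⟩
      rw [Subgroup.map_comap_eq, inf_eq_right.2 (hM'.1.trans inf_le_left)]
    let e0 : M ≃* M0 := ((M.equivMapOfInjective (MulAut.congr d).toMonoidHom (MulAut.congr d).injective).trans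
      (MulEquiv.subgroupCongr hM0)).trans (M0.equivMapOfInjective _ LThreeBal.conj_injective).symm
    obtain ⟨e1⟩ := quot_center e0
    have hMq : IsQuasisimple M := quasisimple_congr (Subgroup.subgroupOfEquivOfLe hM.1) hM.2.2
    exact not_spor hin (quasisimple_congr e0 hMq) (spor_congr e1 hX)

/-- **(KF2), row `L₃(4)`: nothing.** -/
theorem kf2_L34 (hin : FactInner.{0}) {D : Type u} [Group D] (hD : IsL34 D) {τ : MulAut D} (hτ : orderOf τ = 2)
    {M : Subgroup (MulAut D)}
    (hM : CompIn ((MulAut.conj : D →* MulAut D).range ⊓ centralizer ({τ} : Set (MulAut D))) M) :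
    ¬ InLL (↥M ⧸ center ↥M) := by
  intro hL
  obtain ⟨F, i1, i2, hF, ⟨d⟩⟩ := hD
  have : CharP F 2 := charP_of_card (k := 0) (by rw [hF]; norm_num)
  obtain ⟨-, ⟨F2, i3, i4, k, hk, hq, -⟩, -⟩ := kf2_LL hin d hτ hM hL
  rw [hF] at hq
  have h1 : 4 ≤ Fintype.card F2 := by
    rw [hk]
    calc 4 = 4 ^ 1 := by norm_num
      _ ≤ 4 ^ 2 ^ k := Nat.pow_le_pow_right (by norm_num) Nat.one_le_two_pow
  have h2 : 16 ≤ Fintype.card F2 ^ 2 := by
    calc 16 = 4 ^ 2 := by norm_num
      _ ≤ _ := Nat.pow_le_pow_left h1 2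
  omega

theorem core_bot_of_equiv {A : Type*} {B : Type*} [Group A] [Group B] [Finite A] [Finite B] (φ : A ≃* B) {x : B}
    (h : centralizerPPrimeCore 2 (φ.symm x) = ⊥) : centralizerPPrimeCore 2 x = ⊥ := by
  have : Fact (Nat.Prime 2) := ⟨Nat.prime_two⟩
  have h1 : (centralizerPPrimeCore 2 x).map φ.symm.toMonoidHom ≤ centralizerPPrimeCore 2 (φ.symm x) := by
    apply Lib.CoreCent.le_core
    · rintro _ ⟨y, hy, rfl⟩
      have h2 := mem_centralizer_singleton_iff.1 (Lib.CoreCent.core_le 2 x hy)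
      rw [mem_centralizer_singleton_iff]
      show φ.symm y * φ.symm x = φ.symm x * φ.symm y
      rw [← map_mul, ← map_mul, h2]
    · intro c hc
      rw [mem_centralizer_singleton_iff] at hc
      have h2 : φ c ∈ centralizer ({x} : Set B) := by
        rw [mem_centralizer_singleton_iff]
        have := congrArg φ hc
        rwa [map_mul, map_mul, φ.apply_symm_apply] at this
      have h3 := mem_normalizer_iff.1 (Lib.CoreCent.core_normalized 2 x h2)
      rw [mem_normalizer_iff]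
      intro y
      constructor
      · rintro ⟨z, hz, rfl⟩
        refine ⟨φ c * z * (φ c)⁻¹, (h3 z).1 hz, ?_⟩
        show φ.symm (φ c * z * (φ c)⁻¹) = c * φ.symm z * c⁻¹
        rw [map_mul, map_mul, map_inv, φ.symm_apply_apply]
      · rintro ⟨z, hz, hzy⟩
        have hzy' : φ.symm z = c * y * c⁻¹ := hzy
        refine ⟨φ y, ?_, φ.symm_apply_apply y⟩
        rw [SetLike.mem_coe, h3]
        have h4 : φ c * φ y * (φ c)⁻¹ = z := by
          rw [← map_inv, ← map_mul, ← map_mul, ← hzy', φ.apply_symm_apply]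
        rw [h4]
        exact hz
    · rw [Subgroup.card_map_of_injective φ.symm.injective]
      exact Lib.CoreCent.core_card 2 x
  rw [h, le_bot_iff, Subgroup.map_eq_bot_iff] at h1
  have h4 : φ.symm.toMonoidHom.ker = ⊥ := (MonoidHom.ker_eq_bot_iff _).2 φ.symm.injective
  rw [h4] at h1
  exact le_bot_iff.1 h1

theorem isLocallyBalanced_congr {D : Type*} {E : Type*} [Group D] [Group E] [Finite D] (d : D ≃* E)
    (h : IsLocallyBalanced E) : IsLocallyBalanced D := by
  have : Finite E := Finite.of_equiv D d.toEquiv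
  intro H hH x hx
  have h3 : ∀ x : D, MulAut.congr d (MulAut.conj x) = MulAut.conj (d x) := by
    intro x
    apply MulEquiv.ext
    intro y
    show d (x * d.symm y * x⁻¹) = d x * y * (d x)⁻¹
    rw [map_mul, map_mul, map_inv, d.apply_symm_apply]
  let φ : ↥H ≃* ↥(H.map (MulAut.congr d).toMonoidHom) :=
    H.equivMapOfInjective (MulAut.congr d).toMonoidHom (MulAut.congr d).injective
  have h4 : (MulAut.conj : E →* MulAut E).range ≤ H.map (MulAut.congr d).toMonoidHom := by
    rintro _ ⟨z, rfl⟩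
    refine ⟨MulAut.conj (d.symm z), hH ⟨_, rfl⟩, ?_⟩
    show MulAut.congr d (MulAut.conj (d.symm z)) = _
    rw [h3, d.apply_symm_apply]
  refine core_bot_of_equiv φ.symm (h _ h4 _ ?_)
  show orderOf (φ x) = 2
  rw [MulEquiv.orderOf_eq, hx]

/-- **(KF4), row `L₃(q)`, `q = 4^(2^k) ≥ 16`.** -/
theorem locallyBalanced_of_isL3Big {D : Type u} [Group D] (hD : IsL3Big D) : IsLocallyBalanced D := by
  obtain ⟨F, i1, i2, k, hk, hF, ⟨d⟩⟩ := hD
  have := charP_of_card hF
  have : Finite D := Finite.of_equiv _ d.symm.toEquiv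
  apply isLocallyBalanced_congr d
  apply isLocallyBalanced
  rw [Nat.card_eq_fintype_card, hF]
  have h1 : 2 ≤ 2 ^ k := by
    calc 2 = 2 ^ 1 := by norm_num
      _ ≤ 2 ^ k := Nat.pow_le_pow_right (by norm_num) hk
  calc 8 ≤ 4 ^ 2 := by norm_num
    _ ≤ 4 ^ (2 ^ k) := Nat.pow_le_pow_right (by norm_num) h1

end Cfsg.Agent.UGT.C.LThreeKF
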