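import Cfsg.Agent.HN.PC

/-!
# Multiplication tables of polycyclic 2-groups (helper88)

`s 0, …, s (n-1)` with `s k * s k` a word in the `s j`, `j < k`, and `s k * s i = word * s k`. `ev s n x` is the product
(ascending) of the `s i` over the bits `i` of `x`. A table `R` with the rules `UpRule`, `SqRule`, `CjRule` gives the
right multiplications: `ev x * s i = ev (R x i)`.
-/

set_option autoImplicit false

namespace Cfsg.Agent.UGT.C.PcTab

open Cfsg.Agent.HN.PC

variable {G : Type*} [Group G]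

/-- the product of the `s i`, `i < k` a bit of `x`, ascending -/
def ev (s : ℕ → G) (x : ℕ) : ℕ → G
  | 0 => 1
  | k + 1 => ev s x k * (bif x.testBit k then s k else 1)

/-- iterated right multiplication -/
def run (R : ℕ → ℕ → ℕ) (x : ℕ) : List ℕ → ℕ
  | [] => x
  | i :: L => run R (R x i) L

/-- multiplication of codes -/
def mulk (R : ℕ → ℕ → ℕ) (x y : ℕ) : ℕ → ℕ
  | 0 => x
  | k + 1 => bif y.testBit k then R (mulk R x y k) k else mulk R x y k

/-- the relations -/
structure Rels (s : ℕ → G) (n : ℕ) (sq : ℕ → List ℕ) (cj : ℕ → ℕ → List ℕ) : Prop where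
  rsq : ∀ k < n, s k * s k = ((sq k).map s).prod
  rcj : ∀ k < n, ∀ i < k, s k * s i = ((cj k i).map s).prod * s k
  sq_lt : ∀ k < n, ∀ j ∈ sq k, j < k
  cj_lt : ∀ k < n, ∀ i < k, ∀ j ∈ cj k i, j < k

/-- the rules of the table -/
structure Rules (R : ℕ → ℕ → ℕ) (n : ℕ) (sq : ℕ → List ℕ) (cj : ℕ → ℕ → List ℕ) : Prop where
  up : ∀ k < n, ∀ x < 2 ^ k, R x k = x + 2 ^ k
  tsq : ∀ k < n, ∀ x < 2 ^ k, R (x + 2 ^ k) k = run R x (sq k)
  tcj : ∀ k < n, ∀ x < 2 ^ k, ∀ i < k, R (x + 2 ^ k) i = run R x (cj k i) + 2 ^ k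

theorem testBit_top {k x : ℕ} (h : x < 2 ^ k) : (x + 2 ^ k).testBit k = true := by
  rw [add_comm, Nat.testBit_two_pow_add_eq, Nat.testBit_lt_two_pow h]; rfl

theorem testBit_low {k x j : ℕ} (hj : j < k) : (x + 2 ^ k).testBit j = x.testBit j := by
  rw [add_comm]
  exact Nat.testBit_two_pow_add_gt hj x

theorem ev_low (s : ℕ → G) (x k : ℕ) : ∀ j ≤ k, ev s (x + 2 ^ k) j = ev s x j
  | 0, _ => rfl
  | j + 1, h => by
    show ev s (x + 2 ^ k) j * _ = ev s x j * _
    rw [ev_low s x k j (by omega), testBit_low (by omega)]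

theorem ev_succ_low (s : ℕ → G) {x k : ℕ} (h : x < 2 ^ k) : ev s x (k + 1) = ev s x k := by
  show ev s x k * _ = _
  rw [Nat.testBit_lt_two_pow h]
  exact mul_one _

theorem ev_succ_top (s : ℕ → G) {x k : ℕ} (h : x < 2 ^ k) : ev s (x + 2 ^ k) (k + 1) = ev s x k * s k := by
  show ev s (x + 2 ^ k) k * _ = _
  rw [testBit_top h, ev_low s x k k le_rfl]
  rfl

/-- codes below `2^k` stay the same in larger groups -/
theorem ev_le (s : ℕ → G) {x k : ℕ} (h : x < 2 ^ k) : ∀ n, k ≤ n → ev s x n = ev s x k := by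
  intro n hn
  induction n, hn using Nat.le_induction with
  | base => rfl
  | succ m hm ih => rw [ev_succ_low s (h.trans_le (Nat.pow_le_pow_right (by norm_num) hm)), ih]

theorem ev_mem (s : ℕ → G) (x : ℕ) : ∀ k, ev s x k ∈ Pc s k
  | 0 => (Pc s 0).one_mem
  | k + 1 => by
    refine (Pc s (k + 1)).mul_mem (Pc_mono (Nat.le_succ k) (ev_mem s x k)) ?_
    cases x.testBit k
    · exact (Pc s (k + 1)).one_mem
    · exact mem_Pc (Nat.lt_succ_self k)

theorem run_spec {R : ℕ → ℕ → ℕ} {s : ℕ → G} {k : ℕ}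
    (ih : ∀ x < 2 ^ k, ∀ i < k, R x i < 2 ^ k ∧ ev s x k * s i = ev s (R x i) k) (L : List ℕ)
    (hL : ∀ j ∈ L, j < k) : ∀ x < 2 ^ k, run R x L < 2 ^ k ∧ ev s x k * (L.map s).prod = ev s (run R x L) k := by
  induction L with
  | nil => intro x hx; exact ⟨hx, by simp [run]⟩
  | cons i L ihL =>
    intro x hx
    obtain ⟨h1, h2⟩ := ih x hx i (hL i (by simp))
    obtain ⟨h3, h4⟩ := ihL (fun j hj => hL j (by simp [hj])) _ h1
    refine ⟨h3, ?_⟩
    rw [List.map_cons, List.prod_cons, ← mul_assoc, h2, h4]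
    rfl

/-- **The table gives the right multiplications.** -/
theorem ev_R {R : ℕ → ℕ → ℕ} {s : ℕ → G} {n : ℕ} {sq : ℕ → List ℕ} {cj : ℕ → ℕ → List ℕ} (H : Rels s n sq cj)
    (T : Rules R n sq cj) :
    ∀ k ≤ n, ∀ x < 2 ^ k, ∀ i < k, R x i < 2 ^ k ∧ ev s x k * s i = ev s (R x i) k := by
  intro k
  induction k with
  | zero => intro _ x _ i hi; omega
  | succ k ih =>
    intro hk x hx i hi
    have ih := ih (by omega)
    have hp : 2 ^ (k + 1) = 2 ^ k + 2 ^ k := by rw [pow_succ]; ring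
    have hp0 : 0 < 2 ^ k := by positivity
    rcases Nat.lt_or_ge x (2 ^ k) with h1 | h1
    · rcases Nat.lt_or_ge i k with h2 | h2
      · obtain ⟨h3, h4⟩ := ih x h1 i h2
        exact ⟨by omega, by rw [ev_succ_low s h1, ev_succ_low s h3, h4]⟩
      · have : i = k := by omega
        subst this
        rw [T.up i hk x h1]
        exact ⟨by omega, by rw [ev_succ_low s h1, ev_succ_top s h1]⟩
    · obtain ⟨y, rfl⟩ : ∃ y, x = y + 2 ^ k := ⟨x - 2 ^ k, by omega⟩
      have hy : y < 2 ^ k := by omega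
      rcases Nat.lt_or_ge i k with h2 | h2
      · obtain ⟨h3, h4⟩ := run_spec ih (cj k i) (H.cj_lt k hk i h2) y hy
        rw [T.tcj k hk y hy i h2]
        refine ⟨by omega, ?_⟩
        rw [ev_succ_top s hy, ev_succ_top s h3, mul_assoc, H.rcj k hk i h2, ← mul_assoc, h4]
      · have : i = k := by omega
        subst this
        obtain ⟨h3, h4⟩ := run_spec ih (sq i) (H.sq_lt i hk) y hy
        rw [T.tsq i hk y hy]
        refine ⟨by omega, ?_⟩
        rw [ev_succ_top s hy, ev_succ_low s h3, mul_assoc, H.rsq i hk, h4]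

section

variable {R : ℕ → ℕ → ℕ} {s : ℕ → G} {n : ℕ} {sq : ℕ → List ℕ} {cj : ℕ → ℕ → List ℕ}

theorem ev_mul (H : Rels s n sq cj) (T : Rules R n sq cj) {x : ℕ} (hx : x < 2 ^ n) (y : ℕ) :
    ∀ k ≤ n, mulk R x y k < 2 ^ n ∧ ev s x n * ev s y k = ev s (mulk R x y k) n
  | 0, _ => ⟨hx, mul_one _⟩
  | k + 1, hk => by
    obtain ⟨h1, h2⟩ := ev_mul H T hx y k (by omega)
    obtain ⟨h3, h4⟩ := ev_R H T n le_rfl _ h1 k (by omega)
    show (bif y.testBit k then R (mulk R x y k) k else mulk R x y k) < 2 ^ n ∧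
      ev s x n * (ev s y k * (bif y.testBit k then s k else 1)) =
        ev s (bif y.testBit k then R (mulk R x y k) k else mulk R x y k) n
    cases y.testBit k
    · exact ⟨h1, by rw [cond_false, cond_false, mul_one, h2]⟩
    · exact ⟨h3, by rw [cond_true, cond_true, ← mul_assoc, h2, h4]⟩

theorem mul_eq (H : Rels s n sq cj) (T : Rules R n sq cj) {x : ℕ} (hx : x < 2 ^ n) (y : ℕ) :
    ev s x n * ev s y n = ev s (mulk R x y n) n := (ev_mul H T hx y n le_rfl).2

theorem mulk_lt (H : Rels s n sq cj) (T : Rules R n sq cj) {x : ℕ} (hx : x < 2 ^ n) (y : ℕ) :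
    mulk R x y n < 2 ^ n := (ev_mul H T hx y n le_rfl).1

theorem prod_mem {B : Subgroup G} {L : List ℕ} (h : ∀ i ∈ L, s i ∈ B) : (L.map s).prod ∈ B := by
  apply Subgroup.list_prod_mem
  intro x hx
  obtain ⟨i, hi, rfl⟩ := List.mem_map.1 hx
  exact h i hi

theorem Rels.step (H : Rels s n sq cj) {k : ℕ} (hk : k < n) : Step s k := by
  refine ⟨?_, fun i hi => ?_⟩
  · rw [H.rsq k hk]
    exact prod_mem fun j hj => mem_Pc (H.sq_lt k hk j hj)
  · rw [H.rcj k hk i hi, mul_inv_cancel_right]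
    exact prod_mem fun j hj => mem_Pc (H.cj_lt k hk i hi j hj)

/-- every element has a code -/
theorem exists_code (H : Rels s n sq cj) : ∀ k ≤ n, ∀ g ∈ Pc s k, ∃ x < 2 ^ k, g = ev s x k
  | 0, _, g, hg => by
    rw [Pc_zero, Subgroup.mem_bot] at hg
    exact ⟨0, by norm_num, hg⟩
  | k + 1, hk, g, hg => by
    have hp : 2 ^ (k + 1) = 2 ^ k + 2 ^ k := by rw [pow_succ]; ring
    rcases (H.step (k := k) (by omega)).mem hg with h | h
    · obtain ⟨x, hx, rfl⟩ := exists_code H k (by omega) g h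
      exact ⟨x, by omega, (ev_succ_low s hx).symm⟩
    · obtain ⟨x, hx, h1⟩ := exists_code H k (by omega) _ h
      refine ⟨x + 2 ^ k, by omega, ?_⟩
      rw [ev_succ_top s hx, ← h1, inv_mul_cancel_right]

/-- codes are unique if the order is right -/
theorem code_inj (H : Rels s n sq cj) {k : ℕ} (hk : k ≤ n) (hc : Nat.card (Pc s k) = 2 ^ k) {x y : ℕ}
    (hx : x < 2 ^ k) (hy : y < 2 ^ k) (h : ev s x k = ev s y k) : x = y := by
  classical
  let φ : Fin (2 ^ k) → Pc s k := fun x => ⟨ev s x k, ev_mem s x k⟩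
  have hsurj : Function.Surjective φ := by
    rintro ⟨g, hg⟩
    obtain ⟨x, hx, rfl⟩ := exists_code H k hk g hg
    exact ⟨⟨x, hx⟩, rfl⟩
  have hfin : Finite (Pc s k) := Nat.finite_of_card_ne_zero (by rw [hc]; positivity)
  have := Fintype.ofFinite (Pc s k)
  have hbij : Function.Bijective φ := by
    rw [Fintype.bijective_iff_surjective_and_card]
    refine ⟨hsurj, ?_⟩
    rw [Fintype.card_fin, ← Nat.card_eq_fintype_card, hc]
  have := hbij.1 (a₁ := ⟨x, hx⟩) (a₂ := ⟨y, hy⟩) (Subtype.ext h)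
  exact congrArg Fin.val this

/-- the image of `ev` under a homomorphism -/
def hk (R : ℕ → ℕ → ℕ) (n : ℕ) (c : ℕ → ℕ) (x : ℕ) : ℕ → ℕ
  | 0 => 0
  | k + 1 => bif x.testBit k then mulk R (hk R n c x k) (c k) n else hk R n c x k

theorem ev_zero (s : ℕ → G) : ∀ k, ev s 0 k = 1
  | 0 => rfl
  | k + 1 => by
    show ev s 0 k * (bif (0 : ℕ).testBit k then s k else 1) = 1
    rw [ev_zero s k, Nat.zero_testBit]; exact mul_one _

theorem hk_spec (H : Rels s n sq cj) (T : Rules R n sq cj) {c : ℕ → ℕ} (f : G →* G)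
    (hc : ∀ i < n, f (s i) = ev s (c i) n) (x : ℕ) :
    ∀ k ≤ n, hk R n c x k < 2 ^ n ∧ f (ev s x k) = ev s (hk R n c x k) n
  | 0, _ => ⟨by show 0 < 2 ^ n; positivity, by show f 1 = ev s 0 n; rw [map_one, ev_zero]⟩
  | k + 1, h => by
    obtain ⟨h1, h2⟩ := hk_spec H T f hc x k (by omega)
    show (bif x.testBit k then mulk R (hk R n c x k) (c k) n else hk R n c x k) < 2 ^ n ∧
      f (ev s x k * (bif x.testBit k then s k else 1)) =
        ev s (bif x.testBit k then mulk R (hk R n c x k) (c k) n else hk R n c x k) n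
    cases x.testBit k
    · exact ⟨h1, by rw [cond_false, cond_false, mul_one, h2]⟩
    · refine ⟨mulk_lt H T h1 _, ?_⟩
      rw [cond_true, cond_true, map_mul, h2, hc k (by omega), mul_eq H T h1]

end

end Cfsg.Agent.UGT.C.PcTab
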